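import Cfsg.Agent.Lib.TwoPtAlt.Count
import Cfsg.Agent.Lib.BrauerSuzuki.ZStar
import Cfsg.Agent.Lib.GW.InvolAction

/-!
# Two-point stabilisers isomorphic to `A₄` or `A₅`: odd degree, central swapper
-/

set_option autoImplicit false
set_option linter.unusedSectionVars false
set_option linter.style.haveILetI false

namespace Cfsg.Agent.TwoPtAlt

open MulAction Cfsg.Agent.Zass
open scoped Classical

universe u v

variable {G : Type u} [Group G] [Finite G] {Ω : Type v} [MulAction G Ω] [Fintype Ω]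

/-- An isolated involution. -/
theorem zstar_split {u : G} (hu : orderOf u = 2) (hiso : Cfsg.IsIsolated u) :
    Subgroup.centralizer ({u} : Set G) ⊔ Cfsg.oddCore G = ⊤ := by
  haveI : (Cfsg.oddCore G).Normal := Cfsg.Agent.FittingCores.pPrimeCore_normal 2
  have hO : Odd (Nat.card (Cfsg.oddCore G)) := Nat.coprime_two_right.1 (PBasic.pPrimeCore_coprime 2 G)
  have huu : u * u = 1 := by rw [← pow_two, ← hu, pow_orderOf_eq_one]
  have h := BrauerSuzuki.zStar G u hu hiso
  refine eq_top_iff.2 fun g _ => ?_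
  have hm : u * g * u⁻¹ * g⁻¹ ∈ Cfsg.oddCore G := by
    have := inv_mem (h g)
    simpa [mul_assoc] using this
  have e : (u : G ⧸ Cfsg.oddCore G) * g = g * u := by
    have h1 := (QuotientGroup.eq_one_iff _).2 hm
    rw [QuotientGroup.mk_mul, QuotientGroup.mk_mul, QuotientGroup.mk_mul, QuotientGroup.mk_inv,
      QuotientGroup.mk_inv, mul_inv_eq_one, mul_inv_eq_iff_eq_mul] at h1
    exact h1
  obtain ⟨k, hk, hc⟩ := GW.exists_cent_lift hO huu e
  rw [show g = g * k * k⁻¹ by group]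
  exact Subgroup.mul_mem _ (Subgroup.mem_sup_left (Subgroup.mem_centralizer_singleton_iff.2 hc.symm))
    (Subgroup.mem_sup_right (inv_mem hk))

namespace Data

variable {a b : Ω} {V : Subgroup G} {J : G} {hh : ℕ} (d : Data a b V J hh)
include d

theorem odd_i (hn : Odd (Nat.card Ω)) : Odd (fx1 Ω J) := by
  rw [Nat.odd_iff, ← d.j_even_or_odd]
  exact Nat.odd_iff.mp hn

/-- An involution which is not good fixes exactly one point. -/
theorem nongood_fix (hn : Odd (Nat.card Ω)) {s : G} (hs : s * s = 1) (hs1 : s ≠ 1)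
    (hng : ¬ IsConj J s) : Set.ncard {p : Ω | p ∈ (Set.univ : Set Ω) ∧ s • p = p} = 1 := by
  have ho : orderOf s = 2 := orderOf_eq_prime (by rw [pow_two]; exact hs) hs1
  have hle : fx1 Ω s ≤ 1 := by
    by_contra h
    obtain ⟨c, h1, c', h2, hne⟩ := (Set.one_lt_ncard (Set.toFinite _)).mp (not_le.mp h)
    exact hng (d.good_of_fixed ho hne h1 h2)
  have hpar := invol_parity (Ω := Ω) ho
  rw [Nat.odd_iff.mp hn] at hpar
  have : {p : Ω | p ∈ (Set.univ : Set Ω) ∧ s • p = p} = {p : Ω | s • p = p} := by simp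
  rw [this]
  show fx1 Ω s = 1
  omega

/-- The number of non-good involutions at a point. -/
theorem nongood_point (hn : Odd (Nat.card Ω)) :
    Set.ncard {s : G | (s * s = 1 ∧ s ≠ 1 ∧ ¬ IsConj J s) ∧ s • a = a} =
      Set.ncard {s : G | (s * s = 1 ∧ s ≠ 1 ∧ ¬ IsConj J s) ∧ s • a = b} := by
  refine per_point (⊤ : Subgroup G) Set.univ trivial trivial d.ne (fun _ _ _ _ => trivial)
    (fun c _ c' _ hne => ?_) {s : G | s * s = 1 ∧ s ≠ 1 ∧ ¬ IsConj J s} ?_ (fun _ _ _ _ => trivial)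
    fun s hs => d.nongood_fix hn hs.1 hs.2.1 hs.2.2
  · obtain ⟨g, g1, g2⟩ := d.move d.ne hne
    exact ⟨g, trivial, g1, g2⟩
  · rintro g - s ⟨h1, h2, h3⟩
    refine ⟨?_, fun e => h2 (conj_eq_one_iff.mp e), fun e => h3 (e.trans (isConj_iff.mpr ⟨g⁻¹, by group⟩))⟩
    rw [show g * s * g⁻¹ * (g * s * g⁻¹) = g * (s * s) * g⁻¹ by group, h1, mul_one, mul_inv_cancel]

theorem swapper_decomp {z s : G} (hzz : z * z = 1) (hza : z • a = b) (hzb : z • b = a)
    (hzc : ∀ h ∈ Zass.two (G := G) a b, z * h = h * z) (hs : s * s = 1) (hsa : s • a = b) :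
    s = z ∨ ∃ h ∈ Zass.two (G := G) a b, orderOf h = 2 ∧ s = z * h := by
  have hm : z * s ∈ Zass.two (G := G) a b := mem_two.mpr
    ⟨by rw [mul_smul, hsa, hzb], by rw [mul_smul, swap_back hs hsa, hza]⟩
  have hback : z * (z * s) = s := by rw [← mul_assoc, hzz, one_mul]
  rcases eq_or_ne (z * s) 1 with e | e
  · left; rw [← hback, e, mul_one]
  · refine Or.inr ⟨z * s, hm, orderOf_eq_prime ?_ e, hback.symm⟩
    rw [pow_two]
    calc z * s * (z * s) = z * (s * z) * s := by group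
      _ = z * (z * (z * s) * z) * s := by rw [hback]
      _ = z * (z * (z * (z * s))) * s := by rw [mul_assoc z (z * s) z, ← hzc _ hm]
      _ = 1 := by rw [hback, hback, hs]

/-- The involutions moving `a` to `b` in the central type. -/
theorem z_swappers {z : G} (hzz : z * z = 1) (hza : z • a = b) (hzb : z • b = a)
    (hzc : ∀ h ∈ Zass.two (G := G) a b, z * h = h * z) :
    Set.ncard {s : G | s * s = 1 ∧ s • a = b} = hh + 1 := by
  have e : {s : G | s * s = 1 ∧ s • a = b} =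
      insert z ((z * ·) '' {s : G | s ∈ Zass.two (G := G) a b ∧ orderOf s = 2}) := by
    ext s
    constructor
    · rintro ⟨hs, hsa⟩
      rcases d.swapper_decomp hzz hza hzb hzc hs hsa with e | ⟨h, hh', ho, e⟩
      · exact Set.mem_insert_iff.mpr (Or.inl e)
      · exact Set.mem_insert_iff.mpr (Or.inr ⟨h, ⟨hh', ho⟩, e.symm⟩)
    · rintro (e | ⟨h, ⟨hh', ho⟩, e⟩)
      · subst e; exact ⟨hzz, hza⟩
      · subst e
        refine ⟨?_, ?_⟩
        · calc z * h * (z * h) = z * (h * z) * h := by group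
            _ = z * z * (h * h) := by rw [← hzc h hh']; group
            _ = 1 := by rw [hzz, one_mul, ← pow_two, ← ho, pow_orderOf_eq_one]
        · show (z * h) • a = b
          rw [mul_smul, (mem_two.mp hh').1, hza]
  rw [e, Set.ncard_insert_of_notMem, Set.ncard_image_of_injective _ (mul_right_injective z), d.card_invol]
  rintro ⟨h, ⟨-, ho⟩, he⟩
  rw [mul_eq_left] at he
  rw [he, orderOf_one] at ho
  omega

/-- `r = hh`: there is an isolated involution. -/
theorem isolated_of_r_eq (hZ : ZType G a b) (hn : Odd (Nat.card Ω)) (hr : rNum J a b = hh) :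
    ∃ u : G, orderOf u = 2 ∧ Cfsg.IsIsolated u ∧ ∃ c : Ω, u • c = c := by
  obtain ⟨z, hzz, hza, hzb, hzc⟩ := hZ
  have hP : Set.ncard {s : G | (s * s = 1 ∧ s ≠ 1 ∧ ¬ IsConj J s) ∧ s • a = b} = 1 := by
    have e : {s : G | (s * s = 1 ∧ s ≠ 1 ∧ ¬ IsConj J s) ∧ s • a = b} =
        {s : G | s * s = 1 ∧ s • a = b} \ {s : G | IsConj J s ∧ s • a = b} := by
      ext s
      refine ⟨fun h => ⟨⟨h.1.1, h.2⟩, fun h' => h.1.2.2 h'.1⟩, fun h => ⟨⟨h.1.1, ?_, fun h' => h.2 ⟨h', h.1.2⟩⟩, h.1.2⟩⟩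
      intro e1
      have := h.1.2
      rw [e1, one_smul] at this
      exact d.ne this
    have hsub : {s : G | IsConj J s ∧ s • a = b} ⊆ {s : G | s * s = 1 ∧ s • a = b} := fun s hs =>
      ⟨by rw [← pow_two, ← d.good_order hs.1, pow_orderOf_eq_one], hs.2⟩
    rw [e, Set.ncard_sdiff hsub (Set.toFinite _), d.z_swappers hzz hza hzb hzc]
    show hh + 1 - rNum J a b = 1
    rw [hr]
    omega
  have hQ := (d.nongood_point hn).trans hP
  obtain ⟨u, ⟨hu, hu1, hung⟩, hua⟩ : ∃ u, (u * u = 1 ∧ u ≠ 1 ∧ ¬ IsConj J u) ∧ u • a = a :=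
    Set.nonempty_of_ncard_ne_zero (s := {s : G | (s * s = 1 ∧ s ≠ 1 ∧ ¬ IsConj J s) ∧ s • a = a})
      (by rw [hQ]; omega)
  refine ⟨u, orderOf_eq_prime (by rw [pow_two]; exact hu) hu1, fun g hg => ?_, a, hua⟩
  obtain ⟨c0, hc0⟩ := Set.ncard_eq_one.mp (d.nongood_fix hn hu hu1 hung)
  have hga : (g * u * g⁻¹) • (g • a) = g • a := by rw [mul_smul, mul_smul, inv_smul_smul, hua]
  have hmem : u • (g • a) = g • a := by
    have hu2 : (g * u * g⁻¹) * (g * u * g⁻¹) = 1 := by
      rw [show g * u * g⁻¹ * (g * u * g⁻¹) = g * (u * u) * g⁻¹ by group, hu, mul_one, mul_inv_cancel]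
    have hu3 : g * u * g⁻¹ ≠ 1 := fun e => hu1 (conj_eq_one_iff.mp e)
    have hu4 : ¬ IsConj J (g * u * g⁻¹) := fun e => hung (e.trans (isConj_iff.mpr ⟨g⁻¹, by group⟩))
    obtain ⟨c1, hc1⟩ := Set.ncard_eq_one.mp (d.nongood_fix hn hu2 hu3 hu4)
    have h1 : g • a = c1 := hc1.le ⟨trivial, hga⟩
    have h2 : u • (g • a) = c1 := hc1.le ⟨trivial, by rw [← mul_smul, ← hg.eq, mul_smul, hga]⟩
    rw [h2, h1]
  have hga' : g • a = a := (hc0.le ⟨trivial, hmem⟩).trans (hc0.le ⟨trivial, hua⟩).symm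
  obtain ⟨s, hs⟩ := Set.ncard_eq_one.mp hQ
  have hu2 : (g * u * g⁻¹) * (g * u * g⁻¹) = 1 := by
    rw [show g * u * g⁻¹ * (g * u * g⁻¹) = g * (u * u) * g⁻¹ by group, hu, mul_one, mul_inv_cancel]
  exact (hs.le ⟨⟨hu2, fun e => hu1 (conj_eq_one_iff.mp e),
    fun e => hung (e.trans (isConj_iff.mpr ⟨g⁻¹, by group⟩))⟩, by rw [hga'] at hga; exact hga⟩).trans
    (hs.le ⟨⟨hu, hu1, hung⟩, hua⟩).symm

set_option maxHeartbeats 1000000 in
/-- `r = 1` is impossible in odd degree. -/
theorem r_ne_one (hZ : ZType G a b) (hn : Odd (Nat.card Ω)) : rNum J a b ≠ 1 := by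
  intro hr
  obtain ⟨z, hzz, hza, hzb, hzc⟩ := hZ
  set H : Subgroup G := Zass.two a b with hH
  obtain ⟨g₀, hg₀⟩ := Set.ncard_eq_one.mp hr
  have hg₀m : IsConj J g₀ ∧ g₀ • a = b := hg₀.ge rfl
  -- the only good swapper is `z`
  have hzgood : IsConj J z := by
    have hgg : g₀ * g₀ = 1 := by rw [← pow_two, ← d.good_order hg₀m.1, pow_orderOf_eq_one]
    rcases d.swapper_decomp hzz hza hzb hzc hgg hg₀m.2 with e | ⟨h, hh', ho, e⟩
    · exact e ▸ hg₀m.1
    · exfalso
      subst e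
      have hinv : ∀ k ∈ H, k * h = h * k := by
        intro k hk
        have hzk : k * z * k⁻¹ = z := mul_inv_eq_iff_eq_mul.mpr (hzc k hk).symm
        have hm : k * (z * h) * k⁻¹ = z * h := by
          refine hg₀.le ⟨hg₀m.1.trans (isConj_iff.mpr ⟨k, rfl⟩), ?_⟩
          have hka : k⁻¹ • a = a := by rw [inv_smul_eq_iff, (mem_two.mp hk).1]
          rw [mul_smul, mul_smul, hka, mul_smul, (mem_two.mp hh').1, hza, (mem_two.mp hk).2]
        have : z * (k * h * k⁻¹) = z * h := by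
          calc z * (k * h * k⁻¹) = k * z * k⁻¹ * (k * h * k⁻¹) := by rw [hzk]
            _ = k * (z * h) * k⁻¹ := by group
            _ = z * h := hm
        exact mul_inv_eq_iff_eq_mul.mp (mul_left_cancel this)
      have := d.centre h hh' fun k hk => (hinv k hk).symm
      rw [this, orderOf_one] at ho
      omega
  have hzu : ∀ s : G, IsConj J s → s • a = b → s = z := fun s hs hsa =>
    (hg₀.le ⟨hs, hsa⟩).trans (hg₀.le ⟨hzgood, hza⟩).symm
  set I : Set G := {s : G | s ∈ H ∧ orderOf s = 2} with hI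
  have hIsq : ∀ s ∈ I, s * s = 1 := fun s hs => by rw [← pow_two, ← hs.2, pow_orderOf_eq_one]
  have hB : ∀ s ∈ I, (z * s) * (z * s) = 1 ∧ z * s ≠ 1 ∧ ¬ IsConj J (z * s) := by
    intro s hs
    refine ⟨?_, fun e => ?_, fun e => ?_⟩
    · calc z * s * (z * s) = z * (s * z) * s := by group
        _ = z * z * (s * s) := by rw [← hzc s hs.1]; group
        _ = 1 := by rw [hzz, hIsq s hs, one_mul]
    · have := congrArg (fun x : G => x • a) e
      simp only [mul_smul, one_smul, (mem_two.mp hs.1).1, hza] at this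
      exact d.ne this.symm
    · have h1 := hzu _ e (by rw [mul_smul, (mem_two.mp hs.1).1, hza])
      rw [mul_eq_left] at h1
      have h2 := hs.2
      rw [h1, orderOf_one] at h2
      omega
  have hVI : ∀ v ∈ V, v ≠ 1 → v ∈ I := fun v hv hv1 => ⟨d.le hv, d.order hv hv1⟩
  obtain ⟨hJ2, hJ1, hJng⟩ := hB J (hVI J d.memJ d.neJ)
  obtain ⟨c0, hc0⟩ := Set.ncard_eq_one.mp (d.nongood_fix hn hJ2 hJ1 hJng)
  have huniq : ∀ p : Ω, (z * J) • p = p → p = c0 := fun p hp => hc0.le ⟨trivial, hp⟩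
  have hfix : (z * J) • c0 = c0 := (hc0.ge rfl).2
  have hcomm_fix : ∀ x : G, x * (z * J) = (z * J) * x → x • c0 = c0 := fun x hx =>
    huniq _ (by rw [← mul_smul, ← hx, mul_smul, hfix])
  have hzc0 : z • c0 = c0 := hcomm_fix z (by rw [mul_assoc z J z, ← hzc J d.J_mem])
  have hVc0 : ∀ v ∈ V, v • c0 = c0 := fun v hv => hcomm_fix v (by
    rw [← mul_assoc, ← hzc v (d.le hv), mul_assoc, d.comm hv d.memJ, ← mul_assoc])
  -- the two-point stabiliser fixes `c0`
  set K0 : Subgroup G := H ⊓ Subgroup.normalizer (V : Set G) with hK0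
  have hconjzJ : ∀ k ∈ H, k * (z * J) * k⁻¹ = z * (k * J * k⁻¹) := fun k hk => by
    calc k * (z * J) * k⁻¹ = k * z * (J * k⁻¹) := by group
      _ = z * (k * J * k⁻¹) := by rw [← hzc k hk]; group
  have hK0fix : ∀ k ∈ K0, k • c0 = c0 := by
    rintro k ⟨hk, hkN⟩
    have hv : k * J * k⁻¹ ∈ V := (Subgroup.mem_normalizer_iff.mp hkN J).mp d.memJ
    have hzv : (z * (k * J * k⁻¹)) • c0 = c0 := by rw [mul_smul, hVc0 _ hv, hzc0]
    rw [← hconjzJ k hk, mul_smul, mul_smul] at hzv
    have := huniq (k⁻¹ • c0) (eq_inv_smul_iff.mpr hzv)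
    rw [inv_smul_eq_iff] at this
    exact this.symm
  have hK0V : ∀ x ∈ K0, x ^ 4 = 1 → x ∈ V := by
    intro x hx h4
    haveI : (V.subgroupOf K0).Normal := ⟨fun y hy g => by
      rw [Subgroup.mem_subgroupOf] at hy ⊢
      exact (Subgroup.mem_normalizer_iff.mp g.2.2 _).mp hy⟩
    have hi : (V.subgroupOf K0).index = 3 := by
      have h := Subgroup.card_mul_index (V.subgroupOf K0)
      rw [Nat.card_congr (Subgroup.subgroupOfEquivOfLe
        (le_inf d.le Subgroup.le_normalizer : V ≤ K0)).toEquiv, d.card_V,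
        (d.normV : Nat.card K0 = 12)] at h
      omega
    have h3 := Subgroup.pow_index_mem (V.subgroupOf K0) (⟨x, hx⟩ : K0)
    rw [hi] at h3
    have h3' : x ^ 3 ∈ V := h3
    have e : x = (x ^ 3)⁻¹ := by rw [eq_inv_iff_mul_eq_one, ← pow_succ', h4]
    rw [e]
    exact inv_mem h3'
  have hHfix : ∀ g ∈ H, g • c0 = c0 := by
    intro g hg
    by_contra hne
    set K1 : Subgroup G := K0.map (MulAut.conj g).toMonoidHom with hK1
    have hK1H : K1 ≤ H := by
      rintro _ ⟨k, hk, rfl⟩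
      exact mul_mem (mul_mem hg hk.1) (inv_mem hg)
    have hK1fix : ∀ k ∈ K1, k • (g • c0) = g • c0 := by
      rintro _ ⟨k, hk, rfl⟩
      show (g * k * g⁻¹) • (g • c0) = g • c0
      rw [mul_smul, mul_smul, inv_smul_smul, hK0fix k hk]
    have hz1 : z • (g • c0) = g • c0 := by rw [← mul_smul, hzc g hg, mul_smul, hzc0]
    obtain ⟨k, k1, k2, k3⟩ := d.isConj_of_fixed (d.good_order hzgood) (Ne.symm hne) hzc0 hz1
    have hzk : k⁻¹ * z * k = J := by rw [← k3]; group
    set D : Subgroup G := K1 ⊓ K0 with hD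
    have hDV : D.map (MulAut.conj k⁻¹).toMonoidHom ≤ V := by
      rintro _ ⟨x, hx, rfl⟩
      show k⁻¹ * x * k⁻¹⁻¹ ∈ V
      rw [inv_inv]
      refine d.cent _ (mem_two.mpr ⟨?_, ?_⟩) ?_
      · rw [mul_smul, mul_smul, k1, hK0fix x hx.2, inv_smul_eq_iff, k1]
      · rw [mul_smul, mul_smul, k2, hK1fix x hx.1, inv_smul_eq_iff, k2]
      · calc k⁻¹ * x * k * J = k⁻¹ * x * k * (k⁻¹ * z * k) := by rw [hzk]
          _ = k⁻¹ * (x * z) * k := by group
          _ = k⁻¹ * z * k * (k⁻¹ * x * k) := by rw [← hzc x hx.2.1]; group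
          _ = J * (k⁻¹ * x * k) := by rw [hzk]
    have hDdvd : Nat.card D ∣ 4 := by
      rw [← Subgroup.card_map_of_injective (f := (MulAut.conj k⁻¹).toMonoidHom) (MulAut.conj k⁻¹).injective (K := D),
        ← d.card_V]
      exact Subgroup.card_dvd_of_le hDV
    have hK0card : Nat.card K0 = 12 := d.normV
    have hK1card : Nat.card K1 = 12 := by
      rw [hK1, Subgroup.card_map_of_injective (MulAut.conj g).injective, hK0card]
    have hD3 : 3 ≤ Nat.card D := by
      have h1 := Subgroup.card_mul_index (K1.subgroupOf K0)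
      rw [← Subgroup.inf_subgroupOf_right, Nat.card_congr (Subgroup.subgroupOfEquivOfLe
        (inf_le_right : K1 ⊓ K0 ≤ K0)).toEquiv, Subgroup.inf_subgroupOf_right, ← Subgroup.relIndex,
        hK0card] at h1
      have h2 := Subgroup.card_mul_index (K1.subgroupOf H)
      rw [Nat.card_congr (Subgroup.subgroupOfEquivOfLe hK1H).toEquiv, hK1card, ← Subgroup.relIndex] at h2
      have h3 : Nat.card H ≤ 60 := by rcases d.cardH with ⟨e, -⟩ | ⟨e, -⟩ <;> rw [hH, e] <;> norm_num
      have h4 : K1.relIndex K0 ≤ K1.relIndex H :=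
        Subgroup.relIndex_le_of_le_right (inf_le_left : K0 ≤ H) Subgroup.index_ne_zero_of_finite
      have h5 : K1.relIndex H ≤ 5 := by omega
      rw [← hD] at h1
      by_contra h6
      have : Nat.card D * K1.relIndex K0 ≤ 2 * 5 := Nat.mul_le_mul (by omega) (h4.trans h5)
      omega
    have hD4 : Nat.card D = 4 := by
      have hle4 := Nat.le_of_dvd (by norm_num) hDdvd
      rcases Nat.lt_or_ge (Nat.card D) 4 with h | h
      · have h3 : Nat.card D = 3 := by omega
        rw [h3] at hDdvd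
        omega
      · omega
    have hpow : ∀ x ∈ D, x ^ 4 = 1 := fun x hx => by
      have := pow_card_eq_one' (G := D) (x := ⟨x, hx⟩)
      rw [hD4] at this
      exact congrArg Subtype.val this
    have hDeq : D = V := Subgroup.eq_of_le_of_card_ge (fun x hx => hK0V x hx.2 (hpow x hx))
      (by rw [hD4, d.card_V])
    have hgN : g⁻¹ ∈ Subgroup.normalizer (V : Set G) := by
      refine Subgroup.mem_normalizer_fintype fun v hv => ?_
      obtain ⟨k', hk', hke⟩ := (hDeq.ge hv).1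
      have hke' : g * k' * g⁻¹ = v := hke
      have : g⁻¹ * v * g⁻¹⁻¹ = k' := by rw [← hke']; group
      rw [this]
      refine hK0V k' hk' ?_
      have h4 := hpow v (hDeq.ge hv)
      rw [← hke', conj_pow, conj_eq_one_iff] at h4
      exact h4
    exact hne (hK0fix g ⟨hg, by simpa using (Subgroup.normalizer (V : Set G)).inv_mem hgN⟩)
  -- the non-good involutions at `c0`
  have hIfix : ∀ s ∈ I, (z * s) • c0 = c0 := fun s hs => by rw [mul_smul, hHfix s hs.1, hzc0]
  have hzIc : ∀ x : G, x * x = 1 → x ≠ 1 → ¬ IsConj J x → x • c0 = c0 → ∃ s ∈ I, x = z * s := by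
    intro x hx hx1 hxng hxc
    set T : Set G := {s : G | (s * s = 1 ∧ s ≠ 1 ∧ ¬ IsConj J s) ∧ s • c0 = c0}
    have hsub : (z * ·) '' I ⊆ T := by
      rintro _ ⟨s, hs, rfl⟩
      exact ⟨hB s hs, hIfix s hs⟩
    have hTle : T.ncard ≤ hh := by
      obtain ⟨g, g1, -⟩ : ∃ g : G, g • a = c0 ∧ True := by
        rcases eq_or_ne c0 a with e | e
        · exact ⟨1, by rw [one_smul, e], trivial⟩
        · obtain ⟨g, g1, -⟩ := d.move d.ne e
          exact ⟨g, g1, trivial⟩
      set Q : Set G := {s : G | (s * s = 1 ∧ s ≠ 1 ∧ ¬ IsConj J s) ∧ s • a = a}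
      have hQ : Q.ncard ≤ hh := by
        rw [d.nongood_point hn]
        have hsub' : {s : G | (s * s = 1 ∧ s ≠ 1 ∧ ¬ IsConj J s) ∧ s • a = b} ⊆
            {s : G | s * s = 1 ∧ s • a = b} \ {z} := fun s hs =>
          ⟨⟨hs.1.1, hs.2⟩, fun e => hs.1.2.2 (by rw [Set.mem_singleton_iff] at e; rw [e]; exact hzgood)⟩
        refine (Set.ncard_le_ncard hsub' (Set.toFinite _)).trans ?_
        rw [Set.ncard_sdiff_singleton_of_mem
          (show z ∈ {s : G | s * s = 1 ∧ s • a = b} from ⟨hzz, hza⟩), d.z_swappers hzz hza hzb hzc]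
        omega
      refine le_trans ?_ hQ
      refine Set.ncard_le_ncard_of_injOn (fun s => g⁻¹ * s * g) ?_ ?_ (Set.toFinite _)
      · rintro s ⟨⟨h1, h2, h3⟩, h4⟩
        refine ⟨⟨?_, fun e => h2 ?_, fun e => h3 (e.trans (isConj_iff.mpr ⟨g, by group⟩))⟩, ?_⟩
        · show g⁻¹ * s * g * (g⁻¹ * s * g) = 1
          rw [show g⁻¹ * s * g * (g⁻¹ * s * g) = g⁻¹ * (s * s) * g by group, h1, mul_one, inv_mul_cancel]
        · calc s = g * (g⁻¹ * s * g) * g⁻¹ := by group
            _ = 1 := by rw [show g⁻¹ * s * g = 1 from e]; group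
        · show (g⁻¹ * s * g) • a = a
          rw [mul_smul, mul_smul, g1, h4, inv_smul_eq_iff, g1]
      · intro s _ t _ e
        exact mul_left_cancel (mul_right_cancel e)
    have heq := Set.eq_of_subset_of_ncard_le hsub (by
      rw [Set.ncard_image_of_injective _ (mul_right_injective z), d.card_invol]; exact hTle) (Set.toFinite _)
    obtain ⟨s, hs, he⟩ := heq.ge (show x ∈ T from ⟨⟨hx, hx1, hxng⟩, hxc⟩)
    exact ⟨s, hs, he.symm⟩
  -- `z` is central in the stabiliser of `c0`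
  have hcentral : ∀ g : G, g • c0 = c0 → g * z * g⁻¹ = z := by
    intro g hg
    have hconj : ∀ s ∈ I, ∃ s' ∈ I, g * (z * s) * g⁻¹ = z * s' := fun s hs => by
      obtain ⟨h1, h2, h3⟩ := hB s hs
      refine hzIc _ ?_ (fun e => h2 (conj_eq_one_iff.mp e))
        (fun e => h3 (e.trans (isConj_iff.mpr ⟨g⁻¹, by group⟩))) ?_
      · rw [show g * (z * s) * g⁻¹ * (g * (z * s) * g⁻¹) = g * ((z * s) * (z * s)) * g⁻¹ by group, h1,
          mul_one, mul_inv_cancel]
      · rw [mul_smul, mul_smul, inv_smul_eq_iff.mpr hg.symm, hIfix s hs, hg]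
    obtain ⟨w, hw, hw1, hwJ⟩ := d.exists_other
    have hwJ1 : w * J ≠ 1 := fun e => hwJ (by
      rw [mul_eq_one_iff_eq_inv] at e
      exact e.trans (inv_eq_of_mul_eq_one_right (d.sq d.memJ)))
    obtain ⟨s1, hs1, e1⟩ := hconj J (hVI J d.memJ d.neJ)
    obtain ⟨s2, hs2, e2⟩ := hconj w (hVI w hw hw1)
    obtain ⟨s3, hs3, e3⟩ := hconj (w * J) (hVI _ (mul_mem hw d.memJ) hwJ1)
    have hprod : z * J * (z * w) * (z * (w * J)) = z := by
      calc z * J * (z * w) * (z * (w * J)) = z * (J * z) * w * (z * (w * J)) := by group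
        _ = z * z * (J * w) * (z * (w * J)) := by rw [← hzc J d.J_mem]; group
        _ = J * w * z * (w * J) := by rw [hzz, one_mul, mul_assoc (J * w)]
        _ = z * ((J * w) * (w * J)) := by rw [← hzc _ (mul_mem d.J_mem (d.le hw))]; group
        _ = z := by rw [show J * w * (w * J) = J * (w * w) * J by group, d.sq hw, mul_one, d.sq d.memJ, mul_one]
    set h' := s1 * s2 * s3 with hh'
    have hz' : g * z * g⁻¹ = z * h' := by
      calc g * z * g⁻¹ = g * (z * J * (z * w) * (z * (w * J))) * g⁻¹ := by rw [hprod]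
        _ = g * (z * J) * g⁻¹ * (g * (z * w) * g⁻¹) * (g * (z * (w * J)) * g⁻¹) := by group
        _ = z * s1 * (z * s2) * (z * s3) := by rw [e1, e2, e3]
        _ = z * (s1 * z) * s2 * (z * s3) := by group
        _ = z * z * (s1 * s2) * (z * s3) := by rw [← hzc s1 hs1.1]; group
        _ = s1 * s2 * z * s3 := by rw [hzz]; group
        _ = z * h' := by rw [← hzc _ (mul_mem hs1.1 hs2.1), hh']; group
    have hh'H : h' ∈ H := mul_mem (mul_mem hs1.1 hs2.1) hs3.1
    -- `h'` commutes with `J`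
    have hh'J : h' * J = J * h' := by
      obtain ⟨s', hs', e'⟩ : ∃ s' ∈ I, g * (z * s') * g⁻¹ = z * J := by
        have h1 : g⁻¹ * (z * J) * g * (g⁻¹ * (z * J) * g) = 1 := by
          calc g⁻¹ * (z * J) * g * (g⁻¹ * (z * J) * g) = g⁻¹ * ((z * J) * (z * J)) * g := by group
            _ = 1 := by rw [hJ2]; group
        have h2 : g⁻¹ * (z * J) * g ≠ 1 := by
          intro e
          refine hJ1 ?_
          calc z * J = g * (g⁻¹ * (z * J) * g) * g⁻¹ := by group
            _ = 1 := by rw [e]; group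
        have h3 : ¬ IsConj J (g⁻¹ * (z * J) * g) := fun e =>
          hJng (e.trans (isConj_iff.mpr ⟨g, by group⟩))
        have h4 : (g⁻¹ * (z * J) * g) • c0 = c0 := by
          rw [mul_smul, mul_smul, hg, hfix, inv_smul_eq_iff, hg]
        obtain ⟨s', hs', e'⟩ := hzIc _ h1 h2 h3 h4
        refine ⟨s', hs', ?_⟩
        rw [← e']
        group
      have hc : z * s' * z = z * (z * s') := by
        rw [mul_assoc, ← hzc s' hs'.1]
      have hc' : (z * h') * (z * J) = (z * J) * (z * h') := by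
        rw [← hz', ← e']
        calc g * z * g⁻¹ * (g * (z * s') * g⁻¹) = g * (z * (z * s')) * g⁻¹ := by group
          _ = g * (z * s' * z) * g⁻¹ := by rw [hc]
          _ = g * (z * s') * g⁻¹ * (g * z * g⁻¹) := by group
      have hl : z * h' * (z * J) = h' * J := by
        rw [hzc h' hh'H]
        calc h' * z * (z * J) = h' * (z * z) * J := by group
          _ = h' * J := by rw [hzz, mul_one]
      have hr' : z * J * (z * h') = J * h' := by
        rw [hzc J d.J_mem]
        calc J * z * (z * h') = J * (z * z) * h' := by group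
          _ = J * h' := by rw [hzz, mul_one]
      rw [← hl, hc', hr']
    have hh'V : h' ∈ V := d.cent h' hh'H hh'J
    rcases eq_or_ne h' 1 with e | e
    · rw [hz', e, mul_one]
    · exfalso
      exact (hB h' (hVI h' hh'V e)).2.2 (hzgood.trans (isConj_iff.mpr ⟨g, hz'⟩))
  obtain ⟨c1, hzc1, hne⟩ : ∃ c1, z • c1 = c1 ∧ c1 ≠ c0 := by
    by_contra hno
    push Not at hno
    have hle : fx1 Ω z ≤ 1 := by
      rw [← Set.ncard_singleton c0]
      exact Set.ncard_le_ncard (fun p hp => hno p hp) (Set.toFinite _)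
    have := d.good_fx hzgood
    have := d.two_le_i
    omega
  have hall : ∀ p : Ω, z • p = p := by
    intro p
    rcases eq_or_ne p c0 with e | e
    · rw [e, hzc0]
    · obtain ⟨g, g1, g2⟩ := d.move (Ne.symm hne) (Ne.symm e)
      have hzp : (g * z * g⁻¹) • (g • c1) = g • c1 := by rw [mul_smul, mul_smul, inv_smul_smul, hzc1]
      rwa [hcentral g g1, g2] at hzp
  exact d.ne ((hall a).symm.trans hza)

end Data

end Cfsg.Agent.TwoPtAlt
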