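import Mathlib.Tactic

/-!
# Two-point stabilisers isomorphic to `A₄` or `A₅`: arithmetic
-/

set_option autoImplicit false

namespace Cfsg.Agent.TwoPtAlt

/-- The two possible values of the number of involutions of a dihedral-Sylow point stabiliser. -/
def XVal (w u x : ℕ) : Prop :=
  x = w * w * ((4 * u + 1) * (2 * u + 1)) ∨ x = w * w * ((4 * u - 1) * (2 * u - 1))

theorem xval_lin {w t x : ℕ} (h : XVal w (2 * t + 1) x) :
    x = 8 * (w * (2 * t + 1)) ^ 2 + 6 * w * (w * (2 * t + 1)) + w ^ 2 ∨
      x + 6 * w * (w * (2 * t + 1)) = 8 * (w * (2 * t + 1)) ^ 2 + w ^ 2 := by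
  rcases h with h | h
  · left; rw [h]; ring
  · right
    rw [h, show 4 * (2 * t + 1) - 1 = 8 * t + 3 by omega, show 2 * (2 * t + 1) - 1 = 4 * t + 1 by omega]
    ring

theorem odd_xval {w u x : ℕ} (hw : Odd w) (hu : Odd u) (h : XVal w u x) : Odd x := by
  obtain ⟨t, rfl⟩ := hu
  rcases h with h | h
  · rw [h]; exact (hw.mul hw).mul (Odd.mul ⟨4 * t + 2, by ring⟩ ⟨2 * t + 1, by ring⟩)
  · rw [h, show 4 * (2 * t + 1) - 1 = 8 * t + 3 by omega, show 2 * (2 * t + 1) - 1 = 4 * t + 1 by omega]
    exact (hw.mul hw).mul (Odd.mul ⟨4 * t + 1, by ring⟩ ⟨2 * t, by ring⟩)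

theorem no_pow_two {m n : ℕ} (h : n = 2 ^ m) : n ≠ 6 ∧ n ≠ 12 ∧ n ≠ 30 := by
  have h6 : m ≤ 5 ∨ 6 ≤ m := by omega
  rcases h6 with h6 | h6
  · interval_cases m <;> omega
  · have := Nat.pow_le_pow_right (show 2 > 0 by norm_num) h6
    omega

/-- `k = j + 1` or `2 j + 1` is impossible in even degree. -/
theorem even_no_line {hh r i j k w u x m : ℕ} (hhh : hh = 3 ∨ hh = 15) (hj : j = 2 ^ m) (hj2 : 2 ≤ j)
    (hr : r = hh ∨ r = hh + 1) (hx : x = hh + r * i) (hw : Odd w) (hu : Odd u) (hk : k = w * u)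
    (hxv : XVal w u x)
    (hcase : (i = j * j ∧ k = j + 1) ∨ (i + j = 2 * (j * j) ∧ k = 2 * j + 1 ∧ r = hh + 1)) : False := by
  obtain ⟨hn6, hn12, hn30⟩ := no_pow_two hj
  obtain ⟨t, rfl⟩ := hu
  have hw1 : 1 ≤ w := hw.pos
  have hl := xval_lin hxv
  rw [← hk] at hl
  clear hxv
  rcases Nat.eq_zero_or_pos t with ht | ht
  · subst ht
    have hkw : k = w := by simpa using hk
    subst hkw
    have hx' : x = 15 * k ^ 2 ∨ x = 3 * k ^ 2 := by
      rcases hl with hl | hl
      · left; rw [hl]; ring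
      · right; nlinarith
    rcases hcase with ⟨hi, hk⟩ | ⟨hi, hk, hr⟩
    · subst hi hk
      have hb : j ≤ 30 := by
        rcases hhh with rfl | rfl <;> rcases hr with rfl | rfl <;> rcases hx' with e | e <;>
          · rw [hx] at e; nlinarith
      interval_cases j <;> rcases hhh with rfl | rfl <;> rcases hr with rfl | rfl <;> omega
    · subst hk hr
      have hb : j ≤ 30 := by
        rcases hhh with rfl | rfl <;> rcases hx' with e | e <;>
          · rw [hx] at e; nlinarith
      interval_cases j <;> rcases hhh with rfl | rfl <;> omega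
  · have h3 : 3 * w ≤ k := by rw [hk]; nlinarith
    rcases hcase with ⟨hi, hk'⟩ | ⟨hi, hk', hr'⟩
    · subst hi
      rcases hhh with rfl | rfl
      · rcases hr with rfl | rfl <;> rcases hl with e | e <;> nlinarith
      · have hj4 : j ≤ 3 := by rcases hr with rfl | rfl <;> rcases hl with e | e <;> nlinarith
        have hj' : j = 2 := by
          rcases Nat.lt_or_ge j 3 with h | h
          · omega
          · exfalso
            have hj3 : j = 3 := by omega
            rcases Nat.eq_zero_or_pos m with hm | hm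
            · subst hm; omega
            · have : 2 ∣ j := hj ▸ dvd_pow_self 2 hm.ne'
              omega
        subst hj'
        have hw' : w = 1 := by omega
        subst hw' hk'
        rcases hr with rfl | rfl <;> rcases hl with e | e <;> omega
    · subst hr' hk'
      rcases hhh with rfl | rfl
      · rcases hl with e | e <;> nlinarith
      · rcases hl with e | e
        · nlinarith
        · rcases Nat.lt_or_ge w 4 with hw4 | hw4
          · interval_cases w
            · nlinarith
            · exact absurd hw (by decide)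
            · nlinarith
          · nlinarith

/-- The degree when `J` and `V` have the same fixed points. -/
theorem even_flat {hh r i w u x m : ℕ} (hhh : hh = 3 ∨ hh = 15) (hi : i = 2 ^ m) (hi2 : 2 ≤ i)
    (hr : r = 1 ∨ r = hh ∨ r = hh + 1) (hx : x = hh + r * i) (hk : w * u = 1)
    (hxv : XVal w u x) : hh = 3 ∧ r = 3 ∧ i = 4 := by
  obtain rfl : w = 1 := Nat.eq_one_of_mul_eq_one_right hk
  obtain rfl : u = 1 := by simpa using hk
  obtain ⟨hn6, hn12, hn30⟩ := no_pow_two hi
  have hev : 2 ∣ i := by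
    rcases Nat.eq_zero_or_pos m with hm | hm
    · subst hm; omega
    · exact hi ▸ dvd_pow_self 2 hm.ne'
  have hx' : x = 15 ∨ x = 3 := by rcases hxv with h | h <;> omega
  have hi12 : i ≤ 12 := by
    rcases hr with rfl | rfl | rfl <;> rcases hhh with rfl | rfl <;> omega
  rcases hr with rfl | rfl | rfl <;> rcases hhh with rfl | rfl <;> omega

end Cfsg.Agent.TwoPtAlt

namespace Cfsg.Agent.TwoPtAlt

/-- The case of even `u` with `k = w u / 2`. -/
theorem even_double {hh r i j k w u x m : ℕ} (hhh : hh = 3 ∨ hh = 15) (hj : j = 2 ^ m) (hj2 : 2 ≤ j)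
    (hx : x = hh + r * i) (hu : Even u) (hu0 : 0 < u) (hk : 2 * k = w * u)
    (hxv : XVal w u x)
    (hcase : (i = j ∧ k = 1 ∧ (r = 1 ∨ r = hh ∨ r = hh + 1)) ∨
      (i = j * j ∧ k = j + 1 ∧ (r = hh ∨ r = hh + 1)) ∨
      (i + j = 2 * (j * j) ∧ k = 2 * j + 1 ∧ r = hh + 1)) :
    hh = 15 ∧ r = hh ∧ i = 2 := by
  obtain ⟨t, rfl⟩ := hu
  obtain ⟨hn6, hn12, hn30⟩ := no_pow_two hj
  have hkt : k = w * t := by nlinarith
  have hev : 2 ∣ j := by
    rcases Nat.eq_zero_or_pos m with hm | hm
    · subst hm; omega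
    · exact hj ▸ dvd_pow_self 2 hm.ne'
  obtain ⟨s, rfl⟩ : ∃ s, t = s + 1 := ⟨t - 1, by omega⟩
  rcases hcase with ⟨hij, hk1, hr⟩ | hcase
  · obtain rfl : w = 1 := Nat.eq_one_of_mul_eq_one_right (hkt.symm.trans hk1)
    obtain rfl : s = 0 := by omega
    have hx' : x = 45 ∨ x = 21 := by rcases hxv with h | h <;> omega
    have hi : i ≤ 42 := by
      rcases hr with rfl | rfl | rfl <;> rcases hhh with rfl | rfl <;> omega
    rcases hr with rfl | rfl | rfl <;> rcases hhh with rfl | rfl <;>
      first | omega | skip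
    all_goals
      subst hij
      have hm6 : m ≤ 5 := by
        by_contra hm
        have := Nat.pow_le_pow_right (show 2 > 0 by norm_num) (show 6 ≤ m by omega)
        omega
      interval_cases m <;> omega
  · exfalso
    have hlow : 21 * k ^ 2 ≤ x := by
      rw [hkt]
      rcases hxv with h | h <;> rw [h]
      · ring_nf; nlinarith
      · rw [show 4 * (s + 1 + (s + 1)) - 1 = 8 * s + 7 by omega,
          show 2 * (s + 1 + (s + 1)) - 1 = 4 * s + 3 by omega]
        ring_nf; nlinarith
    rcases hcase with ⟨hi, hk', hr⟩ | ⟨hi, hk', hr⟩ <;> subst hk'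
    · subst hi
      rcases hhh with rfl | rfl <;> rcases hr with rfl | rfl <;> nlinarith
    · subst hr
      rcases hhh with rfl | rfl <;> nlinarith

/-- The alternating group of degree seven does not occur in even degree. -/
theorem even_seven {hh r i j k w x m : ℕ} (hhh : hh = 3 ∨ hh = 15) (hj : j = 2 ^ m) (hj2 : 2 ≤ j)
    (hx : x = hh + r * i) (hxv : x = 105 * w ^ 2) (hkw : k = w ∨ k = 3 * w)
    (hcase : (i = j ∧ k = 1 ∧ (r = 1 ∨ r = hh ∨ r = hh + 1)) ∨
      (i = j * j ∧ k = j + 1 ∧ (r = hh ∨ r = hh + 1)) ∨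
      (i + j = 2 * (j * j) ∧ k = 2 * j + 1 ∧ r = hh + 1)) : False := by
  obtain ⟨hn6, hn12, hn30⟩ := no_pow_two hj
  have hev : 2 ∣ j := by
    rcases Nat.eq_zero_or_pos m with hm | hm
    · subst hm; omega
    · exact hj ▸ dvd_pow_self 2 hm.ne'
  rcases hcase with ⟨hij, hk1, hr⟩ | hcase
  · obtain rfl : w = 1 := by omega
    subst hij
    have hm7 : m ≤ 7 := by
      by_contra hm
      have := Nat.pow_le_pow_right (show 2 > 0 by norm_num) (show 8 ≤ m by omega)
      rcases hr with rfl | rfl | rfl <;> rcases hhh with rfl | rfl <;> omega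
    interval_cases m <;> rcases hr with rfl | rfl | rfl <;> rcases hhh with rfl | rfl <;> omega
  · rcases hcase with ⟨hi, hk', hr⟩ | ⟨hi, hk', hr⟩ <;> subst hk'
    · subst hi
      rcases hkw with hkw | hkw
      · subst hkw
        rcases hhh with rfl | rfl <;> rcases hr with rfl | rfl <;> nlinarith
      · rcases hhh with rfl | rfl
        · rcases hr with rfl | rfl <;> nlinarith
        · have hb : j ≤ 40 := by rcases hr with rfl | rfl <;> nlinarith
          have hw20 : w ≤ 20 := by omega
          interval_cases w <;> rcases hr with rfl | rfl <;>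
            (have : j ≤ 40 := hb; interval_cases j <;> omega)
    · subst hr
      rcases hkw with hkw | hkw <;> rcases hhh with rfl | rfl <;> nlinarith

end Cfsg.Agent.TwoPtAlt
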