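import Cfsg.Agent.Lib.Zassenhaus.Setup
import Mathlib.GroupTheory.GroupAction.Quotient
import Mathlib.GroupTheory.SpecificGroups.KleinFour

/-!
# Two-point stabilisers isomorphic to `A₄` or `A₅`: the counting

`J` is an involution of the four-group `V` inside `H = G_{ab}`, with `i` fixed points, and `V` has
`j` fixed points. The good involutions are the conjugates of `J`; `x` of them fix a given point and
`r` of them interchange a given pair.
-/

set_option autoImplicit false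
set_option linter.unusedSectionVars false
set_option linter.style.haveILetI false

namespace Cfsg.Agent.TwoPtAlt

open MulAction Cfsg.Agent.Zass
open scoped Classical

universe u v

variable {G : Type u} [Group G] [Finite G] {Ω : Type v} [MulAction G Ω] [Fintype Ω]

/-- The standing data. -/
structure Data (a b : Ω) (V : Subgroup G) (J : G) (hh : ℕ) : Prop where
  ne : a ≠ b
  two : MulAction.IsMultiplyPretransitive G Ω 2
  faith : FaithfulSMul G Ω
  klein : IsKleinFour V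
  le : V ≤ Zass.two a b
  memJ : J ∈ V
  neJ : J ≠ 1
  conj : ∀ s ∈ Zass.two (G := G) a b, orderOf s = 2 → ∃ h ∈ Zass.two (G := G) a b, h * J * h⁻¹ = s
  cent : ∀ h ∈ Zass.two (G := G) a b, h * J = J * h → h ∈ V
  rot : ∃ w ∈ Zass.two (G := G) a b, (∀ v ∈ V, w * v * w⁻¹ ∈ V) ∧ w * J * w⁻¹ ≠ J
  cardH : (Nat.card (Zass.two (G := G) a b) = 12 ∧ hh = 3) ∨
    (Nat.card (Zass.two (G := G) a b) = 60 ∧ hh = 15)
  normV : Nat.card ↥(Zass.two (G := G) a b ⊓ Subgroup.normalizer (V : Set G)) = 12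
  centre : ∀ g ∈ Zass.two (G := G) a b, (∀ h ∈ Zass.two (G := G) a b, g * h = h * g) → g = 1

/-- A subgroup with an orbit: orbit-stabiliser with the stabiliser written as an intersection. -/
theorem card_orbit_stab {β : Type*} [MulAction G β] (K : Subgroup G) (p : β) (S : Set β)
    (hS : ∀ q, q ∈ S ↔ ∃ k ∈ K, k • p = q) :
    Nat.card K = S.ncard * Nat.card ↥(K ⊓ stabilizer G p) := by
  have e : orbit K p = S := by
    ext q
    rw [hS, mem_orbit_iff]
    exact ⟨fun ⟨k, hk⟩ => ⟨k, k.2, hk⟩, fun ⟨k, hk, h⟩ => ⟨⟨k, hk⟩, h⟩⟩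
  have e2 : Nat.card (stabilizer K p) = Nat.card ↥(K ⊓ stabilizer G p) :=
    Nat.card_congr
      { toFun := fun g => ⟨g.1.1, g.1.2, g.2⟩
        invFun := fun g => ⟨⟨g.1, g.2.1⟩, g.2.2⟩
        left_inv := fun _ => rfl
        right_inv := fun _ => rfl }
  rw [← e, ← e2, ← MulAction.index_stabilizer, Subgroup.index_mul_card]

/-- The number of fixed points of a subgroup. -/
noncomputable abbrev fxS (Ω : Type v) [MulAction G Ω] (X : Subgroup G) : ℕ :=
  Set.ncard {p : Ω | ∀ x ∈ X, x • p = p}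

/-- The number of fixed points of an element. -/
noncomputable abbrev fx1 (Ω : Type v) [MulAction G Ω] (g : G) : ℕ := Set.ncard {p : Ω | g • p = p}

/-- A pair transitive subgroup on an invariant set. -/
theorem card_two_trans (K : Subgroup G) (F : Set Ω) {a b : Ω} (ha : a ∈ F) (hb : b ∈ F) (hab : a ≠ b)
    (hinv : ∀ k ∈ K, ∀ p ∈ F, k • p ∈ F)
    (htr : ∀ c ∈ F, ∀ d ∈ F, c ≠ d → ∃ k ∈ K, k • a = c ∧ k • b = d) :
    Nat.card K = F.ncard * Nat.card ↥(K ⊓ stabilizer G a) ∧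
      Nat.card ↥(K ⊓ stabilizer G a) = (F.ncard - 1) * Nat.card ↥(K ⊓ Zass.two a b) := by
  constructor
  · refine card_orbit_stab K a F fun q => ⟨fun hq => ?_, ?_⟩
    · rcases eq_or_ne q a with rfl | hne
      · exact ⟨1, K.one_mem, one_smul G _⟩
      · obtain ⟨k, hk, h, -⟩ := htr q hq a ha hne
        exact ⟨k, hk, h⟩
    · rintro ⟨k, hk, rfl⟩
      exact hinv k hk a ha
  · rw [Zass.two, ← inf_assoc, ← Set.ncard_sdiff_singleton_of_mem ha]
    refine card_orbit_stab _ b (F \ {a}) fun q => ⟨fun hq => ?_, ?_⟩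
    · obtain ⟨k, hk, h1, h2⟩ := htr a ha q hq.1 (Ne.symm hq.2)
      exact ⟨k, ⟨hk, h1⟩, h2⟩
    · rintro ⟨k, ⟨hk, hka⟩, rfl⟩
      refine ⟨hinv k hk b hb, fun h => hab ?_⟩
      exact ((smul_left_cancel_iff k).mp ((Set.mem_singleton_iff.mp h).trans hka.symm)).symm

namespace Data

variable {a b : Ω} {V : Subgroup G} {J : G} {hh : ℕ} (d : Data a b V J hh)
include d

theorem move {c c' p q : Ω} (h : c ≠ c') (h' : p ≠ q) : ∃ g : G, g • c = p ∧ g • c' = q :=
  is_two_pretransitive_iff.mp d.two h h'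

theorem J_mem : J ∈ Zass.two (G := G) a b := d.le d.memJ

theorem sq {v : G} (hv : v ∈ V) : v * v = 1 := by
  haveI := d.klein
  exact congrArg Subtype.val (IsKleinFour.mul_self (⟨v, hv⟩ : V))

theorem comm {v w : G} (hv : v ∈ V) (hw : w ∈ V) : v * w = w * v := by
  have h := d.sq (mul_mem hv hw)
  have hv' : v⁻¹ = v := inv_eq_of_mul_eq_one_right (d.sq hv)
  have hw' : w⁻¹ = w := inv_eq_of_mul_eq_one_right (d.sq hw)
  calc v * w = (v * w)⁻¹ := (inv_eq_of_mul_eq_one_right h).symm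
    _ = w * v := by rw [_root_.mul_inv_rev, hv', hw']

theorem order {v : G} (hv : v ∈ V) (h1 : v ≠ 1) : orderOf v = 2 :=
  orderOf_eq_prime (by rw [pow_two]; exact d.sq hv) h1

theorem orderJ : orderOf J = 2 := d.order d.memJ d.neJ

theorem card_V : Nat.card V = 4 := by haveI := d.klein; exact IsKleinFour.card_four

theorem card_two_eq : Nat.card (Zass.two (G := G) a b) = 4 * hh := by
  rcases d.cardH with ⟨h1, rfl⟩ | ⟨h1, rfl⟩ <;> rw [h1]

theorem hh_pos : 0 < hh := by rcases d.cardH with ⟨-, rfl⟩ | ⟨-, rfl⟩ <;> norm_num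

theorem two_inf_cent : Zass.two (G := G) a b ⊓ Subgroup.centralizer ({J} : Set G) = V :=
  le_antisymm (fun h hh => d.cent h hh.1 (Subgroup.mem_centralizer_singleton_iff.mp hh.2))
    (le_inf d.le fun v hv => Subgroup.mem_centralizer_singleton_iff.mpr (d.comm hv d.memJ))

/-- An involution fixing two points is good. -/
theorem isConj_of_fixed {s : G} (hs : orderOf s = 2) {c c' : Ω} (hne : c ≠ c') (hc : s • c = c)
    (hc' : s • c' = c') : ∃ g : G, g • a = c ∧ g • b = c' ∧ g * J * g⁻¹ = s := by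
  obtain ⟨g, g1, g2⟩ := d.move d.ne hne
  have hm : g⁻¹ * s * g ∈ Zass.two (G := G) a b := mem_two.mpr
    ⟨by rw [mul_smul, mul_smul, g1, hc, inv_smul_eq_iff, g1],
      by rw [mul_smul, mul_smul, g2, hc', inv_smul_eq_iff, g2]⟩
  have ho : orderOf (g⁻¹ * s * g) = 2 := by
    rw [← hs]
    simpa [MulAut.conj_apply] using (MulEquiv.orderOf_eq (MulAut.conj g⁻¹) s)
  obtain ⟨h, hhm, he⟩ := d.conj _ hm ho
  refine ⟨g * h, ?_, ?_, ?_⟩
  · rw [mul_smul, (mem_two.mp hhm).1, g1]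
  · rw [mul_smul, (mem_two.mp hhm).2, g2]
  · calc g * h * J * (g * h)⁻¹ = g * (h * J * h⁻¹) * g⁻¹ := by group
      _ = s := by rw [he]; group

theorem good_of_fixed {s : G} (hs : orderOf s = 2) {c c' : Ω} (hne : c ≠ c') (hc : s • c = c)
    (hc' : s • c' = c') : IsConj J s := by
  obtain ⟨g, -, -, h⟩ := d.isConj_of_fixed hs hne hc hc'
  exact isConj_iff.mpr ⟨g, h⟩

theorem good_order {s : G} (hs : IsConj J s) : orderOf s = 2 := by
  obtain ⟨g, rfl⟩ := isConj_iff.mp hs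
  rw [← MulAut.conj_apply, MulEquiv.orderOf_eq, d.orderJ]

/-- Witt for `J`. -/
theorem wittJ {c c' : Ω} (hne : c ≠ c') (hc : J • c = c) (hc' : J • c' = c') :
    ∃ g ∈ Subgroup.centralizer ({J} : Set G), g • a = c ∧ g • b = c' := by
  obtain ⟨g, g1, g2, he⟩ := d.isConj_of_fixed d.orderJ hne hc hc'
  exact ⟨g, Subgroup.mem_centralizer_singleton_iff.mpr (mul_inv_eq_iff_eq_mul.mp he), g1, g2⟩

/-- A conjugate of `V` containing `J` inside `H` is `V`. -/
theorem conj_V_eq {g : G} (hg : ∀ v ∈ V, g * v * g⁻¹ ∈ Zass.two (G := G) a b)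
    (hgJ : ∀ v ∈ V, g * v * g⁻¹ * J = J * (g * v * g⁻¹)) : g ∈ Subgroup.normalizer (V : Set G) := by
  have hsub : ∀ v ∈ V, g * v * g⁻¹ ∈ V := fun v hv => d.cent _ (hg v hv) (hgJ v hv)
  exact Subgroup.mem_normalizer_fintype hsub

/-- Witt for `V`, inside `C(J)`. -/
theorem wittV {c c' : Ω} (hne : c ≠ c') (hc : ∀ v ∈ V, v • c = c) (hc' : ∀ v ∈ V, v • c' = c') :
    ∃ g ∈ Subgroup.centralizer ({J} : Set G) ⊓ Subgroup.normalizer (V : Set G),
      g • a = c ∧ g • b = c' := by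
  obtain ⟨g, hg, g1, g2⟩ := d.wittJ hne (hc J d.memJ) (hc' J d.memJ)
  refine ⟨g, ⟨hg, ?_⟩, g1, g2⟩
  have hi : g⁻¹ ∈ Subgroup.normalizer (V : Set G) := by
    refine d.conj_V_eq (fun v hv => mem_two.mpr ⟨?_, ?_⟩) fun v hv => ?_
    · rw [inv_inv, mul_smul, mul_smul, g1, hc v hv, inv_smul_eq_iff, g1]
    · rw [inv_inv, mul_smul, mul_smul, g2, hc' v hv, inv_smul_eq_iff, g2]
    · have hgc : g * J = J * g := Subgroup.mem_centralizer_singleton_iff.mp hg
      have hgi : g⁻¹ * J = J * g⁻¹ := by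
        rw [inv_mul_eq_iff_eq_mul, ← mul_assoc, hgc, mul_inv_cancel_right]
      rw [inv_inv, mul_assoc, hgc, ← mul_assoc, mul_assoc g⁻¹ v J, d.comm hv d.memJ, ← mul_assoc,
        hgi]
      group
  simpa using (Subgroup.normalizer (V : Set G)).inv_mem hi

theorem cent_maps {k : G} (hk : k ∈ Subgroup.centralizer ({J} : Set G)) {p : Ω} (hp : J • p = p) :
    J • (k • p) = k • p := by
  rw [← mul_smul, ← Subgroup.mem_centralizer_singleton_iff.mp hk, mul_smul, hp]

theorem norm_maps {k : G} (hk : k ∈ Subgroup.normalizer (V : Set G)) {p : Ω}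
    (hp : ∀ v ∈ V, v • p = p) : ∀ v ∈ V, v • (k • p) = k • p := by
  intro v hv
  have h := (Subgroup.mem_normalizer_iff''.mp hk v).mp hv
  have e := hp _ h
  rw [mul_smul, mul_smul, inv_smul_eq_iff] at e
  exact e

theorem a_fixed : ∀ v ∈ V, v • a = a := fun _ hv => (mem_two.mp (d.le hv)).1

theorem b_fixed : ∀ v ∈ V, v • b = b := fun _ hv => (mem_two.mp (d.le hv)).2

/-- `|C(J)| = 4 i (i - 1)` and `|C_a(J)| = 4 (i - 1)`. -/
theorem card_cent : Nat.card (Subgroup.centralizer ({J} : Set G)) = fx1 Ω J * (4 * (fx1 Ω J - 1)) ∧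
    Nat.card ↥(Subgroup.centralizer ({J} : Set G) ⊓ stabilizer G a) = 4 * (fx1 Ω J - 1) := by
  obtain ⟨h1, h2⟩ := card_two_trans (Subgroup.centralizer ({J} : Set G)) {p : Ω | J • p = p}
    (a := a) (b := b) (d.a_fixed J d.memJ) (d.b_fixed J d.memJ) d.ne
    (fun k hk p hp => d.cent_maps hk hp) fun c hc c' hc' hne => d.wittJ hne hc hc'
  rw [inf_comm (Subgroup.centralizer _) (Zass.two a b), d.two_inf_cent, d.card_V, mul_comm] at h2
  exact ⟨by rw [h1, h2], h2⟩

theorem card_cent_norm :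
    Nat.card ↥(Subgroup.centralizer ({J} : Set G) ⊓ Subgroup.normalizer (V : Set G)) =
        fxS Ω V * (4 * (fxS Ω V - 1)) ∧
      Nat.card ↥(Subgroup.centralizer ({J} : Set G) ⊓ Subgroup.normalizer (V : Set G) ⊓
        stabilizer G a) = 4 * (fxS Ω V - 1) := by
  obtain ⟨h1, h2⟩ := card_two_trans
    (Subgroup.centralizer ({J} : Set G) ⊓ Subgroup.normalizer (V : Set G))
    {p : Ω | ∀ v ∈ V, v • p = p} (a := a) (b := b) d.a_fixed d.b_fixed d.ne
    (fun k hk p hp => d.norm_maps hk.2 hp) fun c hc c' hc' hne => d.wittV hne hc hc'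
  have e : Subgroup.centralizer ({J} : Set G) ⊓ Subgroup.normalizer (V : Set G) ⊓ Zass.two a b = V := by
    refine le_antisymm (fun h hh => ?_) fun v hv => ⟨⟨?_, Subgroup.le_normalizer hv⟩, d.le hv⟩
    · exact d.two_inf_cent.le ⟨hh.2, hh.1.1⟩
    · exact Subgroup.mem_centralizer_singleton_iff.mpr (d.comm hv d.memJ)
  rw [e, d.card_V, mul_comm] at h2
  exact ⟨by rw [h1, h2], h2⟩

theorem two_le_j : 2 ≤ fxS Ω V := by
  rw [fxS, ← Set.ncard_pair d.ne]
  exact Set.ncard_le_ncard (Set.pair_subset d.a_fixed d.b_fixed) (Set.toFinite _)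

theorem j_le_i : fxS Ω V ≤ fx1 Ω J :=
  Set.ncard_le_ncard (fun _ hp => hp J d.memJ) (Set.toFinite _)

theorem two_le_i : 2 ≤ fx1 Ω J := d.two_le_j.trans d.j_le_i

theorem i_lt : fx1 Ω J < Nat.card Ω := by
  rw [← Set.ncard_univ]
  refine Set.ncard_lt_ncard ((Set.ssubset_univ_iff).mpr fun h => d.neJ ?_) (Set.toFinite _)
  exact d.faith.eq_of_smul_eq_smul fun p => by
    rw [one_smul]; exact Set.eq_univ_iff_forall.mp h p

theorem card_stab : Nat.card (stabilizer G a) = (Nat.card Ω - 1) * (4 * hh) := by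
  have := card_two_trans (⊤ : Subgroup G) Set.univ (a := a) (b := b) trivial trivial d.ne
    (fun _ _ _ _ => trivial) fun c _ c' _ hne => by
      obtain ⟨g, g1, g2⟩ := d.move d.ne hne
      exact ⟨g, trivial, g1, g2⟩
  rw [top_inf_eq, top_inf_eq, Set.ncard_univ, d.card_two_eq] at this
  exact this.2

theorem card_G : Nat.card G = Nat.card Ω * ((Nat.card Ω - 1) * (4 * hh)) := by
  have := card_two_trans (⊤ : Subgroup G) Set.univ (a := a) (b := b) trivial trivial d.ne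
    (fun _ _ _ _ => trivial) fun c _ c' _ hne => by
      obtain ⟨g, g1, g2⟩ := d.move d.ne hne
      exact ⟨g, trivial, g1, g2⟩
  rw [top_inf_eq, Set.ncard_univ, Subgroup.card_top, d.card_stab] at this
  exact this.1

/-- Good involutions at a point form one class of the point stabiliser. -/
theorem good_conj_stab {s : G} (hs : IsConj J s) {c : Ω} (hc : s • c = c) :
    ∃ g : G, g • a = c ∧ g * J * g⁻¹ = s := by
  obtain ⟨k, hk⟩ := isConj_iff.mp hs
  have h1 : s • (k • a) = k • a := by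
    rw [← hk, mul_smul, mul_smul, inv_smul_smul, d.a_fixed J d.memJ]
  have h2 : s • (k • b) = k • b := by
    rw [← hk, mul_smul, mul_smul, inv_smul_smul, d.b_fixed J d.memJ]
  have hne : k • a ≠ k • b := fun e => d.ne ((smul_left_cancel_iff k).mp e)
  have ho := d.good_order hs
  rcases eq_or_ne c (k • a) with rfl | hca
  · exact ⟨k, rfl, hk⟩
  · obtain ⟨g, g1, -, g3⟩ := d.isConj_of_fixed ho hca hc h1
    exact ⟨g, g1, g3⟩

end Data

/-- The number of good involutions fixing a point. -/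
noncomputable abbrev xNum (J : G) (a : Ω) : ℕ := Set.ncard {s : G | IsConj J s ∧ s • a = a}

/-- The number of good involutions moving `a` to `b`. -/
noncomputable abbrev rNum (J : G) (a b : Ω) : ℕ := Set.ncard {s : G | IsConj J s ∧ s • a = b}

namespace Data

variable {a b : Ω} {V : Subgroup G} {J : G} {hh : ℕ} (d : Data a b V J hh)
include d

theorem x_mul_cent : Nat.card (stabilizer G a) =
    xNum J a * Nat.card ↥(Subgroup.centralizer ({J} : Set G) ⊓ stabilizer G a) := by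
  haveI : Finite (ConjAct G) := Finite.of_equiv G (ConjAct.toConjAct : G ≃* ConjAct G).toEquiv
  have h := card_orbit_stab (β := G) (G := ConjAct G)
    ((stabilizer G a).map (ConjAct.toConjAct : G ≃* ConjAct G).toMonoidHom) J
    {s : G | IsConj J s ∧ s • a = a} fun q => ?_
  · rw [Subgroup.card_map_of_injective (ConjAct.toConjAct : G ≃* ConjAct G).injective] at h
    refine h.trans (congrArg (xNum J a * ·) (Nat.card_congr ?_))
    exact
      { toFun := fun g => ⟨ConjAct.ofConjAct g.1, by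
          obtain ⟨⟨k, hk, hke⟩, hg⟩ := g.2
          refine ⟨Subgroup.mem_centralizer_singleton_iff.mpr ?_, by rw [← hke]; exact hk⟩
          have := mem_stabilizer_iff.mp hg
          rw [ConjAct.smul_def] at this
          exact mul_inv_eq_iff_eq_mul.mp this⟩
        invFun := fun g => ⟨ConjAct.toConjAct g.1, ⟨g.1, g.2.2, rfl⟩, by
          show ConjAct.toConjAct g.1 • J = J
          rw [ConjAct.smul_def, ConjAct.ofConjAct_toConjAct, mul_inv_eq_iff_eq_mul]
          exact Subgroup.mem_centralizer_singleton_iff.mp g.2.1⟩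
        left_inv := fun _ => rfl
        right_inv := fun _ => rfl }
  · constructor
    · rintro ⟨hs, hsa⟩
      obtain ⟨g, g1, g2⟩ := d.good_conj_stab hs hsa
      exact ⟨ConjAct.toConjAct g, ⟨g, g1, rfl⟩, by rw [ConjAct.smul_def]; exact g2⟩
    · rintro ⟨k, ⟨g, hg, rfl⟩, rfl⟩
      refine ⟨isConj_iff.mpr ⟨g, rfl⟩, ?_⟩
      show (g * J * g⁻¹) • a = a
      rw [mul_smul, mul_smul, inv_smul_eq_iff.mpr hg.symm, d.a_fixed J d.memJ, hg]

theorem card_class_mul : Set.ncard {s : G | IsConj J s} *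
    Nat.card (Subgroup.centralizer ({J} : Set G)) = Nat.card G := by
  haveI : Finite (ConjAct G) := Finite.of_equiv G (ConjAct.toConjAct : G ≃* ConjAct G).toEquiv
  have h := card_orbit_stab (β := G) (G := ConjAct G) ⊤ J {s : G | IsConj J s} fun q => ?_
  · rw [Subgroup.card_top] at h
    refine (Nat.card_congr (ConjAct.toConjAct : G ≃* ConjAct G).toEquiv).trans h ▸ ?_
    refine congrArg (_ * ·) (Nat.card_congr ?_)
    refine (ConjAct.toConjAct : G ≃* ConjAct G).toEquiv.subtypeEquiv fun g => ?_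
    rw [Subgroup.mem_centralizer_singleton_iff, Subgroup.mem_inf, mem_stabilizer_iff, ConjAct.smul_def]
    exact ⟨fun e => ⟨trivial, mul_inv_eq_iff_eq_mul.mpr e⟩, fun e => mul_inv_eq_iff_eq_mul.mp e.2⟩
  · exact ⟨fun hq => (isConj_iff.mp hq).elim fun g hg =>
      ⟨ConjAct.toConjAct g, trivial, by rw [ConjAct.smul_def]; exact hg⟩,
      fun ⟨k, _, hk⟩ => isConj_iff.mpr ⟨ConjAct.ofConjAct k, by rw [← ConjAct.smul_def]; exact hk⟩⟩

theorem good_fx {s : G} (hs : IsConj J s) : fx1 Ω s = fx1 Ω J := by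
  obtain ⟨k, rfl⟩ := isConj_iff.mp hs
  have e : {p : Ω | (k * J * k⁻¹) • p = p} = (k • ·) '' {p : Ω | J • p = p} := by
    ext p
    constructor
    · intro hp
      refine ⟨k⁻¹ • p, ?_, smul_inv_smul _ _⟩
      have hp' : (k * J * k⁻¹) • p = p := hp
      rw [mul_smul, mul_smul] at hp'
      exact eq_inv_smul_iff.mpr hp'
    · rintro ⟨q, hq, rfl⟩
      show (k * J * k⁻¹) • (k • q) = k • q
      rw [mul_smul, mul_smul, inv_smul_smul, show J • q = q from hq]
  show Set.ncard {p : Ω | (k * J * k⁻¹) • p = p} = _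
  rw [e, Set.ncard_image_of_injective _ (MulAction.injective k)]

theorem count_moved : Set.ncard {s : G | IsConj J s} * (Nat.card Ω - fx1 Ω J) =
    Nat.card Ω * (Nat.card Ω - 1) * rNum J a b := by
  have hfib : ∀ p : {p : Ω × Ω // p.1 ≠ p.2},
      Nat.card {s : G // IsConj J s ∧ s • p.1.1 = p.1.2} = rNum J a b := fun p => by
    obtain ⟨g, hga, hgb⟩ := d.move d.ne p.2
    rw [rNum, ← Nat.card_coe_set_eq]
    refine (Nat.card_congr ((MulAut.conj g).toEquiv.subtypeEquiv fun s => ?_)).symm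
    show IsConj J s ∧ s • a = b ↔ IsConj J (g * s * g⁻¹) ∧ (g * s * g⁻¹) • p.1.1 = p.1.2
    rw [mul_smul, mul_smul, show g⁻¹ • p.1.1 = a by rw [inv_smul_eq_iff, hga]]
    refine and_congr ⟨fun e => e.trans (isConj_iff.mpr ⟨g, rfl⟩),
      fun e => e.trans (isConj_iff.mpr ⟨g, rfl⟩).symm⟩ ⟨fun e => by rw [e, hgb], fun e => ?_⟩
    exact (smul_left_cancel_iff g).mp (e.trans hgb.symm)
  have hmv : ∀ s : {s : G // IsConj J s},
      Nat.card {x : Ω // s.1 • x ≠ x} = Nat.card Ω - fx1 Ω J := fun s => by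
    rw [← d.good_fx s.2, fx1, ← Set.ncard_compl, ← Nat.card_coe_set_eq]
    rfl
  letI : Fintype G := Fintype.ofFinite G
  have e : Nat.card (Σ s : {s : G // IsConj J s}, {x : Ω // s.1 • x ≠ x}) =
      Nat.card (Σ p : {p : Ω × Ω // p.1 ≠ p.2}, {s : G // IsConj J s ∧ s • p.1.1 = p.1.2}) :=
    Nat.card_congr
      { toFun := fun q => ⟨⟨(q.2.1, q.1.1 • q.2.1), fun e => q.2.2 e.symm⟩, ⟨q.1.1, q.1.2, rfl⟩⟩
        invFun := fun q => ⟨⟨q.2.1, q.2.2.1⟩, ⟨q.1.1.1, fun e => q.1.2 (e.symm.trans q.2.2.2)⟩⟩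
        left_inv := fun _ => rfl
        right_inv := fun q => by
          obtain ⟨⟨⟨x, y⟩, hxy⟩, ⟨s, hs, hy⟩⟩ := q
          dsimp only at hy
          subst hy
          rfl }
  rw [Nat.card_sigma, Nat.card_sigma] at e
  simp only [hfib, hmv, Finset.sum_const, Finset.card_univ, smul_eq_mul] at e
  have hp : Nat.card {p : Ω × Ω // p.1 ≠ p.2} = Nat.card Ω * (Nat.card Ω - 1) := by
    rw [Nat.card_congr (Equiv.subtypeProdEquivSigmaSubtype fun x y : Ω => x ≠ y), Nat.card_sigma,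
      Finset.sum_congr rfl fun x _ => show Nat.card {y : Ω // x ≠ y} = Nat.card Ω - 1 by
        rw [Nat.card_eq_fintype_card, Fintype.card_subtype_compl, Fintype.card_subtype_eq',
          Nat.card_eq_fintype_card],
      Finset.sum_const, smul_eq_mul, Finset.card_univ, ← Nat.card_eq_fintype_card]
  rw [← hp, Nat.card_eq_fintype_card (α := {p : Ω × Ω // p.1 ≠ p.2}), ← e, ← Nat.card_eq_fintype_card,
    ← Nat.card_coe_set_eq]
  rfl

/-- `hh (n - i) = r i (i - 1)`. -/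
theorem moved_eq : hh * (Nat.card Ω - fx1 Ω J) = rNum J a b * (fx1 Ω J * (fx1 Ω J - 1)) := by
  have h1 := d.count_moved
  have h2 := d.card_class_mul
  rw [d.card_cent.1, d.card_G] at h2
  have hn : 0 < Nat.card Ω * (Nat.card Ω - 1) := by
    have := d.i_lt
    have := d.two_le_i
    exact Nat.mul_pos (by omega) (by omega)
  refine Nat.eq_of_mul_eq_mul_left (Nat.mul_pos (show 0 < 4 by norm_num) hn) ?_
  calc 4 * (Nat.card Ω * (Nat.card Ω - 1)) * (hh * (Nat.card Ω - fx1 Ω J))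
      = Nat.card Ω * ((Nat.card Ω - 1) * (4 * hh)) * (Nat.card Ω - fx1 Ω J) := by ring
    _ = Set.ncard {s : G | IsConj J s} * (Nat.card Ω - fx1 Ω J) *
          (fx1 Ω J * (4 * (fx1 Ω J - 1))) := by rw [← h2]; ring
    _ = 4 * (Nat.card Ω * (Nat.card Ω - 1)) * (rNum J a b * (fx1 Ω J * (fx1 Ω J - 1))) := by
      rw [h1]; ring

theorem r_pos : 0 < rNum J a b := by
  rcases Nat.eq_zero_or_pos (rNum J a b) with h | h
  · have e := d.moved_eq
    rw [h, zero_mul] at e
    have := d.i_lt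
    rcases Nat.mul_eq_zero.mp e with e | e
    · exact absurd e d.hh_pos.ne'
    · omega
  · exact h

/-- `x = hh + r i`. -/
theorem x_eq : xNum J a = hh + rNum J a b * fx1 Ω J := by
  have h := d.x_mul_cent
  rw [d.card_stab, d.card_cent.2] at h
  have h1 := d.moved_eq
  have h2 := d.two_le_i
  have h3 := d.i_lt
  obtain ⟨p, hp⟩ := Nat.exists_eq_add_of_le h3.le
  obtain ⟨q, hq⟩ := Nat.exists_eq_add_of_le (show 1 ≤ fx1 Ω J by omega)
  rw [hp, Nat.add_sub_cancel_left, hq, Nat.add_sub_cancel_left] at h1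
  rw [hp, hq, Nat.add_sub_cancel_left, add_assoc, Nat.add_sub_cancel_left] at h
  rw [hq]
  refine Nat.eq_of_mul_eq_mul_right (show 0 < q by omega) ?_
  linarith

/-- The number of conjugates of `V` at `a` through `J`. -/
theorem k_mul : (Subgroup.normalizer (V : Set G)).relIndex
    (Subgroup.centralizer ({J} : Set G) ⊓ stabilizer G a) * (fxS Ω V - 1) = fx1 Ω J - 1 := by
  set C := Subgroup.centralizer ({J} : Set G) ⊓ stabilizer G a
  have h := Subgroup.card_mul_index ((Subgroup.normalizer (V : Set G)).subgroupOf C)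
  rw [← Subgroup.relIndex, d.card_cent.2] at h
  have e : Nat.card ((Subgroup.normalizer (V : Set G)).subgroupOf C) = 4 * (fxS Ω V - 1) := by
    rw [← d.card_cent_norm.2, ← Subgroup.inf_subgroupOf_right,
      Nat.card_congr (Subgroup.subgroupOfEquivOfLe inf_le_right).toEquiv]
    refine Nat.card_congr (Equiv.setCongr ?_)
    ext g
    exact ⟨fun h => ⟨⟨h.2.1, h.1⟩, h.2.2⟩, fun h => ⟨h.1.2, h.1.1, h.2⟩⟩
  rw [e] at h
  linarith

theorem closure_eq {w : G} (hw : w ∈ V) (hw1 : w ≠ 1) (hwJ : w ≠ J) :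
    Subgroup.closure ({J, w} : Set G) = V := by
  refine Subgroup.eq_of_le_of_card_ge ((Subgroup.closure_le _).mpr ?_) ?_
  · rintro _ (rfl | rfl)
    exacts [d.memJ, hw]
  · rw [d.card_V]
    have hJ : J ∈ Subgroup.closure ({J, w} : Set G) := Subgroup.subset_closure (by simp)
    have hw' : w ∈ Subgroup.closure ({J, w} : Set G) := Subgroup.subset_closure (by simp)
    have hsub : (↑({1, J, w, J * w} : Finset G) : Set G) ⊆ (Subgroup.closure ({J, w} : Set G) : Set G) := by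
      simp [Set.insert_subset_iff, hJ, hw', mul_mem hJ hw', one_mem]
    have h4 := Set.ncard_le_ncard hsub (Set.toFinite _)
    rw [Set.ncard_coe_finset, ← Nat.card_coe_set_eq] at h4
    refine le_trans ?_ h4
    have e1 : J * w ≠ 1 := fun e => hwJ (by
      rw [← inv_eq_of_mul_eq_one_right e, inv_eq_of_mul_eq_one_right (d.sq d.memJ)])
    rw [Finset.card_insert_of_notMem, Finset.card_insert_of_notMem, Finset.card_pair]
    · intro e; exact d.neJ (mul_eq_right.mp e.symm)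
    · simp only [Finset.mem_insert, Finset.mem_singleton]
      rintro (e | e)
      · exact hwJ e.symm
      · exact hw1 (mul_eq_left.mp e.symm)
    · simp only [Finset.mem_insert, Finset.mem_singleton]
      rintro (e | e | e)
      · exact d.neJ e.symm
      · exact hw1 e.symm
      · exact e1 e.symm

theorem conj_fixV {g w : G} (hw : w ∈ V) (hw1 : w ≠ 1) (hwJ : w ≠ J) (p : Ω) :
    (∀ v ∈ V, v • (g⁻¹ • p) = g⁻¹ • p) ↔
      (g * J * g⁻¹) • p = p ∧ (g * w * g⁻¹) • p = p := by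
  have key : ∀ v : G, (g * v * g⁻¹) • p = p ↔ v • (g⁻¹ • p) = g⁻¹ • p := fun v => by
    rw [mul_smul, mul_smul, eq_inv_smul_iff]
  rw [key, key]
  refine ⟨fun h => ⟨h J d.memJ, h w hw⟩, fun ⟨h1, h2⟩ v hv => ?_⟩
  have hle : Subgroup.closure ({J, w} : Set G) ≤ stabilizer G (g⁻¹ • p) := by
    rw [Subgroup.closure_le]
    rintro _ (rfl | rfl)
    exacts [h1, h2]
  refine hle ?_
  rw [d.closure_eq hw hw1 hwJ]
  exact hv

end Data

/-- The involutions which generate with `J` a `C(J)`-conjugate of `V`. -/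
def Line (V : Subgroup G) (J s : G) : Prop :=
  ∃ g ∈ Subgroup.centralizer ({J} : Set G), ∃ w ∈ V, w ≠ 1 ∧ w ≠ J ∧ g * w * g⁻¹ = s

/-- The number of such involutions moving `a` to `b`. -/
noncomputable abbrev lNum (V : Subgroup G) (J : G) (a b : Ω) : ℕ :=
  Set.ncard {s : G | Line V J s ∧ s • a = b}

namespace Data

variable {a b : Ω} {V : Subgroup G} {J : G} {hh : ℕ} (d : Data a b V J hh)
include d

theorem Line.comm {s : G} (h : Line V J s) : s * J = J * s := by
  obtain ⟨g, hg, w, hw, -, -, rfl⟩ := h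
  have hgc := Subgroup.mem_centralizer_singleton_iff.mp hg
  have hgJ : g * J * g⁻¹ = J := mul_inv_eq_iff_eq_mul.mpr hgc
  calc g * w * g⁻¹ * J = g * w * g⁻¹ * (g * J * g⁻¹) := by rw [hgJ]
    _ = g * (w * J) * g⁻¹ := by group
    _ = g * J * g⁻¹ * (g * w * g⁻¹) := by rw [d.comm hw d.memJ]; group
    _ = J * (g * w * g⁻¹) := by rw [hgJ]

theorem line_order {s : G} (h : Line V J s) : orderOf s = 2 := by
  obtain ⟨g, -, w, hw, hw1, -, rfl⟩ := h
  rw [← MulAut.conj_apply, MulEquiv.orderOf_eq]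
  exact d.order hw hw1

/-- An involution commuting with `J` and fixing two fixed points of `J`. -/
theorem line_of_fixed {s : G} (_hs : s * s = 1) (hs1 : s ≠ 1) (hsJ : s ≠ J) (hc : s * J = J * s)
    {c c' : Ω} (hne : c ≠ c') (hJc : J • c = c) (hJc' : J • c' = c') (hsc : s • c = c)
    (hsc' : s • c' = c') : Line V J s := by
  obtain ⟨g, hg, g1, g2⟩ := d.wittJ hne hJc hJc'
  have hgc := Subgroup.mem_centralizer_singleton_iff.mp hg
  have hgJ : g⁻¹ * J * g = J := by rw [mul_assoc, ← hgc, inv_mul_cancel_left]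
  refine ⟨g, hg, g⁻¹ * s * g, d.cent _ (mem_two.mpr ⟨?_, ?_⟩) ?_, ?_, ?_, by group⟩
  · rw [mul_smul, mul_smul, g1, hsc, inv_smul_eq_iff, g1]
  · rw [mul_smul, mul_smul, g2, hsc', inv_smul_eq_iff, g2]
  · calc g⁻¹ * s * g * J = g⁻¹ * s * (g * J) := by group
      _ = g⁻¹ * (s * J) * g := by rw [hgc]; group
      _ = g⁻¹ * J * g * (g⁻¹ * s * g) := by rw [hc]; group
      _ = J * (g⁻¹ * s * g) := by rw [hgJ]
  · intro e
    refine hs1 ?_
    have : s = g * (g⁻¹ * s * g) * g⁻¹ := by group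
    rw [this, e]; group
  · intro e
    refine hsJ ?_
    have : s = g * (g⁻¹ * s * g) * g⁻¹ := by group
    rw [this, e]
    exact mul_inv_eq_iff_eq_mul.mpr hgc

theorem line_fixed {s : G} (h : Line V J s) :
    Set.ncard {p : Ω | J • p = p ∧ s • p = p} = fxS Ω V := by
  obtain ⟨g, hg, w, hw, hw1, hwJ, rfl⟩ := h
  have hgJ : g * J * g⁻¹ = J := mul_inv_eq_iff_eq_mul.mpr (Subgroup.mem_centralizer_singleton_iff.mp hg)
  rw [fxS, ← Set.ncard_image_of_injective {p : Ω | ∀ v ∈ V, v • p = p} (MulAction.injective g)]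
  congr 1
  ext p
  have h := d.conj_fixV (g := g) hw hw1 hwJ p
  rw [hgJ] at h
  exact ⟨fun hp => ⟨g⁻¹ • p, h.mpr hp, smul_inv_smul g p⟩, fun ⟨q, hq, hqp⟩ => h.mp (by
    subst hqp; intro v hv; rw [inv_smul_smul]; exact hq v hv)⟩

/-- `2 (i - j) = L j (j - 1)`. -/
theorem line_eq : 2 * (fx1 Ω J - fxS Ω V) = lNum V J a b * (fxS Ω V * (fxS Ω V - 1)) := by
  letI : Fintype G := Fintype.ofFinite G
  set C := Subgroup.centralizer ({J} : Set G) with hC
  have hline : ∀ {g : G}, g ∈ C → ∀ {w : G}, w ∈ V → w ≠ 1 → w ≠ J → Line V J (g * w * g⁻¹) :=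
    fun hg _ hw h1 h2 => ⟨_, hg, _, hw, h1, h2, rfl⟩
  have hconjC : ∀ {g : G}, g ∈ C → ∀ {s : G}, Line V J s → Line V J (g * s * g⁻¹) := by
    rintro g hg s ⟨k, hk, w, hw, h1, h2, rfl⟩
    exact ⟨g * k, mul_mem hg hk, w, hw, h1, h2, by group⟩
  let W := {w : G // w ∈ V ∧ w ≠ 1 ∧ w ≠ J}
  let LL := {q : G × Ω // Line V J q.1 ∧ J • q.2 = q.2 ∧ q.1 • q.2 ≠ q.2}
  let T := {q : (C × W) × Ω // J • q.2 = q.2 ∧ ((q.1.1 : G) * q.1.2.1 * (q.1.1 : G)⁻¹) • q.2 ≠ q.2}
  have hW : Nat.card W = 2 := by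
    have e : Nat.card W = Set.ncard ((V : Set G) \ {1, J}) := by
      rw [← Nat.card_coe_set_eq]
      exact Nat.card_congr (Equiv.subtypeEquivRight fun x => by simp [not_or])
    rw [e, Set.ncard_sdiff (by simp [Set.insert_subset_iff, one_mem, d.memJ]) (Set.toFinite _),
      Set.ncard_pair d.neJ.symm, ← Nat.card_coe_set_eq]
    have := d.card_V
    simp only [SetLike.coe_sort_coe] at this ⊢
    omega
  have hrow : ∀ (g : G) (_ : g ∈ C) (w : W),
      Nat.card {p : Ω // J • p = p ∧ (g * w.1 * g⁻¹) • p ≠ p} = fx1 Ω J - fxS Ω V := fun g hg w => by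
    have h := d.line_fixed (hline hg w.2.1 w.2.2.1 w.2.2.2)
    rw [fx1, ← h, ← Set.ncard_sdiff (fun p hp => hp.1) (Set.toFinite _), ← Nat.card_coe_set_eq]
    exact Nat.card_congr (Equiv.subtypeEquivRight fun p => by simp +contextual)
  have hT : Nat.card T = Nat.card C * 2 * (fx1 Ω J - fxS Ω V) := by
    rw [Nat.card_congr (Equiv.subtypeProdEquivSigmaSubtype fun (q : C × W) (p : Ω) =>
      J • p = p ∧ ((q.1 : G) * q.2.1 * (q.1 : G)⁻¹) • p ≠ p), Nat.card_sigma,
      Finset.sum_congr rfl fun q _ => hrow q.1 q.1.2 q.2, Finset.sum_const, smul_eq_mul,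
      Finset.card_univ, ← Nat.card_eq_fintype_card, Nat.card_prod, hW]
  let f : T → LL := fun q => ⟨((q.1.1.1 : G) * q.1.1.2.1 * (q.1.1.1 : G)⁻¹, q.1.2),
    hline q.1.1.1.2 q.1.1.2.2.1 q.1.1.2.2.2.1 q.1.1.2.2.2.2, q.2.1, q.2.2⟩
  have hfib : ∀ y : LL, Nat.card {q : T // f q = y} =
      Nat.card ↥(C ⊓ Subgroup.normalizer (V : Set G)) := fun y => by
    obtain ⟨g0, hg0, w0, hw0, hw01, hw0J, he0⟩ := y.2.1
    refine Nat.card_congr (Equiv.ofBijective (fun q => ⟨g0⁻¹ * (q.1.1.1.1 : G),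
      mul_mem (C.inv_mem hg0) q.1.1.1.1.2, ?_⟩) ⟨?_, ?_⟩)
    · obtain ⟨⟨⟨⟨g, w⟩, p⟩, hp⟩, hq⟩ := q
      have e : (g : G) * w.1 * (g : G)⁻¹ = g0 * w0 * g0⁻¹ :=
        (congrArg (fun z : LL => z.1.1) hq).trans he0.symm
      have e2 : g0⁻¹ * (g : G) * w.1 * (g0⁻¹ * (g : G))⁻¹ = w0 := by
        calc g0⁻¹ * (g : G) * w.1 * (g0⁻¹ * (g : G))⁻¹ = g0⁻¹ * ((g : G) * w.1 * (g : G)⁻¹) * g0 := by
              group
          _ = w0 := by rw [e]; group
      refine Subgroup.mem_normalizer_fintype fun v hv => ?_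
      have hc : g0⁻¹ * (g : G) ∈ C := mul_mem (C.inv_mem hg0) g.2
      have hJ' : g0⁻¹ * (g : G) * J * (g0⁻¹ * (g : G))⁻¹ = J :=
        mul_inv_eq_iff_eq_mul.mpr (Subgroup.mem_centralizer_singleton_iff.mp hc)
      have hle : Subgroup.closure ({J, w.1} : Set G) ≤ V.comap (MulAut.conj (g0⁻¹ * (g : G))).toMonoidHom := by
        rw [Subgroup.closure_le]
        intro z hz
        rcases hz with hz | hz <;> subst z
        · show g0⁻¹ * (g : G) * J * (g0⁻¹ * (g : G))⁻¹ ∈ V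
          rw [hJ']; exact d.memJ
        · show g0⁻¹ * (g : G) * w.1 * (g0⁻¹ * (g : G))⁻¹ ∈ V
          rw [e2]; exact hw0
      exact hle ((d.closure_eq w.2.1 w.2.2.1 w.2.2.2).ge hv)
    · rintro ⟨⟨⟨⟨g, w⟩, p⟩, hp⟩, hq⟩ ⟨⟨⟨⟨g', w'⟩, p'⟩, hp'⟩, hq'⟩ e
      have eg : g = g' := Subtype.ext (mul_left_cancel (congrArg Subtype.val e :))
      subst eg
      have h1 := congrArg (fun z : LL => z.1.1) (hq.trans hq'.symm)
      have ep : p = p' := congrArg (fun z : LL => z.1.2) (hq.trans hq'.symm)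
      have ew : w = w' := Subtype.ext (mul_left_cancel (mul_right_cancel h1))
      subst ep ew
      rfl
    · rintro ⟨h, hhC, hhN⟩
      have hw' : h⁻¹ * w0 * h ∈ V := (Subgroup.mem_normalizer_iff''.mp hhN w0).mp hw0
      have hw1' : h⁻¹ * w0 * h ≠ 1 := fun e => hw01 (by
        have : w0 = h * (h⁻¹ * w0 * h) * h⁻¹ := by group
        rw [this, e]; group)
      have hwJ' : h⁻¹ * w0 * h ≠ J := fun e => hw0J (by
        have : w0 = h * (h⁻¹ * w0 * h) * h⁻¹ := by group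
        rw [this, e]
        exact mul_inv_eq_iff_eq_mul.mpr (Subgroup.mem_centralizer_singleton_iff.mp hhC))
      have ee : g0 * h * (h⁻¹ * w0 * h) * (g0 * h)⁻¹ = y.1.1 := by rw [← he0]; group
      refine ⟨⟨⟨(⟨⟨g0 * h, mul_mem hg0 hhC⟩, ⟨_, hw', hw1', hwJ'⟩⟩, y.1.2), y.2.2.1, ?_⟩, ?_⟩, ?_⟩
      · show (g0 * h * (h⁻¹ * w0 * h) * (g0 * h)⁻¹) • y.1.2 ≠ y.1.2
        rw [ee]; exact y.2.2.2
      · exact Subtype.ext (Prod.ext ee rfl)
      · exact Subtype.ext (inv_mul_cancel_left g0 h)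
  have hTL : Nat.card T = Nat.card LL * Nat.card ↥(C ⊓ Subgroup.normalizer (V : Set G)) := by
    rw [← Nat.card_congr (Equiv.sigmaFiberEquiv f), Nat.card_sigma,
      Finset.sum_congr rfl fun y _ => hfib y, Finset.sum_const, smul_eq_mul, Finset.card_univ,
      ← Nat.card_eq_fintype_card]
  let PP := {q : Ω × Ω // (J • q.1 = q.1 ∧ J • q.2 = q.2) ∧ q.1 ≠ q.2}
  have hPP : Nat.card PP = fx1 Ω J * (fx1 Ω J - 1) := by
    set F : Set Ω := {p : Ω | J • p = p}
    have e : PP ≃ (Σ x : F, {y : Ω // y ∈ F \ {x.1}}) :=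
      { toFun := fun q => ⟨⟨q.1.1, q.2.1.1⟩, q.1.2, q.2.1.2, fun h => q.2.2 h.symm⟩
        invFun := fun q => ⟨(q.1.1, q.2.1), ⟨q.1.2, q.2.2.1⟩, fun h => q.2.2.2 h.symm⟩
        left_inv := fun _ => rfl
        right_inv := fun _ => rfl }
    rw [Nat.card_congr e, Nat.card_sigma, Finset.sum_congr rfl fun x _ => show
      Nat.card {y : Ω // y ∈ F \ {x.1}} = fx1 Ω J - 1 by
        rw [← Set.ncard_sdiff_singleton_of_mem x.2]; exact Nat.card_coe_set_eq _,
      Finset.sum_const, smul_eq_mul, Finset.card_univ, ← Nat.card_eq_fintype_card, Nat.card_coe_set_eq]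
  have hLL : Nat.card LL = Nat.card PP * lNum V J a b := by
    have e : LL ≃ (Σ q : PP, {s : G // Line V J s ∧ s • q.1.1 = q.1.2}) :=
      { toFun := fun z => ⟨⟨(z.1.2, z.1.1 • z.1.2), ⟨z.2.2.1, by
            rw [← mul_smul, ← Data.Line.comm d z.2.1, mul_smul, z.2.2.1]⟩, fun h => z.2.2.2 h.symm⟩,
          z.1.1, z.2.1, rfl⟩
        invFun := fun q => ⟨(q.2.1, q.1.1.1), q.2.2.1, q.1.2.1.1, fun h => q.1.2.2 (h.symm.trans q.2.2.2)⟩
        left_inv := fun _ => rfl
        right_inv := fun q => by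
          obtain ⟨⟨⟨x, y⟩, hxy⟩, ⟨s, hs, hy⟩⟩ := q
          dsimp only at hy
          subst hy
          rfl }
    rw [Nat.card_congr e, Nat.card_sigma, Finset.sum_congr rfl fun q _ => show
      Nat.card {s : G // Line V J s ∧ s • q.1.1 = q.1.2} = lNum V J a b by
        obtain ⟨g, hg, g1, g2⟩ := d.wittJ q.2.2 q.2.1.1 q.2.1.2
        rw [lNum, ← Nat.card_coe_set_eq]
        refine (Nat.card_congr ((MulAut.conj g).toEquiv.subtypeEquiv fun s => ?_)).symm
        show Line V J s ∧ s • a = b ↔ Line V J (g * s * g⁻¹) ∧ (g * s * g⁻¹) • q.1.1 = q.1.2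
        rw [mul_smul, mul_smul, show g⁻¹ • q.1.1 = a by rw [inv_smul_eq_iff, g1]]
        refine and_congr ⟨fun h => hconjC hg h, fun h => ?_⟩
          ⟨fun e => by rw [e, g2], fun e => (smul_left_cancel_iff g).mp (e.trans g2.symm)⟩
        have := hconjC (C.inv_mem hg) h
        rwa [show g⁻¹ * (g * s * g⁻¹) * g⁻¹⁻¹ = s by group] at this,
      Finset.sum_const, smul_eq_mul, Finset.card_univ, ← Nat.card_eq_fintype_card]
  rw [hT, hLL, hPP, d.card_cent_norm.1, hC, d.card_cent.1] at hTL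
  have := d.two_le_i
  refine Nat.eq_of_mul_eq_mul_left (show 0 < fx1 Ω J * (4 * (fx1 Ω J - 1)) from
    Nat.mul_pos (by omega) (by omega)) ?_
  calc fx1 Ω J * (4 * (fx1 Ω J - 1)) * (2 * (fx1 Ω J - fxS Ω V))
      = fx1 Ω J * (4 * (fx1 Ω J - 1)) * 2 * (fx1 Ω J - fxS Ω V) := by ring
    _ = _ := hTL.trans (by ring)

end Data

end Cfsg.Agent.TwoPtAlt
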