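import Cfsg.Agent.Lib.TwoPtAlt.Types

/-!
# Two-point stabilisers isomorphic to `A₄` or `A₅`: fixed points of sets of involutions
-/

set_option autoImplicit false
set_option linter.unusedSectionVars false
set_option linter.style.haveILetI false

namespace Cfsg.Agent.TwoPtAlt

open MulAction Cfsg.Agent.Zass
open scoped Classical

universe u v

variable {G : Type u} [Group G] [Finite G] {Ω : Type v} [MulAction G Ω] [Fintype Ω]

/-- Elements fixing one point of `F` and acting as involutions on it: as many fix a given point as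
move a given point to another given one. -/
theorem per_point (K : Subgroup G) (F : Set Ω) {a b : Ω} (ha : a ∈ F) (hb : b ∈ F) (hab : a ≠ b)
    (hinv : ∀ k ∈ K, ∀ p ∈ F, k • p ∈ F)
    (htr : ∀ c ∈ F, ∀ c' ∈ F, c ≠ c' → ∃ k ∈ K, k • a = c ∧ k • b = c')
    (B : Set G) (hBinv : ∀ k ∈ K, ∀ s ∈ B, k * s * k⁻¹ ∈ B) (hBF : ∀ s ∈ B, ∀ p ∈ F, s • p ∈ F)
    (hone : ∀ s ∈ B, Set.ncard {p : Ω | p ∈ F ∧ s • p = p} = 1) :
    Set.ncard {s : G | s ∈ B ∧ s • a = a} = Set.ncard {s : G | s ∈ B ∧ s • a = b} := by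
  letI : Fintype G := Fintype.ofFinite G
  have hconjB : ∀ k ∈ K, ∀ s : G, k * s * k⁻¹ ∈ B ↔ s ∈ B := fun k hk s => by
    refine ⟨fun h => ?_, hBinv k hk s⟩
    have := hBinv _ (K.inv_mem hk) _ h
    rwa [show k⁻¹ * (k * s * k⁻¹) * k⁻¹⁻¹ = s by group] at this
  have hfib : ∀ k ∈ K, ∀ y : Ω,
      Nat.card {s : G // s ∈ B ∧ s • (k • a) = k • y} = Nat.card {s : G // s ∈ B ∧ s • a = y} := by
    intro k hk y
    refine (Nat.card_congr ((MulAut.conj k).toEquiv.subtypeEquiv fun s => ?_)).symm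
    show s ∈ B ∧ s • a = y ↔ k * s * k⁻¹ ∈ B ∧ (k * s * k⁻¹) • (k • a) = k • y
    rw [hconjB k hk, mul_smul, mul_smul, inv_smul_smul, smul_left_cancel_iff]
  set P := Set.ncard {s : G | s ∈ B ∧ s • a = b}
  set Q := Set.ncard {s : G | s ∈ B ∧ s • a = a}
  have hQ : ∀ p : F, Nat.card {s : G // s ∈ B ∧ s • p.1 = p.1} = Q := fun p => by
    obtain ⟨k, hk, hka⟩ : ∃ k ∈ K, k • a = p.1 := by
      rcases eq_or_ne p.1 a with e | e
      · exact ⟨1, K.one_mem, by rw [one_smul, e]⟩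
      · obtain ⟨k, hk, h1, -⟩ := htr p.1 p.2 a ha e
        exact ⟨k, hk, h1⟩
    rw [← hka, hfib k hk a]
    exact Nat.card_coe_set_eq _
  have hP : ∀ q : {q : F × F // q.1.1 ≠ q.2.1}, Nat.card {s : G // s ∈ B ∧ s • q.1.1.1 = q.1.2.1} = P :=
    fun q => by
      obtain ⟨k, hk, h1, h2⟩ := htr _ q.1.1.2 _ q.1.2.2 q.2
      rw [← h1, ← h2, hfib k hk b]
      exact Nat.card_coe_set_eq _
  have hfix : ∀ s : B, Nat.card {p : F // s.1 • p.1 = p.1} = 1 := fun s => by
    rw [← hone s.1 s.2, ← Nat.card_coe_set_eq]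
    exact Nat.card_congr (Equiv.subtypeSubtypeEquivSubtypeInter (fun p : Ω => p ∈ F) fun p => s.1 • p = p)
  have e1 : Nat.card (Σ s : B, {p : F // s.1 • p.1 = p.1}) =
      Nat.card (Σ p : F, {s : G // s ∈ B ∧ s • p.1 = p.1}) :=
    Nat.card_congr
      { toFun := fun z => ⟨z.2.1, z.1.1, z.1.2, z.2.2⟩
        invFun := fun z => ⟨⟨z.2.1, z.2.2.1⟩, z.1, z.2.2.2⟩
        left_inv := fun _ => rfl
        right_inv := fun _ => rfl }
  have e2 : Nat.card (Σ s : B, {p : F // s.1 • p.1 ≠ p.1}) =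
      Nat.card (Σ q : {q : F × F // q.1.1 ≠ q.2.1}, {s : G // s ∈ B ∧ s • q.1.1.1 = q.1.2.1}) :=
    Nat.card_congr
      { toFun := fun z => ⟨⟨(z.2.1, ⟨z.1.1 • z.2.1.1, hBF _ z.1.2 _ z.2.1.2⟩), fun e => z.2.2 e.symm⟩,
          z.1.1, z.1.2, rfl⟩
        invFun := fun z => ⟨⟨z.2.1, z.2.2.1⟩, z.1.1.1, fun e => z.1.2 (e.symm.trans z.2.2.2)⟩
        left_inv := fun _ => rfl
        right_inv := fun z => by
          obtain ⟨⟨⟨x, ⟨y, hy'⟩⟩, hxy⟩, ⟨s, hs, hy⟩⟩ := z
          dsimp only at hy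
          subst hy
          rfl }
  have hmov : ∀ s : B, Nat.card {p : F // s.1 • p.1 ≠ p.1} = F.ncard - 1 := fun s => by
    have := hfix s
    rw [Nat.card_eq_fintype_card] at this
    rw [Nat.card_eq_fintype_card, Fintype.card_subtype_compl, this, ← Nat.card_eq_fintype_card,
      Nat.card_coe_set_eq]
  have hpairs : Nat.card {q : F × F // q.1.1 ≠ q.2.1} = F.ncard * (F.ncard - 1) := by
    rw [Nat.card_congr (Equiv.subtypeProdEquivSigmaSubtype fun x y : F => x.1 ≠ y.1), Nat.card_sigma,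
      Finset.sum_congr rfl fun x _ => show Nat.card {y : F // x.1 ≠ y.1} = F.ncard - 1 by
        rw [Nat.card_congr (Equiv.subtypeEquivRight fun y : F =>
          (show x.1 ≠ y.1 ↔ ¬ x = y from not_congr Subtype.coe_inj)), Nat.card_eq_fintype_card,
          Fintype.card_subtype_compl, Fintype.card_subtype_eq', ← Nat.card_eq_fintype_card,
          Nat.card_coe_set_eq],
      Finset.sum_const, smul_eq_mul, Finset.card_univ, ← Nat.card_eq_fintype_card, Nat.card_coe_set_eq]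
  rw [Nat.card_sigma, Nat.card_sigma] at e1 e2
  simp only [hfix, hQ, hmov, hP, Finset.sum_const, Finset.card_univ, smul_eq_mul, mul_one,
    ← Nat.card_eq_fintype_card, hpairs, Nat.card_coe_set_eq] at e1 e2
  have hF : 2 ≤ F.ncard := by
    rw [← Set.ncard_pair hab]
    exact Set.ncard_le_ncard (Set.pair_subset ha hb) (Set.toFinite _)
  rw [e1] at e2
  refine Nat.eq_of_mul_eq_mul_left (show 0 < F.ncard * (F.ncard - 1) from Nat.mul_pos (by omega) (by omega)) ?_
  rw [← e2]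
  ring

/-- Two elements with two common fixed points. -/
def Four (Ω : Type v) [MulAction G Ω] (s t : G) : Prop :=
  ∃ c c' : Ω, c ≠ c' ∧ (s • c = c ∧ t • c = c) ∧ (s • c' = c' ∧ t • c' = c')

theorem four_conj {s t g : G} (h : Four Ω s t) : Four Ω (g * s * g⁻¹) (g * t * g⁻¹) := by
  obtain ⟨c, c', hne, ⟨h1, h2⟩, h3, h4⟩ := h
  refine ⟨g • c, g • c', fun e => hne ((smul_left_cancel_iff g).mp e), ⟨?_, ?_⟩, ?_, ?_⟩ <;>
    rw [mul_smul, mul_smul, inv_smul_smul] <;> simp [*]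

theorem four_symm {s t : G} (h : Four Ω s t) : Four Ω t s := by
  obtain ⟨c, c', hne, ⟨h1, h2⟩, h3, h4⟩ := h
  exact ⟨c, c', hne, ⟨h2, h1⟩, h4, h3⟩

namespace Data

variable {a b : Ω} {V : Subgroup G} {J : G} {hh : ℕ} (d : Data a b V J hh)
include d

theorem line_iff_four {t : G} (ht : t * t = 1) (ht1 : t ≠ 1) (htJ : t ≠ J) (hc : t * J = J * t) :
    Line V J t ↔ Four Ω J t := by
  constructor
  · intro h
    have h2 : 1 < Set.ncard {p : Ω | J • p = p ∧ t • p = p} := by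
      rw [d.line_fixed h]; exact d.two_le_j
    obtain ⟨c, h1, c', h1', hne⟩ := (Set.one_lt_ncard (Set.toFinite _)).mp h2
    exact ⟨c, c', hne, h1, h1'⟩
  · rintro ⟨c, c', hne, ⟨h1, h2⟩, h3, h4⟩
    exact d.line_of_fixed ht ht1 htJ hc hne h1 h3 h2 h4

theorem cent_inv_maps {t : G} (hc : t * J = J * t) {p : Ω} (hp : J • p = p) : J • (t • p) = t • p :=
  d.cent_maps (Subgroup.mem_centralizer_singleton_iff.mpr hc) hp

/-- An involution commuting with `J` and off the lines fixes one of the fixed points of `J`. -/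
theorem one_fixed (hi : Odd (fx1 Ω J)) {t : G} (ht : t * t = 1) (hc : t * J = J * t)
    (hnl : ¬ Four Ω J t) : Set.ncard {p : Ω | p ∈ {p : Ω | J • p = p} ∧ t • p = p} = 1 := by
  have hle : Set.ncard {p : Ω | p ∈ {p : Ω | J • p = p} ∧ t • p = p} ≤ 1 := by
    by_contra h
    obtain ⟨c, h1, c', h1', hne⟩ := (Set.one_lt_ncard (Set.toFinite _)).mp (not_le.mp h)
    exact hnl ⟨c, c', hne, h1, h1'⟩
  refine le_antisymm hle (Nat.pos_of_ne_zero fun h0 => ?_)
  have hempty : ∀ p : Ω, J • p = p → t • p ≠ p := fun p hp e => by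
    have := (Set.ncard_eq_zero (Set.toFinite _)).mp h0
    exact Set.eq_empty_iff_forall_notMem.mp this p ⟨hp, e⟩
  let F := {p : Ω // J • p = p}
  let σ : Equiv.Perm F :=
    { toFun := fun p => ⟨t • p.1, d.cent_inv_maps hc p.2⟩
      invFun := fun p => ⟨t • p.1, d.cent_inv_maps hc p.2⟩
      left_inv := fun p => Subtype.ext (by show t • (t • p.1) = p.1; rw [← mul_smul, ht, one_smul])
      right_inv := fun p => Subtype.ext (by show t • (t • p.1) = p.1; rw [← mul_smul, ht, one_smul]) }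
  have h1 : σ.support = Finset.univ := Finset.eq_univ_of_forall fun p =>
    Equiv.Perm.mem_support.mpr fun e => hempty p.1 p.2 (congrArg Subtype.val e)
  have h2 : σ ^ 2 = 1 := by
    ext p
    show t • (t • p.1) = p.1
    rw [← mul_smul, ht, one_smul]
  have h3 : 2 ∣ σ.support.card := by
    have := Equiv.Perm.two_dvd_card_support (σ := σ) h2
    exact this
  rw [h1, Finset.card_univ, ← Nat.card_eq_fintype_card,
    show Nat.card F = fx1 Ω J from Nat.card_coe_set_eq _] at h3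
  exact Nat.not_even_iff_odd.mpr hi (even_iff_two_dvd.mpr h3)

end Data

end Cfsg.Agent.TwoPtAlt
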