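import Cfsg.Agent.Lib.TwoPtAlt.EndsBase
import Cfsg.Agent.Lib.TwoPtAlt.Basic
import Cfsg.Agent.Lib.M11Uniq.Std
import Cfsg.Agent.Lib.Golay.Mathieu

/-!
# The ends: degrees 6, 7, 15, 91 and 12
-/

set_option autoImplicit false
set_option linter.unusedSectionVars false
set_option linter.style.haveILetI false

namespace Cfsg.Agent.TwoPtAlt

open MulAction

universe u v

variable {G : Type u} [Group G] [Finite G] {Ω : Type v} [MulAction G Ω] [Fintype Ω] [FaithfulSMul G Ω]

namespace Basics

/-- `|H| |M : H ∩ M|` divides `|S|` for a normal subgroup `M` of `S`. -/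
theorem card_mul_relIndex_sup {K : Type*} [Group K] [Finite K] (H M S : Subgroup K) (hH : H ≤ S)
    (hM : M ≤ S) (hn : ∀ g ∈ H, ∀ m ∈ M, g * m * g⁻¹ ∈ M) :
    Nat.card H * H.relIndex M ∣ Nat.card S := by
  have hle : H ≤ Subgroup.normalizer (M : Set K) := fun g hg =>
    Subgroup.mem_normalizer_fintype fun m hm => hn g hg m hm
  have hsup : H ⊔ M ≤ Subgroup.normalizer (M : Set K) := sup_le hle Subgroup.le_normalizer
  haveI : (M.subgroupOf (H ⊔ M)).Normal := Subgroup.normal_subgroupOf_of_le_normalizer hsup
  have h1 := Subgroup.relIndex_sup_right (H.subgroupOf (H ⊔ M)) (M.subgroupOf (H ⊔ M))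
  rw [← Subgroup.subgroupOf_sup le_sup_left le_sup_right, Subgroup.subgroupOf_self,
    Subgroup.relIndex_top_right, Subgroup.relIndex_subgroupOf le_sup_left] at h1
  have a1 := Subgroup.card_mul_index (M.subgroupOf (H ⊔ M))
  rw [h1, Nat.card_congr (Subgroup.subgroupOfEquivOfLe (le_sup_right : M ≤ H ⊔ M)).toEquiv] at a1
  have a2 := Subgroup.card_mul_index (M.subgroupOf H)
  have a3 := Subgroup.card_mul_index (H.subgroupOf M)
  rw [← Subgroup.inf_subgroupOf_right, Nat.card_congr (Subgroup.subgroupOfEquivOfLe inf_le_right).toEquiv,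
    ← Subgroup.relIndex] at a2
  rw [← Subgroup.inf_subgroupOf_right, Nat.card_congr (Subgroup.subgroupOfEquivOfLe inf_le_right).toEquiv,
    ← Subgroup.relIndex, inf_comm] at a3
  simp only [inf_comm M H, Subgroup.inf_relIndex_right] at a2 a3 ⊢
  rw [show (H ⊓ M).relIndex H = M.relIndex H by rw [inf_comm, Subgroup.inf_relIndex_right]] at a2
  refine dvd_trans (dvd_of_eq ?_) (Subgroup.card_dvd_of_le (sup_le hH hM))
  rw [← a1, ← a2, ← a3]
  ring

/-- A normal subgroup of order 132 of a group of degree 12 gives a regular normal subgroup. -/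
theorem no_order_132 (N : Subgroup G) [N.Normal] [IsPretransitive N Ω] (hN : Nat.card N = 12 * 11)
    (hnr : ∀ R : Subgroup G, R.Normal → IsPretransitive ↥R Ω →
      (∀ x : Ω, stabilizer ↥R x = ⊥) → False)
    (hn : Nat.card Ω = 12) (hp : IsPreprimitive G Ω) : False := by
  haveI : Fact (Nat.Prime 11) := ⟨by norm_num⟩
  obtain ⟨P⟩ : Nonempty (Sylow 11 N) := inferInstance
  have hP : Nat.card P = 11 := by
    rw [P.card_eq_multiplicity, hN, Nat.factorization_mul (by norm_num) (by norm_num), Finsupp.add_apply,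
      Nat.Prime.factorization_self (by norm_num), Nat.factorization_eq_zero_of_not_dvd (by norm_num)]
    rfl
  have hidx : (P : Subgroup N).index = 12 := by
    have h := (P : Subgroup N).card_mul_index
    rw [hN, hP] at h
    omega
  have hd : Nat.card (Sylow 11 N) ∣ 12 := hidx ▸ Sylow.card_dvd_index P
  have hmod : Nat.card (Sylow 11 N) % 11 = 1 := card_sylow_modEq_one 11 N
  have hcases : Nat.card (Sylow 11 N) = 1 ∨ Nat.card (Sylow 11 N) = 12 := by
    have := Nat.le_of_dvd (by norm_num) hd
    interval_cases hc : Nat.card (Sylow 11 N) <;> omega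
  rcases hcases with h1 | h12
  · haveI : Subsingleton (Sylow 11 N) := (Nat.card_eq_one_iff_unique.1 h1).1
    haveI hPc : (P : Subgroup N).Characteristic := P.characteristic_of_normal (Sylow.normal_of_subsingleton P)
    set R := (P : Subgroup N).map N.subtype with hR
    haveI : R.Normal := FittingCores.normal_map_of_characteristic inferInstance hPc
    have hR11 : Nat.card R = 11 := by
      rw [hR, Subgroup.card_map_of_injective N.subtype_injective, hP]
    haveI := PermNormal.transitive_of_normal hp R (fun e => by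
      rw [e, Subgroup.card_bot] at hR11; omega)
    obtain ⟨a⟩ : Nonempty Ω := (Nat.card_pos_iff.1 (by omega)).1
    have h := PermNormal.card_stabilizer_mul (G := R) a
    rw [hn, hR11] at h
    omega
  · have hN' : Subgroup.normalizer ((P : Subgroup N) : Set N) = (P : Subgroup N) := by
      refine (Subgroup.eq_of_le_of_card_ge Subgroup.le_normalizer (le_of_eq ?_)).symm
      have h := (Subgroup.normalizer ((P : Subgroup N) : Set N)).card_mul_index
      have hc : (Subgroup.normalizer ((P : Subgroup N) : Set N)).index = 12 :=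
        P.card_eq_index_normalizer.symm.trans h12
      rw [hc, hN] at h
      omega
    haveI hPcyc : IsCyclic (P : Subgroup N) := isCyclic_of_prime_card (p := 11) hP
    haveI hPcomm : IsMulCommutative (P : Subgroup N) := ⟨⟨IsCyclic.isMulCommutative.is_comm.comm⟩⟩
    have hcent : Subgroup.normalizer ((P : Subgroup N) : Set N) ≤
        Subgroup.centralizer ((P : Subgroup N) : Set N) := by
      rw [hN']; exact Subgroup.le_centralizer _
    have hcpl := MonoidHom.ker_transferSylow_isComplement' P hcent
    set K := (MonoidHom.transferSylow P hcent).ker with hK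
    have hKc : Nat.card K = 12 := by
      have h := hcpl.card_mul
      rw [hP, hN] at h
      omega
    haveI hKn : (K.map N.subtype).Normal := by
      refine ⟨fun x hx g => ?_⟩
      obtain ⟨k, hk, rfl⟩ := hx
      refine ⟨(MulAut.conjNormal g) k, ?_, by simp⟩
      have hmap : K.map (MulAut.conjNormal g : MulAut N).toMonoidHom ≤ K := by
        intro y hy
        have ho : orderOf y ∣ 12 := by
          rw [← hKc, ← Subgroup.card_map_of_injective (MulAut.conjNormal g : MulAut N).injective]
          exact Subgroup.orderOf_dvd_natCard _ hy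
        have h2 : orderOf (MonoidHom.transferSylow P hcent y) ∣ 11 :=
          (orderOf_dvd_natCard _).trans (dvd_of_eq hP)
        have h3 : orderOf (MonoidHom.transferSylow P hcent y) = 1 :=
          Nat.eq_one_of_dvd_coprimes (by norm_num) ((orderOf_map_dvd _ y).trans ho) h2
        exact orderOf_eq_one_iff.1 h3
      exact hmap (Subgroup.mem_map_of_mem _ hk)
    have hR12 : Nat.card (K.map N.subtype) = 12 := by
      rw [Subgroup.card_map_of_injective N.subtype_injective, hKc]
    haveI := PermNormal.transitive_of_normal hp (K.map N.subtype) (fun e => by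
      rw [e, Subgroup.card_bot] at hR12; omega)
    refine hnr _ hKn inferInstance fun x => Subgroup.card_eq_one.1 ?_
    have h := PermNormal.card_stabilizer_mul (G := K.map N.subtype) x
    rw [hn, hR12] at h
    omega

end Basics

/-- A group of index two in the symmetric group is alternating. -/
theorem end_alt {m : ℕ} (hn : Nat.card Ω = m) (hG : Nat.card G * 2 = m.factorial) :
    Nonempty (G ≃* alternatingGroup (Fin m)) := by
  have e : Ω ≃ Fin m := Finite.equivFinOfCardEq hn
  let φ : G →* Equiv.Perm (Fin m) := e.permCongrHom.toMonoidHom.comp (MulAction.toPermHom G Ω)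
  have hφ : Function.Injective φ :=
    e.permCongrHom.injective.comp (MulAction.toPerm_injective (α := G) (β := Ω))
  have hidx : φ.range.index = 2 := by
    have h := φ.range.card_mul_index
    rw [Nat.card_perm, Nat.card_fin, ← Nat.card_congr (MonoidHom.ofInjective hφ).toEquiv, ← hG] at h
    exact Nat.eq_of_mul_eq_mul_left Nat.card_pos h
  exact ⟨(MonoidHom.ofInjective hφ).trans
    (MulEquiv.subgroupCongr (Equiv.Perm.eq_alternatingGroup_of_index_eq_two hidx))⟩

/-- Degree six. -/
theorem end_six (hn : Nat.card Ω = 6) (hG : Nat.card G = 360) :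
    Nonempty (G ≃* alternatingGroup (Fin 6)) := end_alt hn (by rw [hG]; rfl)

/-- Degree seven. -/
theorem end_seven (hn : Nat.card Ω = 7) (hG : Nat.card G = 2520) :
    Nonempty (G ≃* alternatingGroup (Fin 7)) := end_alt hn (by rw [hG]; rfl)

theorem isPreprimitive_of_two (h2 : IsMultiplyPretransitive G Ω 2) : IsPreprimitive G Ω :=
  MulAction.isPreprimitive_of_is_two_pretransitive h2

/-- Dihedral Sylow 2-subgroups pass from a point stabiliser when the degree is odd. -/
theorem dihSylow_of_stabilizer (h2 : IsMultiplyPretransitive G Ω 2) (hodd : Odd (Nat.card Ω)) (a : Ω)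
    (hd : GW.DihSylow (stabilizer G a)) : GW.DihSylow G := by
  haveI : Fact (Nat.Prime 2) := ⟨Nat.prime_two⟩
  haveI : IsPretransitive G Ω := isPretransitive_of_is_two_pretransitive
  obtain ⟨P, n, hn, ⟨e⟩⟩ := hd
  set Q := (P : Subgroup (stabilizer G a)).map (stabilizer G a).subtype with hQ
  have hp : IsPGroup 2 Q := P.isPGroup'.map _
  have hidx : ¬ 2 ∣ Q.index := by
    rw [hQ, Subgroup.index_map_subtype, index_stabilizer_of_transitive]
    intro h
    rcases Nat.prime_two.dvd_mul.1 h with h' | h'
    · exact P.not_dvd_index h'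
    · obtain ⟨r, hr⟩ := hodd
      omega
  exact ⟨hp.toSylow hidx, n, hn,
    ⟨((P : Subgroup (stabilizer G a)).equivMapOfInjective _ Subtype.val_injective).symm.trans e⟩⟩

set_option synthInstance.maxSize 1000 in
set_option synthInstance.maxHeartbeats 200000 in
/-- Degree fifteen. -/
theorem end_fifteen (h2 : IsMultiplyPretransitive G Ω 2) (hn : Nat.card Ω = 15)
    (hG : Nat.card G = 2520) (a : Ω) (hd : GW.DihSylow (stabilizer G a)) :
    Nonempty (G ≃* alternatingGroup (Fin 7)) := by
  have hdG := dihSylow_of_stabilizer h2 (by rw [hn]; decide) a hd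
  rcases dih_socle (isPreprimitive_of_two h2) (by rw [hn, isPrimePow_nat_iff_bounded]; decide +kernel)
      (by omega) hdG with h | ⟨L, hLt, F, i1, i2, hodd, hq3, ⟨e⟩, ι, hι⟩
  · exact h
  exfalso
  haveI := hLt
  have h15 : 15 ∣ Nat.card L := hn ▸ Dvd.intro _ (PermNormal.card_stabilizer_mul (G := L) a)
  have hLd : Nat.card L ∣ 2520 := hG ▸ Subgroup.card_subgroup_dvd_card L
  have hP := two_mul_card_psl (F := F) hodd
  rw [← Nat.card_congr e.toEquiv] at hP
  have hA : Nat.card G ∣ Nat.card (MulAut (Matrix.ProjectiveSpecialLinearGroup (Fin 2) F)) :=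
    Subgroup.card_dvd_of_injective ι hι
  have key : ∀ (p f : ℕ), p.Prime → Fintype.card F = p ^ f →
      2520 ∣ Nat.card L * (2 * (f * 2)) := fun p f hp hF => by
    haveI := Fact.mk hp
    rw [Nat.card_congr e.toEquiv, ← hG]
    exact hA.trans (card_aut_psl_dvd hodd hF)
  have hq18 : Fintype.card F < 18 := by
    by_contra h
    have h1 : 18 * 17 * 19 ≤ 2 * Nat.card L := hP ▸ Nat.mul_le_mul (Nat.mul_le_mul (by omega)
      (by omega)) (by omega)
    have := Nat.le_of_dvd (by norm_num) hLd
    omega
  have h30 : 30 ∣ Fintype.card F * (Fintype.card F - 1) * (Fintype.card F + 1) := by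
    rw [← hP]; exact mul_dvd_mul_left 2 h15
  have h5040 : Fintype.card F * (Fintype.card F - 1) * (Fintype.card F + 1) ∣ 5040 := by
    rw [← hP]; exact mul_dvd_mul_left 2 hLd
  have hdec : ∀ q : ℕ, q < 18 → q % 2 = 1 → 3 < q → 30 ∣ q * (q - 1) * (q + 1) → q * (q - 1) * (q + 1) ∣ 5040 →
      q = 5 ∨ q = 9 := by decide +kernel
  rcases hdec _ hq18 (Nat.odd_iff.1 hodd) hq3 h30 h5040 with e5 | e9
  · have h := key 5 1 (by norm_num) (by rw [e5]; rfl)
    rw [e5] at hP
    rw [show Nat.card L = 60 by omega] at h
    exact absurd h (by decide +kernel)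
  · have h := key 3 2 (by norm_num) (by rw [e9]; rfl)
    rw [e9] at hP
    rw [show Nat.card L = 360 by omega] at h
    exact absurd h (by decide +kernel)

set_option synthInstance.maxSize 1000 in
set_option synthInstance.maxHeartbeats 200000 in
/-- Degree ninety-one. -/
theorem end_ninety_one (h2 : IsMultiplyPretransitive G Ω 2) (hn : Nat.card Ω = 91)
    (hG : Nat.card G = 98280) (a : Ω) (hd : GW.DihSylow (stabilizer G a)) : False := by
  have hdG := dihSylow_of_stabilizer h2 (by rw [hn]; decide) a hd
  rcases dih_socle (isPreprimitive_of_two h2) (by rw [hn, isPrimePow_nat_iff_bounded]; decide +kernel)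
      (by omega) hdG with ⟨⟨e⟩⟩ | ⟨L, hLt, F, i1, i2, hodd, hq3, ⟨e⟩, ι, hι⟩
  · rw [Nat.card_congr e.toEquiv, nat_card_alternatingGroup, Nat.card_fin] at hG
    exact absurd hG (by decide +kernel)
  haveI := hLt
  have h91 : 91 ∣ Nat.card L := hn ▸ Dvd.intro _ (PermNormal.card_stabilizer_mul (G := L) a)
  have hLd : Nat.card L ∣ 98280 := hG ▸ Subgroup.card_subgroup_dvd_card L
  have hP := two_mul_card_psl (F := F) hodd
  rw [← Nat.card_congr e.toEquiv] at hP
  have hA : Nat.card G ∣ Nat.card (MulAut (Matrix.ProjectiveSpecialLinearGroup (Fin 2) F)) :=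
    Subgroup.card_dvd_of_injective ι hι
  have key : ∀ (p f : ℕ), p.Prime → Fintype.card F = p ^ f →
      98280 ∣ Nat.card L * (2 * (f * 2)) := fun p f hp hF => by
    haveI := Fact.mk hp
    rw [Nat.card_congr e.toEquiv, ← hG]
    exact hA.trans (card_aut_psl_dvd hodd hF)
  have hq : Fintype.card F < 60 := by
    by_contra h
    have h1 : 60 * 59 * 61 ≤ 2 * Nat.card L := hP ▸ Nat.mul_le_mul (Nat.mul_le_mul (by omega)
      (by omega)) (by omega)
    have := Nat.le_of_dvd (by norm_num) hLd
    omega
  have h182 : 182 ∣ Fintype.card F * (Fintype.card F - 1) * (Fintype.card F + 1) := by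
    rw [← hP]; exact mul_dvd_mul_left 2 h91
  have hd2 : Fintype.card F * (Fintype.card F - 1) * (Fintype.card F + 1) ∣ 196560 := by
    rw [← hP]; exact mul_dvd_mul_left 2 hLd
  have hdec : ∀ q : ℕ, q < 60 → q % 2 = 1 → 3 < q → 182 ∣ q * (q - 1) * (q + 1) → q * (q - 1) * (q + 1) ∣ 196560 →
      q = 13 ∨ q = 27 := by decide +kernel
  rcases hdec _ hq (Nat.odd_iff.1 hodd) hq3 h182 hd2 with e13 | e27
  · have h := key 13 1 (by norm_num) (by rw [e13]; rfl)
    rw [e13] at hP
    rw [show Nat.card L = 1092 by omega] at h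
    exact absurd h (by decide +kernel)
  · have h := key 3 3 (by norm_num) (by rw [e27]; rfl)
    rw [e27] at hP
    rw [show Nat.card L = 9828 by omega] at h
    exact absurd h (by decide +kernel)

/-- Degree twelve, `G_{ab} ≅ A₅`, no regular normal subgroup. -/
theorem end_twelve (h2 : IsMultiplyPretransitive G Ω 2) (hn : Nat.card Ω = 12)
    (hG : Nat.card G = 7920) (a b : Ω) (hab : a ≠ b)
    (hnr : ∀ N : Subgroup G, N.Normal → IsPretransitive ↥N Ω →
      (∀ x : Ω, stabilizer ↥N x = ⊥) → False)
    (e : ↥(stabilizer G a ⊓ stabilizer G b) ≃* ↥(alternatingGroup (Fin 5))) :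
    Cfsg.Spor.IsoM11 G := by
  haveI : IsPretransitive G Ω := isPretransitive_of_is_two_pretransitive
  set H := stabilizer G a ⊓ stabilizer G b with hH
  have hH60 : Nat.card H = 60 := by
    rw [Nat.card_congr e.toEquiv, nat_card_alternatingGroup, Nat.card_fin]; decide +kernel
  haveI hHs : IsSimpleGroup H := by
    haveI := alternatingGroup.isSimpleGroup (α := Fin 5) (by simp)
    exact e.isSimpleGroup_congr.2 inferInstance
  have hGa : Nat.card (stabilizer G a) = 660 := by
    have := PermNormal.card_stabilizer_mul (G := G) a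
    rw [hn, hG] at this
    omega
  have hsimple : IsSimpleGroup G := by
    haveI : Nontrivial G := Finite.one_lt_card_iff_nontrivial.1 (by omega)
    refine ⟨fun N hN => ?_⟩
    by_cases hN1 : N = ⊥
    · exact Or.inl hN1
    right
    haveI := hN
    haveI := PermNormal.transitive_of_normal (isPreprimitive_of_two h2) N hN1
    set M := N ⊓ stabilizer G a with hM
    have hcardM : Nat.card M = Nat.card (stabilizer N a) :=
      Nat.card_congr
        { toFun := fun g => ⟨⟨g.1, g.2.1⟩, g.2.2⟩
          invFun := fun g => ⟨g.1.1, g.1.2, g.2⟩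
          left_inv := fun _ => rfl
          right_inv := fun _ => rfl }
    have hNM : Nat.card N = 12 * Nat.card M := by
      rw [hcardM, ← hn, PermNormal.card_stabilizer_mul]
    have hM1 : M ≠ ⊥ := by
      intro h
      refine hnr N hN inferInstance fun x => ?_
      have hx := PermNormal.card_stabilizer_mul (G := N) x
      rw [hNM, h, Subgroup.card_bot, hn, mul_one] at hx
      exact Subgroup.card_eq_one.1 (by omega)
    have hMn : ∀ g ∈ stabilizer G a, ∀ m ∈ M, g * m * g⁻¹ ∈ M := fun g hg m hm =>
      ⟨hN.conj_mem m hm.1 g, (stabilizer G a).mul_mem ((stabilizer G a).mul_mem hg hm.2) ((stabilizer G a).inv_mem hg)⟩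
    have hS := Basics.card_mul_relIndex_sup H M (stabilizer G a) inf_le_left inf_le_right
      (fun g hg m hm => hMn g ((inf_le_left : H ≤ _) hg) m hm)
    rw [hH60, hGa] at hS
    have h11 : (H.relIndex M) = 1 ∨ H.relIndex M = 11 :=
      (Nat.dvd_prime (by norm_num)).1 (Nat.dvd_of_mul_dvd_mul_left (show 0 < 60 by norm_num)
        (hS.trans (dvd_of_eq (show (660 : ℕ) = 60 * 11 by norm_num))))
    have hk : H.relIndex M = 11 := by
      refine h11.resolve_left fun h1 => hM1 ?_
      have hMH : M ≤ H := Subgroup.relIndex_eq_one.1 h1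
      rw [Subgroup.eq_bot_iff_forall]
      intro m hm
      refine FaithfulSMul.eq_of_smul_eq_smul fun c : Ω => ?_
      rw [one_smul]
      rcases eq_or_ne c a with rfl | hca
      · exact hm.2
      · obtain ⟨g, g1, g2⟩ := is_two_pretransitive_iff.mp h2 hab hca.symm
        have hb := (hMH (hMn g⁻¹ (inv_mem g1) m hm)).2
        replace hb : (g⁻¹ * m * g⁻¹⁻¹) • b = b := hb
        rw [inv_inv, mul_smul, mul_smul, inv_smul_eq_iff, g2] at hb
        exact hb
    have hMc := Subgroup.card_mul_index (H.subgroupOf M)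
    rw [← Subgroup.relIndex, hk] at hMc
    haveI hMHn : (M.subgroupOf H).Normal :=
      ⟨fun m hm g => hMn g ((inf_le_left : H ≤ _) g.2) m hm⟩
    rcases hMHn.eq_bot_or_eq_top with hbot | htop
    · exfalso
      have hM11 : Nat.card M = 11 := by
        rw [← hMc, ← Subgroup.inf_subgroupOf_right,
          Nat.card_congr (Subgroup.subgroupOfEquivOfLe inf_le_right).toEquiv,
          show H ⊓ M = ⊥ by
            rw [Subgroup.eq_bot_iff_forall]
            intro x hx
            have h1 : (⟨x, hx.1⟩ : H) ∈ M.subgroupOf H := hx.2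
            rw [hbot, Subgroup.mem_bot] at h1
            exact congrArg Subtype.val h1,
          Subgroup.card_bot, one_mul]
      exact Basics.no_order_132 N (by rw [hNM, hM11]) hnr hn (isPreprimitive_of_two h2)
    · have hle : H ≤ M := Subgroup.subgroupOf_eq_top.1 htop
      have hM660 : Nat.card M = 660 := by
        rw [← hMc, ← Subgroup.inf_subgroupOf_right,
          Nat.card_congr (Subgroup.subgroupOfEquivOfLe inf_le_right).toEquiv, inf_eq_left.2 hle, hH60]
      refine Subgroup.eq_top_of_card_eq N ?_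
      rw [hNM, hM660, hG]
  haveI := hsimple
  haveI : Fintype G := Fintype.ofFinite G
  haveI : IsSimpleGroup ↥Cfsg.Spor.M11 := by
    rw [Golay.sporM11_eq]; exact Golay.isSimpleGroup_M11
  haveI : Fintype ↥Cfsg.Spor.M11 := Fintype.ofFinite _
  obtain ⟨e1⟩ := M11Uniq.nonempty_mulEquiv_std hG
  obtain ⟨e2⟩ := M11Uniq.nonempty_mulEquiv_std Golay.card_sporM11
  exact ⟨e1.trans e2.symm⟩

end Cfsg.Agent.TwoPtAlt
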