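import Cfsg.Agent.Lib.GW.Main
import Cfsg.Agent.Lib.GW.AlmostTarget
import Cfsg.Agent.Lib.GW.Consequences
import Cfsg.Agent.Lib.Perm.NormalSub
import Cfsg.Agent.Lib.AutPSL.Outer
import Cfsg.Agent.Lib.JanThom.PSL2Tori
import Cfsg.Agent.Lib.SubThree.PSLFacts
import Cfsg.Agent.Lib.Char.CoprimeCount
import Cfsg.Agent.Lib.OddChar.OddTheorem

/-!
# Tools for the small ends: odd cores, socles, the size of `Aut(PSL₂(q))`
-/

set_option autoImplicit false
set_option linter.unusedSectionVars false
set_option linter.style.haveILetI false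

namespace Cfsg.Agent.TwoPtAlt

open MulAction
open scoped Classical

universe u v

variable {G : Type u} [Group G] [Finite G] {Ω : Type v} [MulAction G Ω] [Finite Ω] [FaithfulSMul G Ω]

/-- A normal solvable subgroup of a primitive group of degree not a prime power is trivial. -/
theorem normal_solvable_eq_bot (hp : IsPreprimitive G Ω) (hn : ¬ IsPrimePow (Nat.card Ω))
    (hn1 : 1 < Nat.card Ω) (N : Subgroup G) [N.Normal] (hs : Group.IsSolvable N) : N = ⊥ := by
  by_contra hne
  haveI : Nontrivial N := (Subgroup.nontrivial_iff_ne_bot N).2 hne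
  obtain ⟨p, hp', A, hA, hA1, hAp⟩ := CoprimeCount.exists_normal_pgroup N hs
  haveI := Fact.mk hp'
  set P := (Cfsg.pCore p N).map N.subtype with hP
  haveI hPn : P.Normal :=
    FittingCores.normal_map_of_characteristic inferInstance (PBasic.pCore_characteristic p _)
  have hP1 : P ≠ ⊥ := fun e => by
    rw [hP, Subgroup.map_eq_bot_iff_of_injective _ N.subtype_injective] at e
    exact hA1 (le_bot_iff.1 ((PBasic.le_pCore hA hAp).trans e.le))
  haveI := PermNormal.transitive_of_normal hp P hP1
  obtain ⟨a⟩ : Nonempty Ω := (Nat.card_pos_iff.1 (by omega)).1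
  have h := PermNormal.card_stabilizer_mul (G := P) a
  obtain ⟨k, hk⟩ := IsPGroup.iff_card.1 ((PBasic.pCore_isPGroup p N).map N.subtype)
  rw [← hP] at hk
  rw [hk] at h
  obtain ⟨j, -, hj⟩ := (Nat.dvd_prime_pow hp').1 (Dvd.intro _ h)
  refine hn ((isPrimePow_nat_iff _).2 ⟨p, j, hp', ?_, hj.symm⟩)
  by_contra hj0
  rw [show j = 0 by omega, pow_zero] at hj
  omega

/-- A primitive group of degree not a prime power with dihedral Sylow 2-subgroups is `A₇`, or has a
socle `PSL₂(q)` with trivial centraliser. -/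
theorem dih_socle (hp : IsPreprimitive G Ω) (hn : ¬ IsPrimePow (Nat.card Ω)) (hn1 : 1 < Nat.card Ω)
    (hd : GW.DihSylow G) :
    Nonempty (G ≃* alternatingGroup (Fin 7)) ∨
      ∃ L : Subgroup G, IsPretransitive L Ω ∧
        ∃ (F : Type) (_ : Field F) (_ : Fintype F), Odd (Fintype.card F) ∧ 3 < Fintype.card F ∧
          Nonempty (L ≃* Matrix.ProjectiveSpecialLinearGroup (Fin 2) F) ∧
          ∃ ι : G →* MulAut (Matrix.ProjectiveSpecialLinearGroup (Fin 2) F), Function.Injective ι := by
  haveI : Fact (Nat.Prime 2) := ⟨Nat.prime_two⟩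
  have hO : Cfsg.oddCore G = ⊥ := by
    refine normal_solvable_eq_bot hp hn hn1 _ ?_
    exact OddChar.oddSolvable _ (Nat.coprime_two_right.1 (PBasic.pPrimeCore_coprime 2 G))
  have hshape : GW.Shape G := by
    refine GW.shape hd hO fun L _ hL hdL => ?_
    haveI := hL
    exact GW.knownBelow_target (GW.knownBelow_of_simple GW.simpleDihedral (Nat.card G + 1)) hdL
      (Nat.lt_succ_of_le (Subgroup.card_le_card_group L))
  rcases GW.shape_solvable_or hshape with hs | ⟨L, hL, hsimp, hnc, htg, hC⟩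
  · exfalso
    haveI := hs
    have h := normal_solvable_eq_bot hp hn hn1 (⊤ : Subgroup G)
      (Group.isSolvable_of_isSolvable_injective (f := (⊤ : Subgroup G).subtype) Subtype.val_injective)
    have h2 := hd.two_dvd
    rw [← Subgroup.card_top (G := G), h, Subgroup.card_bot] at h2
    omega
  haveI := hL
  haveI := hsimp
  rcases GW.almost_target hd L hnc hC htg with ⟨-, e⟩ | ⟨F, i1, i2, hodd, hq3, ι, hι, hmap, -⟩
  · exact Or.inl e
  refine Or.inr ⟨L, PermNormal.transitive_of_normal hp L ?_, F, i1, i2, hodd, hq3, ?_, ι, hι⟩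
  · exact (Subgroup.nontrivial_iff_ne_bot L).1 inferInstance
  have hinj : Function.Injective (MulAut.conj :
      Matrix.ProjectiveSpecialLinearGroup (Fin 2) F →* MulAut _) := by
    rw [← MonoidHom.ker_eq_bot_iff]
    refine eq_bot_iff.2 fun x hx => ?_
    rw [MonoidHom.mem_ker] at hx
    rw [← SubThree.center_trivial (F := F) hq3, Subgroup.mem_center_iff]
    intro y
    have := DFunLike.congr_fun hx y
    rw [MulAut.conj_apply, MulAut.one_apply, mul_inv_eq_iff_eq_mul] at this
    exact this.symm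
  exact ⟨((L.equivMapOfInjective ι hι).trans (MulEquiv.subgroupCongr hmap)).trans
    (MonoidHom.ofInjective hinj).symm⟩

/-- The order of `Aut(PSL₂(q))` divides `|PSL₂(q)| · 4f`. -/
theorem card_aut_psl_dvd {F : Type} [Field F] [Fintype F] (hodd : Odd (Fintype.card F)) {p f : ℕ}
    [Fact p.Prime] (hF : Fintype.card F = p ^ f) :
    Nat.card (MulAut (Matrix.ProjectiveSpecialLinearGroup (Fin 2) F)) ∣
      Nat.card (Matrix.ProjectiveSpecialLinearGroup (Fin 2) F) * (2 * (f * 2)) := by
  set P := Matrix.ProjectiveSpecialLinearGroup (Fin 2) F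
  obtain ⟨φ, -, -, -, ⟨e⟩⟩ := AutPSL.exists_outer_hom (F := F) (n := 2) le_rfl
  obtain ⟨g⟩ := AutPSL.exists_ringAut_equiv (F := F) p f hF
  have hker : Nat.card φ.ker = 2 := by
    rw [Nat.card_congr e.toEquiv, AutPSL.card_quotient_powMonoidHom rfl]
    obtain ⟨r, hr⟩ := hodd
    rw [hr]
    exact Nat.gcd_eq_left ⟨r, by omega⟩
  have hout : Nat.card (MulAut P ⧸ Cfsg.Inn P) ∣ 2 * (f * 2) := by
    rw [← Subgroup.card_mul_index φ.ker, hker, Subgroup.index_ker]
    refine mul_dvd_mul_left 2 ((Subgroup.card_subgroup_dvd_card φ.range).trans (dvd_of_eq ?_))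
    rw [Nat.card_prod, Nat.card_congr g.toEquiv, Nat.card_congr Multiplicative.toAdd, Nat.card_zmod,
      Nat.card_congr (Multiplicative.toAdd (α := ZMod 2)), Nat.card_zmod]
  rw [← Subgroup.card_mul_index (Cfsg.Inn P), Subgroup.index_eq_card]
  exact mul_dvd_mul (Subgroup.card_range_dvd _) hout

/-- The order of `PSL₂(q)`. -/
theorem two_mul_card_psl {F : Type} [Field F] [Fintype F] (hodd : Odd (Fintype.card F)) :
    2 * Nat.card (Matrix.ProjectiveSpecialLinearGroup (Fin 2) F) =
      Fintype.card F * (Fintype.card F - 1) * (Fintype.card F + 1) := by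
  have h := JanThom.two_mul_card_L (F := F) (by rwa [Nat.card_eq_fintype_card])
  rwa [Nat.card_eq_fintype_card (α := F)] at h

end Cfsg.Agent.TwoPtAlt
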