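import Cfsg.Agent.Lib.TwoPtAlt.EndsSixteenCore
import Mathlib.Algebra.QuadraticAlgebra.Basic
import Mathlib.LinearAlgebra.AffineSpace.AffineEquiv
import Mathlib.LinearAlgebra.Matrix.GeneralLinearGroup.Card

/-!
# Degree 16: the affine group of the plane over the field with four elements
-/

set_option autoImplicit false
set_option linter.unusedSectionVars false
set_option linter.style.haveILetI false

namespace Cfsg.Agent.TwoPtAlt

open MulAction Cfsg.Agent.Zass

universe u v w

/-- A group of permutations of a plane which are all semi-affine with linear part is the affine group,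
if the order is right. -/
theorem affine_iso {F : Type} [Field F] [Fintype F] (hF : Fintype.card F = 4) {G : Type u} [Group G]
    [Finite G] (hG : Nat.card G = 2880) (ρ : G →* Equiv.Perm (Fin 2 → F)) (hρ : Function.Injective ρ)
    (hlin : ∀ g : G, ∃ L : (Fin 2 → F) →ₗ[F] (Fin 2 → F), ∀ x v, ρ g (v + x) = L v + ρ g x) :
    Nonempty (G ≃* ((Fin 2 → F) ≃ᵃ[F] (Fin 2 → F))) := by
  classical
  choose L hL using hlin
  have hinj : ∀ g, Function.Injective (L g) := fun g v w h => by
    have := (ρ g).injective (show ρ g (v + 0) = ρ g (w + 0) by rw [hL, hL, h])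
    simpa using this
  let toA : G → ((Fin 2 → F) ≃ᵃ[F] (Fin 2 → F)) := fun g =>
    { toEquiv := ρ g
      linear := LinearEquiv.ofBijective (L g) ⟨hinj g, Finite.injective_iff_surjective.1 (hinj g)⟩
      map_vadd' := fun x v => hL g x v }
  let φ : G →* ((Fin 2 → F) ≃ᵃ[F] (Fin 2 → F)) := MonoidHom.mk' toA fun g h => AffineEquiv.ext fun x => by
    show ρ (g * h) x = ρ g (ρ h x)
    rw [map_mul]
    rfl
  have hφ : Function.Injective φ := fun g h e => hρ (Equiv.ext fun x =>
    congrArg (fun f : (Fin 2 → F) ≃ᵃ[F] (Fin 2 → F) => f x) e)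
  have hGL : Nat.card ((Fin 2 → F) ≃ₗ[F] (Fin 2 → F)) = 180 := by
    rw [← Nat.card_congr (Matrix.GeneralLinearGroup.toLin.trans
      (LinearMap.GeneralLinearGroup.generalLinearEquiv F (Fin 2 → F))).toEquiv, Matrix.card_GL_field,
      Fin.prod_univ_two]
    simp [hF]
  let f : ((Fin 2 → F) ≃ᵃ[F] (Fin 2 → F)) → (Fin 2 → F) × ((Fin 2 → F) ≃ₗ[F] (Fin 2 → F)) :=
    fun A => (A 0, A.linear)
  have hf : Function.Injective f := fun A B h => AffineEquiv.ext fun x => by
    have h1 := A.map_vadd 0 x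
    have h2 := B.map_vadd 0 x
    simp only [vadd_eq_add, add_zero] at h1 h2
    rw [h1, h2]
    simp only [f, Prod.mk.injEq] at h
    rw [h.1, h.2]
  haveI : Finite ((Fin 2 → F) ≃ₗ[F] (Fin 2 → F)) := Nat.finite_of_card_ne_zero (by omega)
  haveI : Finite ((Fin 2 → F) ≃ᵃ[F] (Fin 2 → F)) := Finite.of_injective f hf
  have hle : Nat.card ((Fin 2 → F) ≃ᵃ[F] (Fin 2 → F)) ≤ Nat.card G := by
    refine (Nat.card_le_card_of_injective f hf).trans ?_
    rw [Nat.card_prod, hGL, Nat.card_eq_fintype_card, Fintype.card_fun, Fintype.card_fin, hF, hG]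
    norm_num
  exact ⟨MulEquiv.ofBijective φ (Nat.bijective_iff_injective_and_card φ |>.2
    ⟨hφ, le_antisymm (Nat.card_le_card_of_injective φ hφ) hle⟩)⟩

variable {G : Type u} [Group G] [Finite G] {Ω : Type v} [MulAction G Ω] [Fintype Ω]
variable {a b : Ω} {V : Subgroup G} {J : G}

namespace Data

/-- Degree sixteen gives the affine group. -/
theorem end_sixteen (d : Data a b V J 3) (hn : Nat.card Ω = 16) (hi : fx1 Ω J = 4) :
    ∃ (F : Type) (_ : Field F) (_ : Fintype F), Fintype.card F = 4 ∧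
      Nonempty (G ≃* ((Fin 2 → F) ≃ᵃ[F] (Fin 2 → F))) := by
  classical
  haveI := d.faith
  haveI hFact : Fact (∀ r : ZMod 2, r ^ 2 ≠ (1 : ZMod 2) + 1 * r) := ⟨by decide⟩
  haveI : Fact (Nat.Prime 2) := ⟨Nat.prime_two⟩
  obtain ⟨z, K, A⟩ := d.exists_aff hn hi
  obtain ⟨T, hTn, hTc, hsemi, htr, hsq⟩ := A.exists_regular d hn
  haveI := hTn
  have hTcomm : ∀ s ∈ T, ∀ t ∈ T, s * t = t * s := fun s hs t ht => by
    have h := hsq _ (T.mul_mem hs ht)
    have hs' : s⁻¹ = s := inv_eq_of_mul_eq_one_right (hsq s hs)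
    have ht' : t⁻¹ = t := inv_eq_of_mul_eq_one_right (hsq t ht)
    calc s * t = (s * t)⁻¹ := (inv_eq_of_mul_eq_one_right h).symm
      _ = t * s := by rw [_root_.mul_inv_rev, hs', ht']
  letI : CommGroup T := { (inferInstance : Group T) with
    mul_comm := fun s t => Subtype.ext (hTcomm s s.2 t t.2) }
  let M := Additive T
  letI : Module (ZMod 2) M := AddCommGroup.zmodModule fun x : M => by
    rw [two_nsmul]
    exact Additive.toMul.injective (Subtype.ext (hsq _ (Additive.toMul x).2))
  -- conjugation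
  let cj : G → Module.End (ZMod 2) M := fun g => AddMonoidHom.toZModLinearMap 2
    (MonoidHom.toAdditive (MulAut.conjNormal (H := T) g).toMonoidHom)
  let val : M → G := fun m => ((Additive.toMul m : T) : G)
  have hval : Function.Injective val := fun x y h => Additive.toMul.injective (Subtype.ext h)
  have hcj : ∀ g m, val (cj g m) = g * val m * g⁻¹ := fun g m => MulAut.conjNormal_apply g _
  have hadd : ∀ x y, val (x + y) = val x * val y := fun x y => rfl
  have hzero : val 0 = 1 := rfl
  set φ := cj z with hφdef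
  -- conjugation by `z` has no fixed point
  have hfix : ∀ m : M, φ m = m → m = 0 := fun m h => by
    have h1 : z * val m = val m * z := mul_inv_eq_iff_eq_mul.1 ((hcj z m).symm.trans (congrArg val h))
    have h2 : z • (val m • a) = val m • a := by rw [← mul_smul, h1, mul_smul, A.za]
    exact hval ((hsemi _ (Additive.toMul m).2 (A.zfix _ h2)).trans hzero.symm)
  have hz3 : z ^ 3 = 1 := by rw [← A.zord, pow_orderOf_eq_one]
  have hφ3 : ∀ m, φ (φ (φ m)) = m := fun m => hval (by
    rw [hcj, hcj, hcj, show z * (z * (z * val m * z⁻¹) * z⁻¹) * z⁻¹ = z * z * z * val m * (z * z * z)⁻¹ by group,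
      show z * z * z = z ^ 3 by rw [pow_succ, pow_two],
      hz3]
    group)
  have hchar : ∀ m : M, m + m = 0 := fun m => hval (hsq _ (Additive.toMul m).2)
  have hu : φ * φ = (1 : ZMod 2) • (1 : Module.End (ZMod 2) M) + (1 : ZMod 2) • φ := by
    refine LinearMap.ext fun m => ?_
    rw [one_smul, one_smul]
    show φ (φ m) = m + φ m
    have h0 : m + φ m + φ (φ m) = 0 := hfix _ (by rw [map_add, map_add, hφ3]; abel)
    calc φ (φ m) = (m + φ m) + (m + φ m + φ (φ m)) := by
          rw [← add_assoc, hchar, zero_add]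
      _ = m + φ m := by rw [h0, add_zero]
  let F := QuadraticAlgebra (ZMod 2) 1 1
  letI : Fintype F := Fintype.ofEquiv _ (QuadraticAlgebra.equivProd (1 : ZMod 2) 1).symm
  have hFc : Fintype.card F = 4 := by
    rw [Fintype.card_congr (QuadraticAlgebra.equivProd (1 : ZMod 2) 1), Fintype.card_prod, ZMod.card]
  let ℓ : F →ₐ[ZMod 2] Module.End (ZMod 2) M := QuadraticAlgebra.lift ⟨φ, hu⟩
  letI : Module F M := Module.compHom M ℓ.toRingHom
  have hℓ : ∀ (c : F) (m : M), c • m = c.re • m + c.im • φ m := fun c m => by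
    show ℓ c m = _
    simp [ℓ, QuadraticAlgebra.lift]
  have hrank : Module.finrank F M = 2 := by
    have h := Module.natCard_eq_pow_finrank (K := F) (V := M)
    rw [show Nat.card M = 16 from (Nat.card_congr Additive.toMul).trans hTc,
      Nat.card_eq_fintype_card, hFc] at h
    exact (Nat.pow_right_injective (le_of_lt (by norm_num : 2 < 4))
      (show 4 ^ 2 = 4 ^ Module.finrank F M by rw [← h])).symm
  haveI : Module.Finite F M := Module.Finite.of_finite
  let ε : M ≃ₗ[F] (Fin 2 → F) := (Module.finBasisOfFinrankEq F M hrank).equivFun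
  -- conjugation is semi-linear with trivial field automorphism
  have hlinz : ∀ g m, cj g (φ m) = φ (cj g m) := fun g m => hval (by
    obtain ⟨c, hc, hca⟩ := htr (g • a)
    have hx : (c⁻¹ * g) • a = a := by rw [mul_smul, ← hca, inv_smul_smul]
    have hxz : c⁻¹ * g * z = z * (c⁻¹ * g) := A.zcomm _ hx
    have key : ∀ t ∈ T, g * t * g⁻¹ = c⁻¹ * g * t * (c⁻¹ * g)⁻¹ := fun t ht => by
      have h := hTcomm c⁻¹ (T.inv_mem hc) _ (hTn.conj_mem t ht g)
      calc g * t * g⁻¹ = (g * t * g⁻¹) * c⁻¹ * c := by group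
        _ = c⁻¹ * (g * t * g⁻¹) * c := by rw [h]
        _ = _ := by group
    rw [hcj, hcj, hcj, hcj, key _ (hTn.conj_mem _ (Additive.toMul m).2 z),
      key _ (Additive.toMul m).2]
    calc c⁻¹ * g * (z * val m * z⁻¹) * (c⁻¹ * g)⁻¹
        = (c⁻¹ * g * z) * val m * (c⁻¹ * g * z)⁻¹ := by group
      _ = _ := by rw [hxz]; simp only [val]; group)
  let cjF : G → (M →ₗ[F] M) := fun g =>
    { toFun := cj g
      map_add' := map_add (cj g)
      map_smul' := fun c m => by
        rw [RingHom.id_apply, hℓ, hℓ, map_add, map_smul, map_smul, hlinz] }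
  -- the action on the plane
  have hb : Function.Bijective (fun m : M => val m • a) := by
    refine ⟨fun x y h => ?_, fun p => ?_⟩
    · refine hval (mul_inv_eq_one.1 (hsemi _ (T.mul_mem (Additive.toMul x).2
        (T.inv_mem (Additive.toMul y).2)) ?_))
      have hxy : (val x * (val y)⁻¹) = (val y)⁻¹ * val x :=
        hTcomm _ (Additive.toMul x).2 _ (T.inv_mem (Additive.toMul y).2)
      show (val x * (val y)⁻¹) • a = a
      rw [hxy, mul_smul, inv_smul_eq_iff]
      exact h
    · obtain ⟨t, ht, hta⟩ := htr p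
      exact ⟨Additive.ofMul ⟨t, ht⟩, hta⟩
  let e : (Fin 2 → F) ≃ Ω := ε.symm.toEquiv.trans (Equiv.ofBijective _ hb)
  have he : ∀ v x, e (v + x) = val (ε.symm v) • e x := fun v x => by
    show val (ε.symm (v + x)) • a = _ • (val (ε.symm x) • a)
    rw [map_add, hadd, mul_smul]
  refine ⟨F, inferInstance, inferInstance, hFc, affine_iso hFc (by rw [d.card_G, hn])
    (e.symm.permCongrHom.toMonoidHom.comp (MulAction.toPermHom G Ω))
    (e.symm.permCongrHom.injective.comp MulAction.toPerm_injective)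
    fun g => ⟨ε.toLinearMap ∘ₗ cjF g ∘ₗ ε.symm.toLinearMap, fun x v => ?_⟩⟩
  show e.symm (g • e (v + x)) = ε (cj g (ε.symm v)) + e.symm (g • e x)
  rw [Equiv.symm_apply_eq, he, he, Equiv.apply_symm_apply, LinearEquiv.symm_apply_apply, hcj,
    ← mul_smul, ← mul_smul]
  congr 1
  group

end Data

end Cfsg.Agent.TwoPtAlt
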