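import Cfsg.Agent.Lib.TwoPtAlt.Local

/-!
# Two-point stabilisers isomorphic to `A₄` or `A₅`: the two outer types
-/

set_option autoImplicit false
set_option linter.unusedSectionVars false
set_option linter.style.haveILetI false

namespace Cfsg.Agent.TwoPtAlt

open MulAction Cfsg.Agent.Zass
open scoped Classical

universe u v

variable {G : Type u} [Group G] [Finite G] {Ω : Type v} [MulAction G Ω] [Fintype Ω]

namespace Data

variable {a b : Ω} {V : Subgroup G} {J : G} {hh : ℕ} (d : Data a b V J hh)
include d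

theorem line_good {s : G} (h : Line V J s) : IsConj J s := by
  have h2 : 1 < Set.ncard {p : Ω | J • p = p ∧ s • p = p} := by
    rw [d.line_fixed h]; exact d.two_le_j
  obtain ⟨c, hc, c', hc', hne⟩ := (Set.one_lt_ncard (Set.toFinite _)).mp h2
  exact d.good_of_fixed (d.line_order h) hne hc.2 hc'.2

theorem line_mulJ {s : G} (h : Line V J s) : Line V J (s * J) := by
  obtain ⟨g, hg, w, hw, hw1, hwJ, rfl⟩ := h
  refine ⟨g, hg, w * J, mul_mem hw d.memJ, fun e => hwJ ?_, fun e => hw1 (mul_eq_right.mp e), ?_⟩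
  · rw [mul_eq_one_iff_eq_inv] at e
    exact e.trans (inv_eq_of_mul_eq_one_right (d.sq d.memJ))
  · have hgJ : g * J * g⁻¹ = J := mul_inv_eq_iff_eq_mul.mpr (Subgroup.mem_centralizer_singleton_iff.mp hg)
    calc g * (w * J) * g⁻¹ = g * w * g⁻¹ * (g * J * g⁻¹) := by group
      _ = g * w * g⁻¹ * J := by rw [hgJ]

theorem line_mulJ_iff {s : G} : Line V J (s * J) ↔ Line V J s := by
  refine ⟨fun h => ?_, d.line_mulJ⟩
  have := d.line_mulJ h
  rwa [mul_assoc, d.sq d.memJ, mul_one] at this

theorem card_invol : Set.ncard {s : G | s ∈ Zass.two (G := G) a b ∧ orderOf s = 2} = hh := by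
  haveI : Finite (ConjAct G) := Finite.of_equiv G (ConjAct.toConjAct : G ≃* ConjAct G).toEquiv
  have h := card_orbit_stab (β := G) (G := ConjAct G)
    ((Zass.two (G := G) a b).map (ConjAct.toConjAct : G ≃* ConjAct G).toMonoidHom) J
    {s : G | s ∈ Zass.two (G := G) a b ∧ orderOf s = 2} fun q => ?_
  · rw [Subgroup.card_map_of_injective (ConjAct.toConjAct : G ≃* ConjAct G).injective, d.card_two_eq] at h
    have e : Nat.card ↥((Zass.two (G := G) a b).map (ConjAct.toConjAct : G ≃* ConjAct G).toMonoidHom ⊓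
        stabilizer (ConjAct G) J) = Nat.card V := by
      refine Nat.card_congr ?_
      exact
        { toFun := fun g => ⟨ConjAct.ofConjAct g.1, by
            obtain ⟨⟨k, hk, hke⟩, hg⟩ := g.2
            have h1 := mem_stabilizer_iff.mp hg
            rw [ConjAct.smul_def] at h1
            refine d.cent _ (by rw [← hke]; exact hk) (mul_inv_eq_iff_eq_mul.mp h1)⟩
          invFun := fun g => ⟨ConjAct.toConjAct g.1, ⟨g.1, d.le g.2, rfl⟩, by
            show ConjAct.toConjAct g.1 • J = J
            rw [ConjAct.smul_def, ConjAct.ofConjAct_toConjAct, mul_inv_eq_iff_eq_mul]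
            exact d.comm g.2 d.memJ⟩
          left_inv := fun _ => rfl
          right_inv := fun _ => rfl }
    rw [e, d.card_V] at h
    linarith
  · constructor
    · rintro ⟨hq, ho⟩
      obtain ⟨g, hg, he⟩ := d.conj q hq ho
      exact ⟨ConjAct.toConjAct g, ⟨g, hg, rfl⟩, by rw [ConjAct.smul_def]; exact he⟩
    · rintro ⟨k, ⟨g, hg, rfl⟩, rfl⟩
      show g * J * g⁻¹ ∈ Zass.two a b ∧ orderOf (g * J * g⁻¹) = 2
      exact ⟨mul_mem (mul_mem hg d.J_mem) (inv_mem hg), by
        rw [← MulAut.conj_apply, MulEquiv.orderOf_eq, d.orderJ]⟩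

theorem exists_other : ∃ w ∈ V, w ≠ 1 ∧ w ≠ J := by
  by_contra hno
  push Not at hno
  have hsub : (V : Set G) ⊆ {1, J} := fun x hx => (em (x = 1)).elim Or.inl fun h => Or.inr (hno x hx h)
  have := Set.ncard_le_ncard hsub (Set.toFinite _)
  rw [← Nat.card_coe_set_eq, Set.ncard_pair d.neJ.symm] at this
  have := d.card_V
  simp only [SetLike.coe_sort_coe] at *
  omega

theorem mem_V_cases {w v : G} (hw : w ∈ V) (hw1 : w ≠ 1) (hwJ : w ≠ J) (hv : v ∈ V) :
    v = 1 ∨ v = J ∨ v = w ∨ v = w * J := by
  have hsub : ({1, J, w, w * J} : Set G) ⊆ (V : Set G) := by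
    simp [Set.insert_subset_iff, one_mem, d.memJ, hw, mul_mem hw d.memJ]
  have hwJ1 : w * J ≠ 1 := fun e => hwJ (by
    rw [mul_eq_one_iff_eq_inv] at e
    exact e.trans (inv_eq_of_mul_eq_one_right (d.sq d.memJ)))
  have hc4 : Set.ncard ({1, J, w, w * J} : Set G) = 4 := by
    rw [Set.ncard_insert_of_notMem, Set.ncard_insert_of_notMem, Set.ncard_pair]
    · exact fun e => d.neJ (mul_eq_left.mp e.symm)
    · simp only [Set.mem_insert_iff, Set.mem_singleton_iff]
      rintro (e | e)
      · exact hwJ e.symm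
      · exact hw1 (mul_eq_right.mp e.symm)
    · simp only [Set.mem_insert_iff, Set.mem_singleton_iff]
      rintro (e | e | e)
      · exact d.neJ e.symm
      · exact hw1 e.symm
      · exact hwJ1 e.symm
  have hset := Set.eq_of_subset_of_ncard_le hsub (by
    rw [hc4, ← Nat.card_coe_set_eq]; exact d.card_V.le) (Set.toFinite _)
  simpa using hset.ge hv

/-- The type with a central swapper: the possible values of `L` and `r`. -/
theorem zType_cases (hZ : ZType G a b) :
    ∃ l : ℕ, lNum V J a b = 2 * l ∧ l ≤ 2 ∧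
      (rNum J a b = 1 ∨ rNum J a b = hh ∨ rNum J a b = hh + 1) ∧
      (1 ≤ l → rNum J a b = hh ∨ rNum J a b = hh + 1) ∧ (l = 2 → rNum J a b = hh + 1) := by
  obtain ⟨z, hzz, hza, hzb, hzc⟩ := hZ
  obtain ⟨w, hw, hw1, hwJ⟩ := d.exists_other
  have hsw : ∀ g : G, g • a = b → g • b = a → z * g ∈ Zass.two (G := G) a b := fun g g1 g2 =>
    mem_two.mpr ⟨by rw [mul_smul, g1, hzb], by rw [mul_smul, g2, hza]⟩
  have hswap : ∀ h ∈ Zass.two (G := G) a b, (z * h) • a = b := fun h hh' => by
    rw [mul_smul, (mem_two.mp hh').1, hza]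
  have hback : ∀ g : G, g = z * (z * g) := fun g => by rw [← mul_assoc, hzz, one_mul]
  -- the lines
  have hlineV : ∀ s : G, Line V J s → s • a = b → ∃ v ∈ V, s = z * v := by
    intro s hs hsa
    have hss : s * s = 1 := by rw [← pow_two, ← d.line_order hs, pow_orderOf_eq_one]
    have hm := hsw s hsa (swap_back hss hsa)
    refine ⟨z * s, d.cent _ hm ?_, hback s⟩
    rw [mul_assoc, Line.comm d hs, ← mul_assoc, hzc J d.J_mem, mul_assoc]
  have hset : {s : G | Line V J s ∧ s • a = b} = (if Line V J z then {z, z * J} else ∅) ∪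
      (if Line V J (z * w) then {z * w, z * w * J} else ∅) := by
    ext s
    constructor
    · rintro ⟨hs, hsa⟩
      obtain ⟨v, hv, rfl⟩ := hlineV s hs hsa
      rcases d.mem_V_cases hw hw1 hwJ hv with rfl | rfl | rfl | rfl
      · rw [mul_one] at hs ⊢; left; rw [if_pos hs]; exact Or.inl rfl
      · left; rw [if_pos (d.line_mulJ_iff.mp hs)]; exact Or.inr rfl
      · right; rw [if_pos hs]; exact Or.inl rfl
      · right
        rw [← mul_assoc] at hs ⊢
        rw [if_pos (d.line_mulJ_iff.mp hs)]; exact Or.inr rfl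
    · rintro (h | h) <;> split_ifs at h with hl
      · rcases h with rfl | rfl
        · exact ⟨hl, hza⟩
        · exact ⟨d.line_mulJ hl, hswap J d.J_mem⟩
      · exact absurd h (Set.notMem_empty s)
      · rcases h with rfl | rfl
        · exact ⟨hl, hswap w (d.le hw)⟩
        · refine ⟨d.line_mulJ hl, ?_⟩
          rw [mul_assoc]; exact hswap _ (d.le (mul_mem hw d.memJ))
      · exact absurd h (Set.notMem_empty s)
  have hne1 : z ≠ z * J := fun e => d.neJ (mul_eq_left.mp e.symm)
  have hne2 : z * w ≠ z * w * J := fun e => d.neJ (mul_eq_left.mp e.symm)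
  have hdisj : Disjoint ({z, z * J} : Set G) {z * w, z * w * J} := by
    rw [Set.disjoint_iff_forall_ne]
    rintro x (rfl | rfl) y (rfl | rfl) e
    · exact hw1 (mul_eq_left.mp e.symm)
    · refine hwJ ?_
      have h1 : w * J = 1 := mul_eq_left.mp (show x * (w * J) = x by rw [← mul_assoc]; exact e.symm)
      rw [mul_eq_one_iff_eq_inv] at h1
      exact h1.trans (inv_eq_of_mul_eq_one_right (d.sq d.memJ))
    · exact hwJ (mul_left_cancel e).symm
    · exact hw1 (mul_right_cancel (mul_left_cancel (show z * (1 * J) = z * (w * J) by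
        rw [one_mul, ← mul_assoc]; exact e))).symm
  -- the good swappers
  set I : Set G := {s : G | s ∈ Zass.two (G := G) a b ∧ orderOf s = 2}
  have hconjJ : ∀ h ∈ I, IsConj (z * J) (z * h) := by
    rintro h ⟨hh', ho⟩
    obtain ⟨k, hk, rfl⟩ := d.conj h hh' ho
    refine isConj_iff.mpr ⟨k, ?_⟩
    rw [← mul_assoc, ← hzc k hk]
    group
  have hgood : {s : G | IsConj J s ∧ s • a = b} = (if IsConj J z then {z} else ∅) ∪
      (if IsConj J (z * J) then (z * ·) '' I else ∅) := by
    ext s
    constructor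
    · rintro ⟨hs, hsa⟩
      have hss : s * s = 1 := by rw [← pow_two, ← d.good_order hs, pow_orderOf_eq_one]
      have hm := hsw s hsa (swap_back hss hsa)
      rcases eq_or_ne (z * s) 1 with e | e
      · have : s = z := by rw [hback s, e, mul_one]
        subst this
        left; rw [if_pos hs]; rfl
      · have hI : z * s ∈ I := by
          refine ⟨hm, orderOf_eq_prime ?_ e⟩
          rw [pow_two]
          calc z * s * (z * s) = z * (s * z) * s := by group
            _ = z * (z * (z * s) * z) * s := by rw [← hback]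
            _ = z * (z * (z * (z * s))) * s := by rw [mul_assoc z (z * s) z, ← hzc _ hm]
            _ = 1 := by rw [← hback, ← hback, hss]
        right
        rw [if_pos (hs.trans (by have h2 := (hconjJ _ hI).symm; rwa [← hback] at h2))]
        exact ⟨z * s, hI, (hback s).symm⟩
    · rintro (h | h) <;> split_ifs at h with hl
      · rw [Set.mem_singleton_iff] at h; subst h; exact ⟨hl, hza⟩
      · exact absurd h (Set.notMem_empty s)
      · obtain ⟨h', hI, rfl⟩ := h
        exact ⟨hl.trans (hconjJ h' hI), hswap h' hI.1⟩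
      · exact absurd h (Set.notMem_empty s)
  have hI : ((z * ·) '' I).ncard = hh := by
    rw [Set.ncard_image_of_injective _ (mul_right_injective z)]
    exact d.card_invol
  have hzI : z ∉ (z * ·) '' I := by
    rintro ⟨h, ⟨-, ho⟩, he⟩
    rw [mul_eq_left] at he
    rw [he, orderOf_one] at ho
    omega
  have hr := d.r_pos
  have hline1 : Line V J (z * w) → IsConj J (z * J) := fun h =>
    (d.line_good h).trans (hconjJ w ⟨d.le hw, d.order hw hw1⟩).symm
  have hline0 : Line V J z → IsConj J z ∧ IsConj J (z * J) := fun h =>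
    ⟨d.line_good h, d.line_good (d.line_mulJ h)⟩
  refine ⟨(if Line V J z then 1 else 0) + (if Line V J (z * w) then 1 else 0), ?_, ?_, ?_, ?_, ?_⟩
  · rw [lNum, hset]
    split_ifs
    · rw [Set.ncard_union_eq hdisj, Set.ncard_pair hne1, Set.ncard_pair hne2]
    · rw [Set.union_empty, Set.ncard_pair hne1]
    · rw [Set.empty_union, Set.ncard_pair hne2]
    · simp
  · split_ifs <;> omega
  · rw [rNum, hgood] at hr ⊢
    split_ifs at hr ⊢
    · rw [Set.ncard_union_eq (Set.disjoint_singleton_left.mpr hzI), Set.ncard_singleton, hI]; omega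
    · rw [Set.union_empty, Set.ncard_singleton]; omega
    · rw [Set.empty_union, hI]; omega
    · simp at hr
  · intro hl
    have h2 : IsConj J (z * J) := by
      by_cases h : Line V J z
      · exact (hline0 h).2
      · refine hline1 (by_contra fun h' => ?_)
        rw [if_neg h, if_neg h'] at hl
        omega
    rw [rNum, hgood, if_pos h2]
    split_ifs
    · rw [Set.ncard_union_eq (Set.disjoint_singleton_left.mpr hzI), Set.ncard_singleton, hI]; omega
    · rw [Set.empty_union, hI]; omega
  · intro hl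
    have h : Line V J z := by_contra fun h => by
      rw [if_neg h] at hl
      split_ifs at hl <;> omega
    rw [rNum, hgood, if_pos (hline0 h).1, if_pos (hline0 h).2,
      Set.ncard_union_eq (Set.disjoint_singleton_left.mpr hzI), Set.ncard_singleton, hI]
    omega

/-- The `S₄`, `S₅` type: the possible values of `L`. -/
theorem sType_cases {R : ℕ} (hS : SType a b V J R) : lNum V J a b = 0 ∨ lNum V J a b = 2 := by
  have hsub : {s : G | Line V J s ∧ s • a = b} ⊆ {s : G | s * s = 1 ∧ s • a = b ∧ s * J = J * s} :=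
    fun s ⟨hs, hsa⟩ =>
      ⟨by rw [← pow_two, ← d.line_order hs, pow_orderOf_eq_one], hsa, Line.comm d hs⟩
  have hle := Set.ncard_le_ncard hsub (Set.toFinite _)
  rw [hS.twoInv] at hle
  rcases Nat.lt_or_ge (lNum V J a b) 1 with h0 | h0
  · left; omega
  right
  obtain ⟨s, hs, hsa⟩ : ∃ s, Line V J s ∧ s • a = b :=
    Set.nonempty_of_ncard_ne_zero (s := {s : G | Line V J s ∧ s • a = b}) (by rw [lNum] at h0; omega)
  have hp : ({s, s * J} : Set G) ⊆ {s : G | Line V J s ∧ s • a = b} := by
    rintro x (rfl | rfl)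
    · exact ⟨hs, hsa⟩
    · exact ⟨d.line_mulJ hs, by rw [mul_smul, d.a_fixed J d.memJ, hsa]⟩
  have := Set.ncard_le_ncard hp (Set.toFinite _)
  rw [Set.ncard_pair (fun e => d.neJ (mul_eq_left.mp e.symm))] at this
  rw [lNum] at *
  omega

/-- An element interchanging `a` and `b` and commuting with `J` lies in `C(J) ∩ N(V)`. -/
theorem swap_norm {g : G} (g1 : g • a = b) (g2 : g • b = a) (hg : g * J = J * g) :
    g ∈ Subgroup.normalizer (V : Set G) :=
  d.norm_of_cent_two (d.swap_two g1 g2) hg

/-- In the `S₄`, `S₅` type the degree of the action on the fixed points of `V` is two or odd. -/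
theorem sType_j {R : ℕ} (hS : SType a b V J R) : fxS Ω V = 2 ∨ ¬ Even (fxS Ω V) := by
  by_contra hno
  push Not at hno
  obtain ⟨h2, he⟩ := hno
  have hj := d.two_le_j
  have h4 : 4 ≤ fxS Ω V := by obtain ⟨t, ht⟩ := he; omega
  obtain ⟨g, hg, g1, g2⟩ : ∃ g : G, g * g = J ∧ g • a = b ∧ g • b = a :=
    Set.nonempty_of_ncard_ne_zero (s := {s : G | s * s = J ∧ s • a = b ∧ s • b = a})
      (by rw [hS.twoRoot]; omega)
  have hgJ : g * J = J * g := by rw [← hg, mul_assoc]
  obtain ⟨w, hw, hw1, hwJ⟩ := d.exists_other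
  exact hS.moves g g1 g2 hgJ w hw hw1 hwJ
    (d.sharp_facts.2.2 he h4 g hgJ (d.swap_norm g1 g2 hgJ) w hw)

end Data

end Cfsg.Agent.TwoPtAlt
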