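import Cfsg.Agent.Lib.TwoPtAlt.EndsSixteenStab
import Cfsg.Agent.Lib.TwoPtAlt.Types
import Cfsg.Agent.Lib.CNSimple.Final
import Cfsg.Agent.Lib.CNSimple.Almost
import Cfsg.Agent.Lib.EPPO.Main

/-!
# Degree 16: the normal subgroup of order 16
-/

set_option autoImplicit false
set_option linter.unusedSectionVars false
set_option linter.style.haveILetI false

namespace Cfsg.Agent.TwoPtAlt

open MulAction Cfsg.Agent.Zass

universe u v

/-- The finite facts about `A₅` used in degree sixteen. -/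
def three5 : Equiv.Perm (Fin 5) := Equiv.swap 0 1 * Equiv.swap 1 2

set_option synthInstance.maxSize 2000 in
theorem alt_five_cent : ∀ x t : Equiv.Perm (Fin 5), Equiv.Perm.sign x = 1 → Equiv.Perm.sign t = 1 →
    t * t = 1 → t ≠ 1 → x * t = t * x → x * x = 1 := by
  decide +kernel

theorem alt_five_pows : ∀ x : Equiv.Perm (Fin 5), Equiv.Perm.sign x = 1 →
    x ^ 2 = 1 ∨ x ^ 3 = 1 ∨ x ^ 5 = 1 := by
  decide +kernel

set_option synthInstance.maxSize 2000 in
theorem alt_five_class : ∀ x : Equiv.Perm (Fin 5), Equiv.Perm.sign x = 1 → x ^ 3 = 1 → x ≠ 1 →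
    ∃ k : Equiv.Perm (Fin 5), Equiv.Perm.sign k = 1 ∧ k * three5 * k⁻¹ = x := by
  decide +kernel

theorem alt_five_count :
    Nat.card {x : Equiv.Perm (Fin 5) // Equiv.Perm.sign x = 1 ∧ x ^ 3 = 1 ∧ x ≠ 1} = 20 := by
  rw [Nat.card_eq_fintype_card]
  decide +kernel

theorem psl_two_ne_960 (F : Type) [Field F] [Fintype F] :
    Nat.card (Matrix.ProjectiveSpecialLinearGroup (Fin 2) F) ≠ 960 := by
  intro h
  have e := EPPO.card_psl_two F
  rw [h] at e
  have hq := Fintype.one_lt_card (α := F)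
  generalize Fintype.card F = q at e hq
  have h2 : Nat.gcd 2 (q - 1) ≤ 2 := Nat.gcd_le_left _ (by norm_num)
  have hlt : q < 14 := by
    by_contra hlt
    have hsq : 14 * 14 ≤ q ^ 2 := by rw [sq]; exact Nat.mul_le_mul (by omega) (by omega)
    have := Nat.mul_le_mul (show 195 ≤ q ^ 2 - 1 by omega) (show 14 ≤ q by omega)
    omega
  interval_cases q <;> norm_num at e

variable {G : Type u} [Group G] [Finite G] {Ω : Type v} [MulAction G Ω] [Fintype Ω]
variable {a b : Ω} {V : Subgroup G} {J : G}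

/-- Double counting of fixed points. -/
theorem fix_count (S : Set G) (P : Set Ω) (m n : ℕ) (h1 : ∀ g ∈ S, {p ∈ P | g • p = p}.ncard = m)
    (h2 : ∀ p ∈ P, {g ∈ S | g • p = p}.ncard = n) : S.ncard * m = P.ncard * n := by
  classical
  letI := Fintype.ofFinite G
  rw [Set.ncard_eq_toFinset_card' S, Set.ncard_eq_toFinset_card' P]
  refine Finset.card_mul_eq_card_mul (fun (g : G) (p : Ω) => g • p = p) (fun g hg => ?_)
    (fun p hp => ?_)
  · rw [← h1 g (Set.mem_toFinset.1 hg), ← Set.ncard_coe_finset]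
    congr 1
    ext p
    simp [Finset.bipartiteAbove]
  · rw [← h2 p (Set.mem_toFinset.1 hp), ← Set.ncard_coe_finset]
    congr 1
    ext g
    simp [Finset.bipartiteBelow]

theorem fx1_conj (g k : G) : fx1 Ω (k * g * k⁻¹) = fx1 Ω g := by
  unfold fx1
  rw [← Set.ncard_image_of_injective {p : Ω | g • p = p} (MulAction.injective k)]
  congr 1
  ext p
  simp only [Set.mem_ofPred_eq, Set.mem_image, mul_smul]
  refine ⟨fun h => ⟨k⁻¹ • p, smul_left_cancel k (h.trans (smul_inv_smul k p).symm),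
    smul_inv_smul k p⟩, ?_⟩
  rintro ⟨q, hq, rfl⟩
  rw [inv_smul_smul, hq]

theorem ncard_fix_conj (S : Set G) {p q : Ω} {k : G} (hS : ∀ g ∈ S, k * g * k⁻¹ ∈ S)
    (hS' : ∀ g ∈ S, k⁻¹ * g * k ∈ S) (hk : k • p = q) : {g ∈ S | g • q = q}.ncard = {g ∈ S | g • p = p}.ncard := by
  rw [← Set.ncard_image_of_injective {g ∈ S | g • p = p} (MulAut.conj k).injective]
  congr 1
  ext g
  simp only [Set.mem_ofPred_eq, Set.mem_image, MulAut.conj_apply]
  refine ⟨fun h => ⟨k⁻¹ * g * k, ⟨hS' g h.1, ?_⟩, by group⟩, ?_⟩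
  · rw [mul_smul, mul_smul, hk, h.2, inv_smul_eq_iff, hk]
  · rintro ⟨g', ⟨h1, h2⟩, rfl⟩
    exact ⟨hS g' h1, by rw [mul_smul, mul_smul, ← hk, inv_smul_smul, h2]⟩

namespace Aff

variable {z : G} {K : Subgroup G}

theorem exists_embed (A : Aff a b V J z K) :
    ∃ ψ : ↥(K ⊓ stabilizer G a) →* Equiv.Perm (Fin 5), Function.Injective ψ ∧
      (∀ l, Equiv.Perm.sign (ψ l) = 1) ∧ ∀ x, Equiv.Perm.sign x = 1 → ∃ l, ψ l = x := by
  obtain ⟨e⟩ := A.iso
  refine ⟨(alternatingGroup (Fin 5)).subtype.comp e.toMonoidHom,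
    Subtype.val_injective.comp e.injective,
    fun l => Equiv.Perm.mem_alternatingGroup.mp (e l).2, fun x hx => ?_⟩
  refine ⟨e.symm ⟨x, Equiv.Perm.mem_alternatingGroup.mpr hx⟩, ?_⟩
  show ((e (e.symm _)) : Equiv.Perm (Fin 5)) = x
  rw [MulEquiv.apply_symm_apply]

/-- In the stabiliser, what commutes with an involution has order at most two. -/
theorem cent_sq (A : Aff a b V J z K) {g t : G} (hg : g ∈ K) (hga : g • a = a) (ht : t ∈ K)
    (hta : t • a = a) (ho : orderOf t = 2) (hc : g * t = t * g) : g * g = 1 := by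
  obtain ⟨ψ, hψ, hs, -⟩ := A.exists_embed
  let g' : ↥(K ⊓ stabilizer G a) := ⟨g, hg, hga⟩
  let t' : ↥(K ⊓ stabilizer G a) := ⟨t, ht, hta⟩
  have h := alt_five_cent (ψ g') (ψ t') (hs _) (hs _) (by
    rw [← map_mul, ← map_one ψ]
    exact congrArg ψ (Subtype.ext (by
      show t * t = 1
      rw [← pow_two, ← ho, pow_orderOf_eq_one])))
    (fun e => by
      have e1 : t' = 1 := hψ (e.trans ψ.map_one.symm)
      rw [show t = 1 from congrArg Subtype.val e1, orderOf_one] at ho
      omega)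
    (by rw [← map_mul, ← map_mul]; exact congrArg ψ (Subtype.ext hc))
  rw [← map_mul, ← map_one ψ] at h
  exact congrArg Subtype.val (hψ h)

variable (d : Data a b V J 3) (A : Aff a b V J z K)
include d A

theorem index_three (hn : Nat.card Ω = 16) : K.index = 3 := by
  have h := K.card_mul_index
  rw [A.cardK, d.card_G, hn] at h
  omega

theorem two_le_K (hn : Nat.card Ω = 16) {g : G} (hg : g * g = 1) : g ∈ K := by
  haveI := A.normal
  have h := Subgroup.pow_index_mem K g
  rw [A.index_three d hn, pow_succ, pow_two, hg, one_mul] at h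
  exact h

theorem inf_two (hn : Nat.card Ω = 16) : Zass.two (G := G) a b ⊓ K = V := by
  classical
  have hVle : V ≤ Zass.two (G := G) a b ⊓ K := le_inf d.le fun v hv => A.two_le_K d hn (d.sq hv)
  have hd1 : 4 ∣ Nat.card ↥(Zass.two (G := G) a b ⊓ K) := by
    have := Subgroup.card_dvd_of_le hVle
    rwa [d.card_V] at this
  have hd2 : Nat.card ↥(Zass.two (G := G) a b ⊓ K) ∣ 12 := by
    have := Subgroup.card_dvd_of_le (inf_le_left : Zass.two (G := G) a b ⊓ K ≤ _)
    rwa [d.card_two_eq] at this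
  have hc : Nat.card ↥(Zass.two (G := G) a b ⊓ K) = 4 ∨
      Nat.card ↥(Zass.two (G := G) a b ⊓ K) = 12 := by
    have hle := Nat.le_of_dvd (by norm_num) hd2
    interval_cases hk : Nat.card ↥(Zass.two (G := G) a b ⊓ K) <;> omega
  rcases hc with h4 | h12
  · exact (Subgroup.eq_of_le_of_card_ge hVle (by rw [h4, d.card_V])).symm
  exfalso
  haveI : IsPretransitive G Ω := isPretransitive_of_is_two_pretransitive (h2 := d.two)
  have hHK : Zass.two (G := G) a b ≤ K := fun x hx => by
    have h := Subgroup.eq_of_le_of_card_ge (inf_le_left : Zass.two (G := G) a b ⊓ K ≤ _)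
      (by rw [h12, d.card_two_eq])
    exact (h.ge hx).2
  haveI : Fact (Nat.Prime 3) := ⟨Nat.prime_three⟩
  obtain ⟨y, hy⟩ := exists_prime_orderOf_dvd_card' (G := Zass.two (G := G) a b) 3
    (by rw [d.card_two_eq]; norm_num)
  rw [← Subgroup.orderOf_coe] at hy
  obtain ⟨ψ, hψ, hs, hsur⟩ := A.exists_embed
  let L := K ⊓ stabilizer G a
  have hord3 : ∀ l : L, (orderOf (l : G) = 3 ↔ ψ l ^ 3 = 1 ∧ ψ l ≠ 1) := fun l => by
    rw [Subgroup.orderOf_coe, ← map_pow, ← map_one ψ, hψ.eq_iff, ne_eq, hψ.eq_iff, orderOf_eq_prime_iff]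
  let S : Set G := {g | IsConj (y : G) g}
  have hSconj : ∀ k g : G, g ∈ S → k * g * k⁻¹ ∈ S := fun k g hg =>
    hg.trans (isConj_iff.2 ⟨k, rfl⟩)
  have hSord : ∀ g ∈ S, orderOf g = 3 := fun g hg => by
    obtain ⟨k, rfl⟩ := isConj_iff.1 (hg : IsConj (y : G) g)
    rw [← MulAut.conj_apply, MulEquiv.orderOf_eq, hy]
  haveI := A.normal
  have hSK : ∀ g ∈ S, g ∈ K := fun g hg => by
    obtain ⟨k, rfl⟩ := isConj_iff.1 (hg : IsConj (y : G) g)
    exact A.normal.conj_mem _ (hHK (y : Zass.two (G := G) a b).2) k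
  have hya : (y : G) • a = a := (mem_two.1 (y : Zass.two (G := G) a b).2).1
  have hLS : ∀ l : L, orderOf (l : G) = 3 → (l : G) ∈ S := fun l hl => by
    let y' : L := ⟨y, hHK (y : Zass.two (G := G) a b).2, hya⟩
    obtain ⟨k1, hk1, e1⟩ := alt_five_class (ψ y') (hs _) ((hord3 y').1 hy).1 ((hord3 y').1 hy).2
    obtain ⟨k2, hk2, e2⟩ := alt_five_class (ψ l) (hs _) ((hord3 l).1 hl).1 ((hord3 l).1 hl).2
    obtain ⟨l1, rfl⟩ := hsur k1 hk1
    obtain ⟨l2, rfl⟩ := hsur k2 hk2
    have e : l2 * l1⁻¹ * y' * (l2 * l1⁻¹)⁻¹ = l := hψ (by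
      rw [map_mul, map_mul, map_inv, map_mul, map_inv, ← e1, ← e2]
      group)
    exact isConj_iff.2 ⟨((l2 * l1⁻¹ : L) : G), congrArg Subtype.val e⟩
  have h20 : {g ∈ S | g • a = a}.ncard = 20 := by
    rw [← alt_five_count, ← Nat.card_coe_set_eq]
    refine Nat.card_congr (Equiv.ofBijective (fun g =>
      ⟨ψ ⟨g.1, hSK _ g.2.1, g.2.2⟩, hs _, (hord3 _).1 (hSord _ g.2.1)⟩) ⟨fun p q h => ?_, ?_⟩)
    · exact Subtype.ext (congrArg Subtype.val (hψ (congrArg Subtype.val h :)) :)
    · rintro ⟨x, hx, hx3⟩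
      obtain ⟨l, rfl⟩ := hsur x hx
      exact ⟨⟨(l : G), hLS l ((hord3 l).2 hx3), l.2.2⟩, Subtype.ext rfl⟩
  have h8 : {g ∈ S | g • a = a ∧ g • b = b}.ncard = 8 := by
    have hcomp : {g ∈ S | g • a = a ∧ g • b = b} = ((Zass.two (G := G) a b : Set G) \
        (insert 1 {s : G | s ∈ Zass.two (G := G) a b ∧ orderOf s = 2})) := by
      ext g
      simp only [Set.mem_ofPred_eq, Set.mem_sdiff, Set.mem_insert_iff, SetLike.mem_coe, not_or]
      constructor
      · intro h
        have h3 := hSord g h.1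
        exact ⟨mem_two.2 h.2, fun e => by rw [e, orderOf_one] at h3; omega, fun h2 => by omega⟩
      · rintro ⟨hgH, hg1, hg2⟩
        have hga := (mem_two.1 hgH).1
        refine ⟨hLS ⟨g, hHK hgH, hga⟩ ?_, mem_two.1 hgH⟩
        have hd := Subgroup.orderOf_dvd_natCard (Zass.two (G := G) a b) hgH
        rw [d.card_two_eq] at hd
        have hne2 : orderOf g ≠ 2 := fun e => hg2 ⟨hgH, e⟩
        have hne1 : orderOf g ≠ 1 := fun e => hg1 (orderOf_eq_one_iff.1 e)
        show orderOf g = 3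
        let g' : L := ⟨g, hHK hgH, hga⟩
        have key : ∀ k : ℕ, ψ g' ^ k = 1 → orderOf g ∣ k := fun k hk => by
          rw [← map_pow, ← map_one ψ] at hk
          exact orderOf_dvd_of_pow_eq_one (congrArg Subtype.val (hψ hk) :)
        rcases alt_five_pows (ψ g') (hs _) with h | h | h
        · rcases (Nat.dvd_prime Nat.prime_two).1 (key 2 h) with h' | h' <;> contradiction
        · rcases (Nat.dvd_prime Nat.prime_three).1 (key 3 h) with h' | h'
          · contradiction
          · exact h'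
        · rcases (Nat.dvd_prime (by norm_num : Nat.Prime 5)).1 (key 5 h) with h' | h'
          · contradiction
          · rw [h'] at hd; norm_num at hd
    rw [hcomp, Set.ncard_sdiff (by
      rintro g (rfl | hg)
      · exact one_mem _
      · exact hg.1), Set.ncard_insert_of_notMem (by simp), d.card_invol, ← Nat.card_coe_set_eq]
    exact (congrArg (· - (3 + 1)) d.card_two_eq :)
  set m := fx1 Ω (y : G) with hm
  have hfix : ∀ g ∈ S, fx1 Ω g = m := fun g hg => by
    obtain ⟨k, rfl⟩ := isConj_iff.1 (hg : IsConj (y : G) g)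
    rw [fx1_conj]
  have c1 := fix_count S (Set.univ : Set Ω) m 20 (fun g hg => by
      rw [← hfix g hg]; unfold fx1; simp) (fun p _ => by
      obtain ⟨k, hk⟩ := exists_smul_eq G a p
      rw [ncard_fix_conj S (hSconj k) (fun g hg => by simpa using hSconj k⁻¹ g hg) hk, h20])
  have c2 := fix_count {g ∈ S | g • a = a} {p : Ω | p ≠ a} (m - 1) 8 (fun g hg => by
      rw [← hfix g hg.1]
      unfold fx1
      rw [← Set.ncard_sdiff_singleton_of_mem (show a ∈ {p : Ω | g • p = p} from hg.2)]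
      congr 1
      ext p
      simp [and_comm]) (fun p hp => by
      obtain ⟨k, hk1, hk2⟩ := d.move d.ne (Ne.symm hp)
      rw [← h8]
      rw [ncard_fix_conj {g ∈ S | g • a = a} (p := b) (q := p) (k := k) ?_ ?_ hk2]
      · congr 1
        ext g
        simp [and_assoc]
      · exact fun g hg => ⟨hSconj k g hg.1, by
          rw [mul_smul, mul_smul, inv_smul_eq_iff.2 hk1.symm, hg.2, hk1]⟩
      · exact fun g hg => ⟨by simpa using hSconj k⁻¹ g hg.1, by
          rw [mul_smul, mul_smul, hk1, hg.2, inv_smul_eq_iff, hk1]⟩)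
  rw [h20] at c2
  rw [Set.ncard_univ, hn] at c1
  have h15 : {p : Ω | p ≠ a}.ncard = 15 := by
    rw [show {p : Ω | p ≠ a} = Set.univ \ {a} by ext; simp,
      Set.ncard_sdiff_singleton_of_mem (Set.mem_univ a), Set.ncard_univ, hn]
  rw [h15] at c2
  rw [show m = 7 by omega] at c1
  omega

/-- An element of odd order of the stabiliser in `K` fixes no other point. -/
theorem odd_fix (hn : Nat.card Ω = 16) {g : G} (hg : g ∈ K) (hga : g • a = a)
    (ho : Odd (orderOf g)) {p : Ω} (hp : g • p = p) : g = 1 ∨ p = a := by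
  refine or_iff_not_imp_right.2 fun hpa => ?_
  haveI := A.normal
  obtain ⟨k, k1, k2⟩ := d.move d.ne (Ne.symm hpa)
  have h1 : k⁻¹ * g * k ∈ Zass.two (G := G) a b ⊓ K := by
    refine ⟨mem_two.2 ⟨?_, ?_⟩, by simpa using A.normal.conj_mem g hg k⁻¹⟩
    · rw [mul_smul, mul_smul, k1, hga, inv_smul_eq_iff, k1]
    · rw [mul_smul, mul_smul, k2, hp, inv_smul_eq_iff, k2]
  rw [A.inf_two d hn] at h1
  have h2 := d.sq h1
  have h3 : g * g = 1 := by
    calc g * g = k * ((k⁻¹ * g * k) * (k⁻¹ * g * k)) * k⁻¹ := by group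
      _ = 1 := by rw [h2]; group
  rw [← pow_two] at h3
  rcases (Nat.dvd_prime Nat.prime_two).1 (orderOf_dvd_of_pow_eq_one h3) with h | h
  · exact orderOf_eq_one_iff.1 h
  · rw [h] at ho; exact absurd ho (by decide)

theorem two_trans (hn : Nat.card Ω = 16) : IsMultiplyPretransitive K Ω 2 := by
  classical
  haveI := d.faith
  haveI := A.normal
  have hK : K ≠ ⊥ := fun e => by
    have := A.cardK
    rw [e, Subgroup.card_bot] at this
    omega
  haveI := PermNormal.transitive_of_normal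
    (MulAction.isPreprimitive_of_is_two_pretransitive d.two) K hK
  have hL : Nat.card ↥(K ⊓ stabilizer G a) = 60 := by
    obtain ⟨e⟩ := A.iso
    rw [Nat.card_congr e.toEquiv, nat_card_alternatingGroup, Nat.card_fin]
    decide +kernel
  have hV : (K ⊓ stabilizer G a) ⊓ stabilizer G b = V := by
    rw [inf_assoc, inf_comm]
    exact A.inf_two d hn
  set O : Set Ω := {q | ∃ l ∈ K ⊓ stabilizer G a, l • b = q} with hO
  have h := card_orbit_stab (K ⊓ stabilizer G a) b O (fun q => Iff.rfl)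
  rw [hV, hL, d.card_V] at h
  have hsub : O ⊆ Set.univ \ {a} := by
    rintro q ⟨l, ⟨-, hl⟩, rfl⟩
    refine ⟨trivial, fun e => d.ne ?_⟩
    exact smul_left_cancel l (hl.trans (Set.mem_singleton_iff.1 e).symm)
  have hOeq : O = Set.univ \ {a} := Set.eq_of_subset_of_ncard_le hsub (by
    rw [Set.ncard_sdiff_singleton_of_mem (Set.mem_univ a), Set.ncard_univ, hn]
    omega) (Set.toFinite _)
  rw [is_two_pretransitive_iff]
  intro p q p' q' hpq hpq'
  have key : ∀ p q : Ω, p ≠ q → ∃ k : K, k • p = a ∧ k • q = b := by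
    intro p q hpq
    obtain ⟨k, hk⟩ := exists_smul_eq K p a
    have hkq : k • q ∈ O := hOeq.ge ⟨trivial, fun e => hpq
      (smul_left_cancel k (hk.trans (Set.mem_singleton_iff.1 e).symm))⟩
    obtain ⟨l, ⟨hlK, hla⟩, hl⟩ := hkq
    refine ⟨(⟨l, hlK⟩ : K)⁻¹ * k, ?_, ?_⟩
    · rw [mul_smul, hk, inv_smul_eq_iff]
      exact hla.symm
    · rw [mul_smul, inv_smul_eq_iff]
      exact hl.symm
  obtain ⟨k1, h1, h2⟩ := key p q hpq
  obtain ⟨k2, h3, h4⟩ := key p' q' hpq'
  exact ⟨k2⁻¹ * k1, by rw [mul_smul, h1, ← h3, inv_smul_smul], by rw [mul_smul, h2, ← h4, inv_smul_smul]⟩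

/-- The centralisers of involutions in `K` are `2`-groups. -/
theorem cit (hn : Nat.card Ω = 16) : CNSimple.CIT K := by
  classical
  haveI := A.normal
  haveI := A.two_trans d hn
  haveI : IsPretransitive K Ω := isPretransitive_of_is_two_pretransitive (h2 := this)
  intro t ht
  by_contra hnp
  obtain ⟨y, hyC, hy1, hyo⟩ := CNSimple.not_isPGroup_exists_odd hnp
  have hne : orderOf y ≠ 1 := fun e => hy1 (orderOf_eq_one_iff.1 e)
  set q := (orderOf y).minFac with hq
  have hqp : q.Prime := Nat.minFac_prime hne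
  haveI := Fact.mk hqp
  set g := y ^ (orderOf y / q) with hg
  have hgo : orderOf g = q := by
    rw [hg, orderOf_pow_of_dvd ?_ (Nat.div_dvd_of_dvd (Nat.minFac_dvd _)),
      Nat.div_div_self (Nat.minFac_dvd _) (orderOf_pos y).ne']
    exact (Nat.div_pos (Nat.minFac_le (orderOf_pos y)) hqp.pos).ne'
  have hodd : Odd q := hyo.of_dvd_nat (Nat.minFac_dvd _)
  have hgc : g * t = t * g :=
    Subgroup.mem_centralizer_singleton_iff.1 (Subgroup.pow_mem _ hyC _)
  have hqd : ¬ q ∣ Nat.card Ω := fun h => by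
    rw [hn, show 16 = 2 ^ 4 by norm_num] at h
    rw [(Nat.prime_dvd_prime_iff_eq hqp Nat.prime_two).1 (hqp.dvd_of_dvd_pow h)] at hodd
    exact absurd hodd (by decide)
  obtain ⟨p, hp⟩ := (IsPGroup.of_card (p := q) (n := 1)
    (by rw [Nat.card_zpowers, hgo, pow_one])).nonempty_fixed_point_of_prime_not_dvd_card
      (G := Subgroup.zpowers g) Ω hqd
  have hgp : g • p = p := hp ⟨g, Subgroup.mem_zpowers g⟩
  obtain ⟨k, hk⟩ := exists_smul_eq K p a
  set g' := k * g * k⁻¹ with hg'
  have hki : k⁻¹ • a = p := by rw [← hk, inv_smul_smul]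
  have hg'a : g' • a = a := by rw [hg', mul_smul, mul_smul, hki, hgp, hk]
  have hg'o : orderOf (g' : G) = q := by
    rw [Subgroup.orderOf_coe, hg', ← MulAut.conj_apply, MulEquiv.orderOf_eq, hgo]
  have hg'1 : (g' : G) ≠ 1 := fun e => by
    rw [e, orderOf_one] at hg'o
    exact hqp.one_lt.ne hg'o
  set t' := k * t * k⁻¹ with ht'
  have hcomm : g' * t' = t' * g' := by
    rw [hg', ht']
    calc k * g * k⁻¹ * (k * t * k⁻¹) = k * (g * t) * k⁻¹ := by group
      _ = k * t * k⁻¹ * (k * g * k⁻¹) := by rw [hgc]; group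
  have ht'a : (t' : G) • a = a := by
    refine (A.odd_fix d hn g'.2 hg'a (hg'o ▸ hodd) (p := (t' : G) • a) ?_).resolve_left hg'1
    rw [← mul_smul, show (g' : G) * t' = t' * g' from congrArg Subtype.val hcomm, mul_smul]
    exact congrArg ((t' : G) • ·) hg'a
  have h := A.cent_sq g'.2 hg'a t'.2 ht'a
    (by rw [Subgroup.orderOf_coe, ht', ← MulAut.conj_apply, MulEquiv.orderOf_eq, ht])
    (congrArg Subtype.val hcomm)
  rw [← pow_two] at h
  have := orderOf_dvd_of_pow_eq_one h
  rw [hg'o, Nat.prime_dvd_prime_iff_eq hqp Nat.prime_two] at this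
  rw [this] at hodd
  exact absurd hodd (by decide)

/-- `K` has a non-trivial normal `2`-subgroup. -/
theorem pcore_ne_bot (hn : Nat.card Ω = 16) : Cfsg.pCore 2 K ≠ ⊥ := by
  classical
  haveI : Fact (Nat.Prime 2) := ⟨Nat.prime_two⟩
  haveI := d.faith
  intro hbot
  have h2 := A.two_trans d hn
  haveI : IsPretransitive K Ω := isPretransitive_of_is_two_pretransitive (h2 := h2)
  obtain ⟨ψ, hψ, hs, hsur⟩ := A.exists_embed
  haveI := alternatingGroup.isSimpleGroup (α := Fin 5) (by simp)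
  obtain ⟨e⟩ := A.iso
  haveI : Nontrivial ↥(K ⊓ stabilizer G a) := e.toEquiv.nontrivial
  haveI : IsSimpleGroup ↥(K ⊓ stabilizer G a) := IsSimpleGroup.isSimpleGroup_of_surjective
    e.symm.toMonoidHom e.symm.surjective
  have hL : Nat.card ↥(K ⊓ stabilizer G a) = 60 := by
    rw [Nat.card_congr e.toEquiv, nat_card_alternatingGroup, Nat.card_fin]
    decide +kernel
  haveI : Nontrivial K := Finite.one_lt_card_iff_nontrivial.1 (by rw [A.cardK]; norm_num)
  haveI : IsSimpleGroup K := by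
    refine { eq_bot_or_eq_top_of_normal := fun M hM => or_iff_not_imp_left.2 fun hM1 => ?_ }
    haveI := hM
    haveI := PermNormal.transitive_of_normal
      (MulAction.isPreprimitive_of_is_two_pretransitive h2) M hM1
    have hcard := PermNormal.card_stabilizer_mul (G := M) a
    rw [hn] at hcard
    let j : ↥(K ⊓ stabilizer G a) →* K := Subgroup.inclusion inf_le_left
    have hj : Function.Injective j := Subgroup.inclusion_injective _
    rcases (inferInstance : (M.comap j).Normal).eq_bot_or_eq_top with hb | ht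
    · exfalso
      have h1 : Nat.card (stabilizer M a) = 1 := by
        rw [Subgroup.card_eq_one, Subgroup.eq_bot_iff_forall]
        intro m hm
        have hm' : (⟨((m : K) : G), (m : K).2, hm⟩ : ↥(K ⊓ stabilizer G a)) ∈ M.comap j := m.2
        rw [hb, Subgroup.mem_bot] at hm'
        exact Subtype.ext (Subtype.ext (congrArg Subtype.val hm' :))
      rw [h1, mul_one] at hcard
      have hle := PBasic.le_pCore hM
        (IsPGroup.of_card (p := 2) (n := 4) (hcard.symm.trans (by norm_num)))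
      rw [hbot] at hle
      exact hM1 (le_bot_iff.1 hle)
    · refine Subgroup.eq_top_of_card_eq M ?_
      have h60 : Nat.card (stabilizer M a) = 60 := by
        rw [← hL]
        exact (Nat.card_congr
          { toFun := fun l => ⟨⟨j l, (ht ▸ Subgroup.mem_top l : l ∈ M.comap j)⟩, l.2.2⟩
            invFun := fun m => ⟨((m.1 : K) : G), (m.1 : K).2, m.2⟩
            left_inv := fun _ => rfl
            right_inv := fun _ => rfl }).symm
      rw [h60] at hcard
      rw [← hcard, A.cardK]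
  have hna : ∃ x y : K, x * y ≠ y * x := by
    by_contra hcon
    push Not at hcon
    obtain ⟨l1, e1⟩ := hsur three5 (by decide +kernel)
    obtain ⟨l2, e2⟩ := hsur (Equiv.swap 2 3 * Equiv.swap 3 4) (by decide +kernel)
    have h := congrArg ψ (show l1 * l2 = l2 * l1 from Subtype.ext (by
      exact (congrArg Subtype.val (hcon ⟨l1, l1.2.1⟩ ⟨l2, l2.2.1⟩) :)))
    rw [map_mul, map_mul, e1, e2] at h
    exact absurd h (by decide +kernel)
  rcases CNSimple.simple_list hna (Or.inr (A.cit d hn)) with ⟨F, i1, i2, -, ⟨f⟩⟩ | ⟨F, i1, i2, hF, ⟨f⟩⟩ | hs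
  · exact psl_two_ne_960 F (by rw [← Nat.card_congr f.toEquiv, A.cardK])
  · have h := EPPO.card_psl34 hF
    rw [← Nat.card_congr f.toEquiv, A.cardK] at h
    omega
  · obtain ⟨-, m, -, hm⟩ := hs
    exact EPPO.not_three_dvd_suzuki m (by rw [← hm, A.cardK]; norm_num)

/-- The regular normal subgroup. -/
theorem exists_regular (hn : Nat.card Ω = 16) :
    ∃ T : Subgroup G, T.Normal ∧ Nat.card T = 16 ∧ (∀ t ∈ T, t • a = a → t = 1) ∧
      (∀ p : Ω, ∃ t ∈ T, t • a = p) ∧ ∀ t ∈ T, t * t = 1 := by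
  classical
  haveI : Fact (Nat.Prime 2) := ⟨Nat.prime_two⟩
  haveI := d.faith
  haveI := A.normal
  set T := (Cfsg.pCore 2 K).map K.subtype with hT
  haveI hTn : T.Normal :=
    FittingCores.normal_map_of_characteristic inferInstance (PBasic.pCore_characteristic 2 _)
  have hTp : IsPGroup 2 T := (PBasic.pCore_isPGroup 2 K).map K.subtype
  have hTK : T ≤ K := Subgroup.map_subtype_le _
  have hT1 : T ≠ ⊥ := fun e => by
    rw [hT, Subgroup.map_eq_bot_iff_of_injective _ K.subtype_injective] at e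
    exact A.pcore_ne_bot d hn e
  haveI := PermNormal.transitive_of_normal
    (MulAction.isPreprimitive_of_is_two_pretransitive d.two) T hT1
  obtain ⟨e⟩ := A.iso
  haveI := alternatingGroup.isSimpleGroup (α := Fin 5) (by simp)
  haveI : Nontrivial ↥(K ⊓ stabilizer G a) := e.toEquiv.nontrivial
  haveI : IsSimpleGroup ↥(K ⊓ stabilizer G a) := IsSimpleGroup.isSimpleGroup_of_surjective
    e.symm.toMonoidHom e.symm.surjective
  have hsemi : ∀ t ∈ T, t • a = a → t = 1 := by
    rcases (inferInstance : (T.subgroupOf (K ⊓ stabilizer G a)).Normal).eq_bot_or_eq_top with hb | ht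
    · intro t ht hta
      have : (⟨t, hTK ht, hta⟩ : ↥(K ⊓ stabilizer G a)) ∈ T.subgroupOf (K ⊓ stabilizer G a) := ht
      rw [hb, Subgroup.mem_bot] at this
      exact congrArg Subtype.val this
    · exfalso
      obtain ⟨n, hn'⟩ := IsPGroup.iff_card.1 (hTp.to_le (Subgroup.subgroupOf_eq_top.1 ht))
      rw [Nat.card_congr e.toEquiv, nat_card_alternatingGroup, Nat.card_fin,
        show Nat.factorial 5 / 2 = 60 by decide +kernel] at hn'
      have := Nat.prime_three.dvd_of_dvd_pow (hn' ▸ (by norm_num : 3 ∣ 60))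
      omega
  have htr : ∀ p : Ω, ∃ t ∈ T, t • a = p := fun p => by
    obtain ⟨t, ht⟩ := exists_smul_eq T a p
    exact ⟨t, t.2, ht⟩
  have hcard : Nat.card T = 16 := by
    rw [← PermNormal.card_stabilizer_mul (G := T) a, hn,
      show Nat.card (stabilizer T a) = 1 by
        rw [Subgroup.card_eq_one, Subgroup.eq_bot_iff_forall]
        exact fun t ht => Subtype.ext (hsemi t t.2 ht), mul_one]
  refine ⟨T, hTn, hcard, hsemi, htr, fun t ht => ?_⟩
  obtain ⟨s, hs⟩ := exists_prime_orderOf_dvd_card' (G := T) 2 (by rw [hcard]; norm_num)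
  rcases eq_or_ne t 1 with rfl | ht1
  · rw [mul_one]
  have hs1 : (s : G) • a ≠ a := fun e => by
    rw [← Subgroup.orderOf_coe, hsemi s s.2 e, orderOf_one] at hs
    omega
  obtain ⟨g, g1, g2⟩ := d.move (Ne.symm hs1) (Ne.symm fun e => ht1 (hsemi t ht e))
  have h1 : t⁻¹ * (g * s * g⁻¹) = 1 := hsemi _ (T.mul_mem (T.inv_mem ht) (hTn.conj_mem _ s.2 g)) (by
    rw [mul_smul, mul_smul, mul_smul, inv_smul_eq_iff.2 g1.symm, g2, inv_smul_smul])
  rw [inv_mul_eq_one] at h1
  have hss : (s : G) * s = 1 := by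
    rw [← pow_two, ← hs, ← Subgroup.orderOf_coe, pow_orderOf_eq_one]
  rw [h1]
  calc g * s * g⁻¹ * (g * s * g⁻¹) = g * ((s : G) * s) * g⁻¹ := by group
    _ = 1 := by rw [hss]; group

end Aff

end Cfsg.Agent.TwoPtAlt
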