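import Cfsg.Agent.Lib.TwoPtAlt.PSLLocal

/-!
# The numbers modulo the odd core
-/

set_option autoImplicit false
set_option linter.unusedSectionVars false
set_option linter.style.haveILetI false

namespace Cfsg.Agent.TwoPtAlt

open scoped Classical

universe u

variable {Y : Type u} [Group Y] [Finite Y]

/-- The conclusion: `i` is the index and `c` the order of `C(J)`, `k` the number of conjugates of `V`
under it; `P` is an extra hypothesis. -/
def QNum (P : Prop) (c i k : ℕ) : Prop :=
  (∃ u, 0 < u ∧ ∃ q, IsPrimePow q ∧ (q = 4 * u + 1 ∨ q + 1 = 4 * u) ∧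
      (q = 4 * u + 1 → i = q * (2 * u + 1)) ∧ (q + 1 = 4 * u → i = q * (2 * u - 1)) ∧
      (Odd u → k = u) ∧ (Even u → 2 * k = u ∨ k = u) ∧ 4 * u ∣ c ∧ (P → Even u → 2 * k = u)) ∨
    (i = 105 ∧ (k = 1 ∨ k = 3) ∧ 8 ∣ c)

/-- If all involutions lie in a normal subgroup, its index is odd. -/
theorem odd_index_of_invol (hd : GW.DihSylow Y) (L : Subgroup Y) [L.Normal]
    (hall : ∀ s : Y, orderOf s = 2 → s ∈ L) : Odd L.index := by
  haveI : Fact (Nat.Prime 2) := ⟨Nat.prime_two⟩
  obtain ⟨Q, n, -, ⟨e⟩⟩ := hd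
  have hle : (Q : Subgroup Y) ≤ L := by
    intro x hx
    have hinv : ∀ i : ZMod n, ((e.symm (DihedralGroup.sr i) : (Q : Subgroup Y)) : Y) ∈ L := fun i =>
      hall _ (by rw [Subgroup.orderOf_coe, MulEquiv.orderOf_eq, DihedralGroup.orderOf_sr])
    rw [show x = ((e.symm (e ⟨x, hx⟩) : (Q : Subgroup Y)) : Y) by simp]
    rcases e ⟨x, hx⟩ with i | i
    · rw [show DihedralGroup.r i = DihedralGroup.sr 0 * DihedralGroup.sr i by
        rw [DihedralGroup.sr_mul_sr, sub_zero], map_mul, Subgroup.coe_mul]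
      exact mul_mem (hinv 0) (hinv i)
    · exact hinv i
  exact Nat.odd_iff.2 (Nat.two_dvd_ne_zero.1 fun h =>
    Q.not_dvd_index (h.trans (Subgroup.index_dvd_of_le hle)))

theorem three_dvd_normalizer {V : Subgroup Y} (hV : IsKleinFour V) {t : Y} (ht : t ∈ V) (ht1 : t ≠ 1)
    (hN : ∀ v ∈ V, v ≠ 1 → ∃ g ∈ Subgroup.normalizer (V : Set Y), g * t * g⁻¹ = v) :
    Nat.card ↥(Subgroup.normalizer (V : Set Y)) =
      3 * Nat.card ↥(Subgroup.normalizer (V : Set Y) ⊓ Subgroup.centralizer ({t} : Set Y)) := by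
  set N := Subgroup.normalizer (V : Set Y)
  have h := FourGroup.card_class_mul_centralizer (⟨t, Subgroup.le_normalizer ht⟩ : N)
  have e1 : Nat.card {y : N // IsConj (⟨t, Subgroup.le_normalizer ht⟩ : N) y} =
      Set.ncard ((V : Set Y) \ {1}) := by
    rw [← Nat.card_coe_set_eq]
    refine Nat.card_congr (Equiv.ofBijective (fun y => ⟨(y.1 : Y), ?_⟩) ⟨?_, ?_⟩)
    · obtain ⟨c, hc⟩ := isConj_iff.1 y.2
      have hc' : (c : Y) * t * (c : Y)⁻¹ = (y.1 : Y) := congrArg Subtype.val hc
      rw [← hc']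
      exact ⟨(Subgroup.mem_normalizer_iff.1 c.2 t).1 ht, fun e => ht1 (conj_eq_one_iff.1 e)⟩
    · intro y y' e
      exact Subtype.ext (Subtype.ext (congrArg Subtype.val e :))
    · rintro ⟨v, hv, hv1⟩
      obtain ⟨g, hg, he⟩ := hN v hv hv1
      exact ⟨⟨⟨v, Subgroup.le_normalizer hv⟩, isConj_iff.2 ⟨⟨g, hg⟩, Subtype.ext he⟩⟩, rfl⟩
  have e2 : Nat.card (Subgroup.centralizer ({(⟨t, Subgroup.le_normalizer ht⟩ : N)} : Set N)) =
      Nat.card ↥(N ⊓ Subgroup.centralizer ({t} : Set Y)) := by
    rw [← Subgroup.card_map_of_injective N.subtype_injective]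
    refine Nat.card_congr (Equiv.setCongr ?_)
    ext y
    constructor
    · rintro ⟨z, hz, rfl⟩
      exact ⟨z.2, Subgroup.mem_centralizer_singleton_iff.2
        (congrArg Subtype.val (Subgroup.mem_centralizer_singleton_iff.1 hz) :)⟩
    · rintro ⟨hy, hy'⟩
      exact ⟨⟨y, hy⟩, Subgroup.mem_centralizer_singleton_iff.2
        (Subtype.ext (Subgroup.mem_centralizer_singleton_iff.1 hy')), rfl⟩
  rw [e1, e2, Set.ncard_sdiff_singleton_of_mem V.one_mem, ← Nat.card_coe_set_eq] at h
  have h4 := hV.card_four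
  simp only [SetLike.coe_sort_coe] at h
  rw [h4] at h
  omega

/-- A four-group with three conjugate involutions lies in the socle. -/
theorem le_socle (hd : GW.DihSylow Y) (L : Subgroup Y) [L.Normal] (hL : 2 ∣ Nat.card L)
    {V : Subgroup Y} (hV : IsKleinFour V) {t : Y} (ht : t ∈ V)
    (hN : ∀ v ∈ V, v ≠ 1 → ∃ g ∈ Subgroup.normalizer (V : Set Y), g * t * g⁻¹ = v) : V ≤ L := by
  haveI : Fact (Nat.Prime 2) := ⟨Nat.prime_two⟩
  obtain ⟨Q, hQ⟩ := (IsPGroup.of_card (p := 2) (n := 2) hV.card_four).exists_le_sylow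
  set S := (Q : Subgroup Y)
  obtain ⟨s, hs⟩ := exists_prime_orderOf_dvd_card' 2 hL
  have hs' : orderOf (s : Y) = 2 := by rw [Subgroup.orderOf_coe, hs]
  obtain ⟨R, hR⟩ := (show IsPGroup 2 (Subgroup.zpowers (s : Y)) from
    IsPGroup.of_card (n := 1) (by rw [Nat.card_zpowers, hs', pow_one])).exists_le_sylow
  obtain ⟨g, rfl⟩ := MulAction.exists_smul_eq Y R Q
  have hmem : g * (s : Y) * g⁻¹ ∈ S :=
    Subgroup.mem_map.2 ⟨s, hR (Subgroup.mem_zpowers _), rfl⟩
  have hmemL : g * (s : Y) * g⁻¹ ∈ L := (inferInstance : L.Normal).conj_mem _ s.2 g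
  have hne : (L.subgroupOf S) ≠ ⊥ := fun e => by
    have h1 : (⟨_, hmem⟩ : S) ∈ L.subgroupOf S := Subgroup.mem_subgroupOf.2 hmemL
    rw [e, Subgroup.mem_bot] at h1
    have h2 : (s : Y) = 1 := conj_eq_one_iff.1 (congrArg Subtype.val h1)
    rw [h2, orderOf_one] at hs'
    omega
  obtain ⟨z, hz⟩ := exists_prime_orderOf_dvd_card' 2
    (show 2 ∣ Nat.card ↥(L.subgroupOf S ⊓ Subgroup.center S) by
      obtain ⟨n, hn⟩ := IsPGroup.iff_card.1
        (Sylow.isPGroup' (g • R) |>.to_subgroup (L.subgroupOf S ⊓ Subgroup.center S))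
      rw [hn]
      refine dvd_pow_self 2 fun e => AbPPrime.inf_center_ne_bot (Sylow.isPGroup' (g • R)) hne ?_
      exact Subgroup.card_eq_one.1 (by rw [hn, e, pow_zero]))
  obtain ⟨k, -, ⟨eQ⟩⟩ := hd.two_pow (g • R)
  let ψ : V →* DihedralGroup (2 ^ k) := eQ.toMonoidHom.comp (Subgroup.inclusion hQ)
  have hψ : Function.Injective ψ := eQ.injective.comp (Subgroup.inclusion_injective hQ)
  haveI : NeZero (2 ^ k) := ⟨by positivity⟩
  have hzS : orderOf ((z : S)) = 2 := by rw [Subgroup.orderOf_coe, hz]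
  have hz1 : (z : S) ≠ 1 := fun e => by rw [e, orderOf_one] at hzS; omega
  obtain ⟨x, hx⟩ := SelfCentNC.dihedral_central ψ hψ ⟨k, rfl⟩
    (fun hc => by haveI := hV; exact IsKleinFour.not_isCyclic hc)
    (d := eQ (z : S)) (fun e => hz1 (eQ.injective (e.trans (map_one _).symm)))
    (by
      have hzz := pow_orderOf_eq_one (z : S)
      rw [hzS, pow_two] at hzz
      rw [← map_mul, hzz, map_one]) (fun y => by
      obtain ⟨y, rfl⟩ := eQ.surjective y
      rw [← map_mul, ← map_mul, Subgroup.mem_center_iff.1 z.2.2 y])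
  have hxz : (x : Y) = ((z : S) : Y) := congrArg Subtype.val (eQ.injective hx)
  have hxL : (x : Y) ∈ L := by rw [hxz]; exact z.2.1
  have hx1 : (x : Y) ≠ 1 := fun e => hz1 (Subtype.ext (hxz.symm.trans e))
  obtain ⟨g0, -, he0⟩ := hN x x.2 hx1
  have htL : t ∈ L := by
    have := (inferInstance : L.Normal).conj_mem _ hxL g0⁻¹
    rw [← he0] at this
    simpa [mul_assoc] using this
  intro v hv
  rcases eq_or_ne v 1 with rfl | hv1
  · exact L.one_mem
  · obtain ⟨g1, -, rfl⟩ := hN v hv hv1
    exact (inferInstance : L.Normal).conj_mem t htL g1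

/-- The group `A₇`. -/
theorem seven_numbers (e : Y ≃* alternatingGroup (Fin 7)) {V : Subgroup Y} (hV : IsKleinFour V)
    {t : Y} (ht : t ∈ V) (ht1 : t ≠ 1)
    (hN : ∀ v ∈ V, v ≠ 1 → ∃ g ∈ Subgroup.normalizer (V : Set Y), g * t * g⁻¹ = v) :
    (Subgroup.centralizer ({t} : Set Y)).index = 105 ∧
      ((Subgroup.normalizer (V : Set Y)).relIndex (Subgroup.centralizer ({t} : Set Y)) = 1 ∨
        (Subgroup.normalizer (V : Set Y)).relIndex (Subgroup.centralizer ({t} : Set Y)) = 3) := by
  haveI : Fact (Nat.Prime 2) := ⟨Nat.prime_two⟩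
  have ho : orderOf t = 2 := orderOf_eq_prime (by rw [pow_two]; exact FourGroup.mul_self_of_mem hV ht) ht1
  obtain ⟨κ, hκ, hκt, hsur⟩ := GW.seven_model e ho
  have hY : Nat.card Y = 2520 := by
    rw [Nat.card_congr e.toEquiv, nat_card_alternatingGroup, Nat.card_fin]
    decide +kernel
  have hC : Nat.card (Subgroup.centralizer ({t} : Set Y)) = 24 := by
    have h48 : Nat.card (Subgroup.centralizer ({GW.pv7} : Set (Equiv.Perm (Fin 7)))) = 48 := by
      rw [Equiv.Perm.nat_card_centralizer]
      decide +kernel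
    set Z := Subgroup.centralizer ({GW.pv7} : Set (Equiv.Perm (Fin 7))) with hZ
    have hodd : ∃ c ∈ Z, c ∉ alternatingGroup (Fin 7) :=
      ⟨Equiv.swap 4 5, Subgroup.mem_centralizer_singleton_iff.2 (by decide +kernel),
        fun h => absurd (Equiv.Perm.mem_alternatingGroup.1 h) (by decide +kernel)⟩
    have hidx : (alternatingGroup (Fin 7)).relIndex Z = 2 := by
      obtain ⟨c, hc, hcA⟩ := hodd
      refine Subgroup.index_eq_two_iff.2 ⟨⟨c, hc⟩, fun x => ?_⟩
      simp only [Subgroup.mem_subgroupOf, Subgroup.coe_mul, Equiv.Perm.mem_alternatingGroup, map_mul]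
      rw [Equiv.Perm.mem_alternatingGroup] at hcA
      rcases Int.units_eq_one_or (Equiv.Perm.sign c) with h1 | h1
      · exact absurd h1 hcA
      · rw [h1]
        rcases Int.units_eq_one_or (Equiv.Perm.sign (x : Equiv.Perm (Fin 7))) with h2 | h2 <;>
          rw [h2] <;> decide
    have h := Subgroup.card_mul_index ((alternatingGroup (Fin 7)).subgroupOf Z)
    rw [← Subgroup.relIndex, hidx, h48, ← Subgroup.inf_subgroupOf_right,
      Nat.card_congr (Subgroup.subgroupOfEquivOfLe inf_le_right).toEquiv] at h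
    have e2 : Nat.card ↥(alternatingGroup (Fin 7) ⊓ Z) =
        Nat.card (Subgroup.centralizer ({t} : Set Y)) := by
      rw [← Subgroup.card_map_of_injective hκ (K := Subgroup.centralizer ({t} : Set Y))]
      refine Nat.card_congr (Equiv.setCongr ?_)
      ext p
      constructor
      · rintro ⟨hp, hpZ⟩
        obtain ⟨x, rfl⟩ := hsur p (Equiv.Perm.mem_alternatingGroup.1 hp)
        exact ⟨x, Subgroup.mem_centralizer_singleton_iff.2 (hκ (by
          rw [map_mul, map_mul, hκt]; exact Subgroup.mem_centralizer_singleton_iff.1 hpZ)), rfl⟩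
      · rintro ⟨x, hx, rfl⟩
        refine ⟨Equiv.Perm.mem_alternatingGroup.2 ?_, Subgroup.mem_centralizer_singleton_iff.2 ?_⟩
        · let f : Y →* ℤˣ := Equiv.Perm.sign.comp κ
          let g : alternatingGroup (Fin 7) →* ℤˣ := f.comp e.symm.toMonoidHom
          haveI := alternatingGroup.isSimpleGroup (α := Fin 7) (by simp)
          rcases g.normal_ker.eq_bot_or_eq_top with hk | hk
          · exfalso
            have := Nat.card_le_card_of_injective g ((MonoidHom.ker_eq_bot_iff g).1 hk)
            rw [← Nat.card_congr e.toEquiv, hY, Nat.card_eq_fintype_card (α := ℤˣ),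
              Fintype.card_units_int] at this
            omega
          · have h' : g (e x) = 1 := MonoidHom.mem_ker.1 (hk ▸ Subgroup.mem_top _)
            simpa [g, f] using h'
        · rw [← hκt, ← map_mul, ← map_mul, Subgroup.mem_centralizer_singleton_iff.1 hx]
    omega
  have hidx : (Subgroup.centralizer ({t} : Set Y)).index = 105 := by
    have := Subgroup.card_mul_index (Subgroup.centralizer ({t} : Set Y))
    rw [hC, hY] at this
    omega
  refine ⟨hidx, ?_⟩
  obtain ⟨Q, hQ⟩ := (IsPGroup.of_card (p := 2) (n := 2) hV.card_four).exists_le_sylow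
  have hQ8 : Nat.card Q = 2 ^ 3 := by
    rw [Q.card_eq_multiplicity, hY]
    congr 1
    rw [show (2520 : ℕ) = 2 ^ 3 * 315 by norm_num, Nat.factorization_mul (by norm_num) (by norm_num),
      Finsupp.add_apply, Nat.factorization_pow, Finsupp.smul_apply, Nat.Prime.factorization_self
        Nat.prime_two, Nat.factorization_eq_zero_of_not_dvd (by norm_num)]
    rfl
  have hQN : (Q : Subgroup Y) ≤ Subgroup.normalizer (V : Set Y) := by
    rw [← Subgroup.normal_subgroupOf_iff_le_normalizer hQ]
    refine Subgroup.normal_of_index_eq_two ?_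
    have := Subgroup.card_mul_index (V.subgroupOf (Q : Subgroup Y))
    rw [Nat.card_congr (Subgroup.subgroupOfEquivOfLe hQ).toEquiv, hV.card_four, hQ8] at this
    omega
  have h8 := Subgroup.card_dvd_of_le hQN
  rw [hQ8, three_dvd_normalizer hV ht ht1 hN] at h8
  have h := card_inf_mul_relIndex' (Subgroup.normalizer (V : Set Y))
    (Subgroup.centralizer ({t} : Set Y))
  rw [hC] at h
  obtain ⟨c, hc⟩ := (Nat.Coprime.dvd_of_dvd_mul_left (by norm_num) h8)
  rw [hc] at h
  set k := (Subgroup.normalizer (V : Set Y)).relIndex (Subgroup.centralizer ({t} : Set Y))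
  have hck : c * k = 3 := by
    rw [mul_assoc, show (2 : ℕ) ^ 3 = 8 from rfl] at h
    omega
  exact (Nat.dvd_prime Nat.prime_three).1 ⟨c, by rw [← hck, mul_comm]⟩

/-- The numbers in a group with trivial odd core. -/
theorem quot_numbers (hd : GW.DihSylow Y) (hs : GW.Shape Y) {V : Subgroup Y} (hV : IsKleinFour V)
    {t : Y} (ht : t ∈ V) (ht1 : t ≠ 1)
    (hN : ∀ v ∈ V, v ≠ 1 → ∃ g ∈ Subgroup.normalizer (V : Set Y), g * t * g⁻¹ = v) :
    QNum (∀ s : Y, orderOf s = 2 → IsConj t s) (Nat.card (Subgroup.centralizer ({t} : Set Y)))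
      (Subgroup.centralizer ({t} : Set Y)).index
      ((Subgroup.normalizer (V : Set Y)).relIndex (Subgroup.centralizer ({t} : Set Y))) := by
  haveI : Fact (Nat.Prime 2) := ⟨Nat.prime_two⟩
  have h3 : 3 ∣ Nat.card Y :=
    (Dvd.intro _ (three_dvd_normalizer hV ht ht1 hN).symm).trans (Subgroup.card_subgroup_dvd_card _)
  rcases hs with h | ⟨W, hW, hWK, hWC, hcard⟩ | ⟨L, hL, hsimp, hnc, htg, hC⟩
  · exfalso
    obtain ⟨n, hn⟩ := IsPGroup.iff_card.1 h
    rw [hn] at h3
    have := Nat.prime_three.dvd_of_dvd_pow h3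
    omega
  · -- the groups of order 12 and 24
    haveI := hW
    have hVW : V = W := by
      by_cases h : ∃ v ∈ V, v ≠ 1 ∧ v ∈ W
      · obtain ⟨v, hv, hv1, hvW⟩ := h
        obtain ⟨g0, -, rfl⟩ := hN v hv hv1
        have htW : t ∈ W := by
          have := hW.conj_mem _ hvW g0⁻¹
          simpa [mul_assoc] using this
        refine Subgroup.eq_of_le_of_card_ge (fun x hx => ?_) (by rw [hV.card_four, hWK.card_four])
        rcases eq_or_ne x 1 with rfl | hx1
        · exact W.one_mem
        · obtain ⟨g1, -, rfl⟩ := hN x hx hx1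
          exact hW.conj_mem t htW g1
      · exfalso
        push Not at h
        have hinj : Function.Injective fun p : V × W => (p.1 : Y) * p.2 := by
          rintro ⟨a, b⟩ ⟨a', b'⟩ e
          have e' : (a : Y) * b = a' * b' := e
          have e1 : (a' : Y)⁻¹ * a = b' * (b : Y)⁻¹ := by
            rw [inv_mul_eq_iff_eq_mul, ← mul_assoc, ← e', mul_inv_cancel_right]
          have h1 : (a' : Y)⁻¹ * a = 1 := by
            by_contra hne
            exact h _ (mul_mem (inv_mem a'.2) a.2) hne (e1 ▸ mul_mem b'.2 (inv_mem b.2))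
          have ha : a = a' := Subtype.ext (inv_mul_eq_one.1 h1).symm
          subst ha
          exact Prod.ext rfl (Subtype.ext (mul_left_cancel e'))
        have h1 := Nat.card_le_card_of_injective _ hinj
        have h16 : Nat.card (V × W) ∣ 2 ^ 4 := by
          rw [Nat.card_prod, hV.card_four, hWK.card_four]
          norm_num
        rw [Nat.card_prod, hV.card_four, hWK.card_four] at h1
        have hsup := Subgroup.card_subgroup_dvd_card (V ⊔ W)
        have h2 : Nat.card ↥(V ⊔ W) ∣ 16 := by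
          have := Subgroup.card_mul_index (W.subgroupOf (V ⊔ W))
          rw [Nat.card_congr (Subgroup.subgroupOfEquivOfLe le_sup_right).toEquiv, hWK.card_four,
            ← Subgroup.relIndex, Subgroup.relIndex_sup_right] at this
          rw [← this, show (16 : ℕ) = 4 * 4 by rfl]
          refine mul_dvd_mul_left 4 ?_
          have := (Subgroup.index_dvd_card (W.subgroupOf V))
          rwa [hV.card_four] at this
        have h3 : 16 ≤ Nat.card ↥(V ⊔ W) := by
          have hinj2 : Function.Injective fun p : V × W => (⟨(p.1 : Y) * p.2,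
              mul_mem (Subgroup.mem_sup_left p.1.2) (Subgroup.mem_sup_right p.2.2)⟩ : ↥(V ⊔ W)) :=
            fun p p' e => hinj (congrArg Subtype.val e :)
          have := Nat.card_le_card_of_injective _ hinj2
          rwa [Nat.card_prod, hV.card_four, hWK.card_four] at this
        have h4 := Nat.le_of_dvd (by norm_num) h2
        rw [show Nat.card ↥(V ⊔ W) = 16 by omega] at hsup
        rcases hcard with e | e <;> rw [e] at hsup <;> omega
    subst hVW
    have hNtop : Subgroup.normalizer (V : Set Y) = ⊤ := Subgroup.normalizer_eq_top_iff.2 hW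
    have h := three_dvd_normalizer hV ht ht1 hN
    rw [hNtop, top_inf_eq, Subgroup.card_top] at h
    have hi : (Subgroup.centralizer ({t} : Set Y)).index = 3 := by
      have := Subgroup.card_mul_index (Subgroup.centralizer ({t} : Set Y))
      rw [h] at this
      exact Nat.eq_of_mul_eq_mul_left Nat.card_pos (this.trans (mul_comm _ _))
    refine Or.inl ⟨1, one_pos, 3, Nat.prime_three.isPrimePow, Or.inr rfl, fun e => absurd e (by norm_num),
      fun _ => hi, fun _ => ?_, fun e => absurd e (by norm_num), ?_, fun _ e => absurd e (by norm_num)⟩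
    · rw [hNtop, Subgroup.relIndex_top_left]
    · rw [mul_one, ← hV.card_four]
      exact Subgroup.card_dvd_of_le fun v hv =>
        Subgroup.mem_centralizer_singleton_iff.2 (FourGroup.comm_of_mem hV hv ht)
  · -- the socle
    haveI := hL
    haveI := hsimp
    rcases GW.almost_target hd L hnc hC htg with ⟨-, ⟨e⟩⟩ | ⟨F, i1, i2, hodd, hq3, ι, hι, hmap, -⟩
    · obtain ⟨h105, hk⟩ := seven_numbers e hV ht ht1 hN
      refine Or.inr ⟨h105, hk, ?_⟩
      have h := Subgroup.card_mul_index (Subgroup.centralizer ({t} : Set Y))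
      rw [h105, Nat.card_congr e.toEquiv, nat_card_alternatingGroup, Nat.card_fin,
        show Nat.factorial 7 / 2 = 24 * 105 by decide +kernel] at h
      rw [Nat.eq_of_mul_eq_mul_right (by norm_num) h]
      norm_num
    · have hncP : Function.Injective (MulAut.conj :
          Matrix.ProjectiveSpecialLinearGroup (Fin 2) F →* MulAut _) := by
        rw [← MonoidHom.ker_eq_bot_iff]
        refine eq_bot_iff.2 fun x hx => ?_
        rw [MonoidHom.mem_ker] at hx
        rw [← SubThree.center_trivial (F := F) hq3, Subgroup.mem_center_iff]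
        intro y
        have := DFunLike.congr_fun hx y
        rw [MulAut.conj_apply, MulAut.one_apply, mul_inv_eq_iff_eq_mul] at this
        exact this.symm
      let e : L ≃* Matrix.ProjectiveSpecialLinearGroup (Fin 2) F :=
        ((L.equivMapOfInjective ι hι).trans (MulEquiv.subgroupCongr hmap)).trans
          (MonoidHom.ofInjective hncP).symm
      have hVL : V ≤ L := by
        refine le_socle hd L ?_ hV ht hN
        rw [Nat.card_congr e.toEquiv]
        have h2 : (2 : F) ≠ 0 := PSL2Sub.two_ne_zero_of_odd (by rwa [Nat.card_eq_fintype_card])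
        have h := orderOf_dvd_natCard (PSL2Inv.pr (SL2Inv.w (F := F)))
        rwa [PSL2Inv.orderOf_pr h2 SL2Inv.trace_w] at h
      obtain ⟨u, hu, hq, h1, h3', hk1, hk2, h4, hone⟩ := socle_numbers hodd L e V hV hVL ht ht1
      refine Or.inl ⟨u, hu, _, FiniteField.isPrimePow_card F, hq, h1, h3', hk1, hk2, h4, fun hP =>
        hone (odd_index_of_invol hd L fun s hs => ?_)⟩
      obtain ⟨g, rfl⟩ := isConj_iff.1 (hP s hs)
      exact (inferInstance : L.Normal).conj_mem t (hVL ht) g

end Cfsg.Agent.TwoPtAlt
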