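import Cfsg.Agent.Lib.TwoPtAlt.EndsBase
import Cfsg.Agent.Lib.TwoPtAlt.Quot
import Cfsg.Agent.Lib.TwoPtAlt.Basic
import Cfsg.Agent.S0253

/-!
# Degree 16: the point stabiliser is `3 × A₅` and there is a normal subgroup of index three
-/

set_option autoImplicit false
set_option linter.unusedSectionVars false
set_option linter.style.haveILetI false

namespace Cfsg.Agent.TwoPtAlt

open MulAction Cfsg.Agent.Zass

universe u v

/-- A homomorphism from `A₅` to a group of order two is trivial. -/
theorem alt_five_hom_trivial {M : Type*} [Group M] [Finite M] (hM : Nat.card M ≤ 2)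
    (f : alternatingGroup (Fin 5) →* M) (x : alternatingGroup (Fin 5)) : f x = 1 := by
  haveI := alternatingGroup.isSimpleGroup (α := Fin 5) (by simp)
  rcases f.normal_ker.eq_bot_or_eq_top with h | h
  · exfalso
    have h1 := Nat.card_le_card_of_injective f ((MonoidHom.ker_eq_bot_iff f).1 h)
    rw [nat_card_alternatingGroup, Nat.card_fin, show Nat.factorial 5 / 2 = 60 by decide +kernel] at h1
    omega
  · exact MonoidHom.mem_ker.1 (h ▸ Subgroup.mem_top x)

variable {G : Type u} [Group G] [Finite G] {Ω : Type v} [MulAction G Ω] [Fintype Ω]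
variable {a b : Ω} {V : Subgroup G} {J : G}

/-- What is used about the point stabiliser in degree sixteen. -/
structure Aff (a b : Ω) (V : Subgroup G) (J : G) (z : G) (K : Subgroup G) : Prop where
  za : z • a = a
  zord : orderOf z = 3
  zfix : ∀ p : Ω, z • p = p → p = a
  zcomm : ∀ x : G, x • a = a → x * z = z * x
  normal : K.Normal
  cardK : Nat.card K = 960
  iso : Nonempty (↥(K ⊓ stabilizer G a) ≃* alternatingGroup (Fin 5))

namespace Data

variable (d : Data a b V J 3)
include d

/-- The stabiliser is a central extension of order three of `A₅`. -/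
theorem stab_sixteen (hn : Nat.card Ω = 16) (hi : fx1 Ω J = 4) :
    ∃ (z : G) (π : stabilizer G a →* alternatingGroup (Fin 5)), z • a = a ∧ orderOf z = 3 ∧
      (∀ x : G, x • a = a → x * z = z * x) ∧ Function.Surjective π ∧
      ∀ x : stabilizer G a, π x = 1 ↔ (x : G) ∈ Subgroup.zpowers z := by
  classical
  haveI : Fact (Nat.Prime 2) := ⟨Nat.prime_two⟩
  set X := stabilizer G a with hX
  have hXc : Nat.card X = 180 := by rw [hX, d.card_stab, hn]
  have hVX : V ≤ X := fun v hv => d.a_fixed v hv
  set VX := V.subgroupOf X with hVXdef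
  have hVXk : IsKleinFour VX := FourGroup.subgroupOf_isKleinFour d.klein hVX
  have hd : GW.DihSylow X := by
    obtain ⟨P, hP⟩ := (IsPGroup.of_card (p := 2) (n := 2) hVXk.card_four).exists_le_sylow
    have hP4 : Nat.card P = 4 := by
      rw [P.card_eq_multiplicity, hXc, show (180 : ℕ) = 2 ^ 2 * 45 by norm_num,
        Nat.factorization_mul (by norm_num) (by norm_num), Finsupp.add_apply, Nat.factorization_pow,
        Finsupp.smul_apply, Nat.Prime.factorization_self Nat.prime_two,
        Nat.factorization_eq_zero_of_not_dvd (by norm_num)]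
      rfl
    have heq : VX = (P : Subgroup X) :=
      Subgroup.eq_of_le_of_card_ge hP (by rw [hVXk.card_four]; exact hP4.le)
    haveI : IsKleinFour (DihedralGroup 2) := inferInstance
    haveI : IsKleinFour (P : Subgroup X) := heq ▸ hVXk
    exact ⟨P, 2, le_rfl, IsKleinFour.nonempty_mulEquiv⟩
  set R := Cfsg.oddCore X with hR
  have hRo : Odd (Nat.card R) := Nat.coprime_two_right.1 (PBasic.pPrimeCore_coprime 2 X)
  have hshape : GW.Shape (X ⧸ R) :=
    GW.shape_mod_core (GW.knownBelow_of_simple GW.simpleDihedral _) hd (Nat.lt_succ_self _)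
  have hHX : Zass.two (G := G) a b ≤ X := fun h hh => (mem_two.1 hh).1
  have h12c : Nat.card (Zass.two (G := G) a b) = 12 := d.card_two_eq
  have hHN : Zass.two (G := G) a b ≤ Subgroup.normalizer (V : Set G) := by
    have h := Subgroup.eq_of_le_of_card_ge
      (inf_le_left : Zass.two (G := G) a b ⊓ Subgroup.normalizer (V : Set G) ≤ Zass.two a b)
      (by rw [d.normV, h12c])
    exact fun x hx => (h.ge hx).2
  have hoddR : ∀ v : X, (v : G) ∈ V → v ∈ R → v = 1 := fun v hv hvR => by
    by_contra h1
    have h2 : orderOf v = 2 := by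
      rw [← Subgroup.orderOf_coe]
      exact d.order hv fun e => h1 (Subtype.ext e)
    have := hRo.of_dvd_nat (h2 ▸ Subgroup.orderOf_dvd_natCard R hvR)
    exact absurd this (by decide)
  -- `H` embeds in the quotient
  have hinj : Function.Injective ((QuotientGroup.mk' R).comp (Subgroup.inclusion hHX)) := by
    refine (injective_iff_map_eq_one _).2 fun h hh => ?_
    have hhR : Subgroup.inclusion hHX h ∈ R := (QuotientGroup.eq_one_iff _).1 hh
    have hc : (h : G) * J * (h : G)⁻¹ * J⁻¹ ∈ V :=
      mul_mem ((Subgroup.mem_normalizer_iff.1 (hHN h.2) J).1 d.memJ) (inv_mem d.memJ)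
    have h1 := hoddR (Subgroup.inclusion hHX h * (⟨J, hVX d.memJ⟩ : X) * (Subgroup.inclusion hHX h)⁻¹ *
      (⟨J, hVX d.memJ⟩ : X)⁻¹) hc (by
        rw [mul_assoc (Subgroup.inclusion hHX h), mul_assoc]
        exact R.mul_mem hhR ((inferInstance : R.Normal).conj_mem _ (R.inv_mem hhR) ⟨J, hVX d.memJ⟩))
    have h2 : (h : G) * J * (h : G)⁻¹ * J⁻¹ = 1 := congrArg Subtype.val h1
    rw [mul_inv_eq_one, mul_inv_eq_iff_eq_mul] at h2
    exact Subtype.ext (congrArg Subtype.val (hoddR (Subgroup.inclusion hHX h) (d.cent _ h.2 h2) hhR) :)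
  have h12 : 12 ∣ Nat.card (X ⧸ R) := by
    have := Subgroup.card_dvd_of_injective _ hinj
    rwa [h12c] at this
  have hXR : Nat.card R * Nat.card (X ⧸ R) = 180 := by
    rw [← Subgroup.index_eq_card, Subgroup.card_mul_index, hXc]
  rcases hshape with h | ⟨W, -, -, -, hW⟩ | ⟨L, hL, hsimp, hnc, htg, hC⟩
  · exfalso
    obtain ⟨k, hk⟩ := IsPGroup.iff_card.1 h
    rw [hk] at h12
    have := Nat.prime_three.dvd_of_dvd_pow ((show 3 ∣ 12 by norm_num).trans h12)
    omega
  · exfalso
    have hR15 : Nat.card R = 15 := by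
      rcases hW with e | e
      · rw [e] at hXR; omega
      · exfalso
        have h24 : 24 ∣ 180 := ⟨Nat.card R, by rw [← e, mul_comm]; exact hXR.symm⟩
        norm_num at h24
    haveI : Fact (Nat.Prime 3) := ⟨Nat.prime_three⟩
    haveI : Fact (Nat.Prime 5) := ⟨by norm_num⟩
    haveI hRc : IsCyclic R := by
      obtain ⟨x, hx⟩ := exists_prime_orderOf_dvd_card' (G := R) 3 (hR15 ▸ by norm_num)
      obtain ⟨y, hy⟩ := exists_prime_orderOf_dvd_card' (G := R) 5 (hR15 ▸ by norm_num)
      obtain ⟨P5⟩ : Nonempty (Sylow 5 R) := inferInstance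
      have hP5 : Nat.card P5 = 5 := by
        rw [P5.card_eq_multiplicity, hR15, show (15 : ℕ) = 5 * 3 by norm_num,
          Nat.factorization_mul (by norm_num) (by norm_num), Finsupp.add_apply,
          Nat.Prime.factorization_self (by norm_num), Nat.factorization_eq_zero_of_not_dvd (by norm_num)]
        rfl
      have hidx : (P5 : Subgroup R).index = 3 := by
        have := (P5 : Subgroup R).card_mul_index
        rw [hP5, hR15] at this
        omega
      haveI : (P5 : Subgroup R).Normal :=
        Subgroup.normal_of_index_eq_minFac_card (by rw [hidx, hR15]; norm_num)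
      haveI : IsCyclic (P5 : Subgroup R) := isCyclic_of_prime_card (p := 5) hP5
      let f : R →* MulAut (P5 : Subgroup R) := MulAut.conjNormal
      have hfx : f x = 1 := by
        have h1 : orderOf (f x) ∣ 3 := hx ▸ orderOf_map_dvd f x
        have h4 : orderOf (f x) ∣ 4 := by
          have := orderOf_dvd_natCard (f x)
          rw [Nat.card_congr (IsCyclic.mulAutMulEquiv (P5 : Subgroup R)).toEquiv, Nat.card_eq_fintype_card,
            ZMod.card_units_eq_totient, hP5, show Nat.totient 5 = 4 by decide +kernel] at this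
          exact this
        exact orderOf_eq_one_iff.1 (Nat.eq_one_of_dvd_coprimes (by norm_num) h1 h4)
      have hyP : y ∈ (P5 : Subgroup R) := by
        have hle : IsPGroup 5 (Subgroup.zpowers y) :=
          IsPGroup.of_card (n := 1) (by rw [Nat.card_zpowers, hy, pow_one])
        obtain ⟨Q, hQ⟩ := hle.exists_le_sylow
        haveI : Subsingleton (Sylow 5 R) := P5.unique_of_normal inferInstance |> (·.instSubsingleton)
        rw [Subsingleton.elim P5 Q]
        exact hQ (Subgroup.mem_zpowers y)
      have hxy : Commute x y := by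
        have := congrArg Subtype.val (DFunLike.congr_fun hfx ⟨y, hyP⟩)
        rw [MulAut.conjNormal_apply] at this
        exact mul_inv_eq_iff_eq_mul.1 this
      refine isCyclic_of_orderOf_eq_card (x * y) ?_
      rw [hxy.orderOf_mul_eq_mul_orderOf_of_coprime (by rw [hx, hy]; norm_num), hx, hy, hR15]
    let f : X →* MulAut R := MulAut.conjNormal
    have hcomm : ∀ p q : MulAut R, p * q = q * p := fun p q => by
      refine (IsCyclic.mulAutMulEquiv R).injective ?_
      rw [map_mul, map_mul, mul_comm]
    obtain ⟨w, hwH, hwV, hwJ⟩ := d.rot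
    let wX : X := ⟨w, hHX hwH⟩
    let JX : X := ⟨J, hVX d.memJ⟩
    let vX : X := ⟨w * J * w⁻¹, hVX (hwV J d.memJ)⟩
    have hfv : f vX = f JX := by
      rw [show vX = wX * JX * wX⁻¹ from rfl, map_mul, map_mul, map_inv, hcomm (f wX), mul_inv_cancel_right]
    have hu : (JX * vX : X) = ⟨J * (w * J * w⁻¹), hVX (mul_mem d.memJ (hwV J d.memJ))⟩ := rfl
    have hu1 : J * (w * J * w⁻¹) ≠ 1 := fun e => hwJ (by
      rw [← inv_eq_of_mul_eq_one_right e, inv_eq_of_mul_eq_one_right (d.sq d.memJ)])
    obtain ⟨h, hh, he⟩ := d.conj _ (d.le (mul_mem d.memJ (hwV J d.memJ)))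
      (d.order (mul_mem d.memJ (hwV J d.memJ)) hu1)
    let hX' : X := ⟨h, hHX hh⟩
    have hfu : f (JX * vX) = f JX := by
      rw [show JX * vX = hX' * JX * hX'⁻¹ from Subtype.ext he.symm, map_mul, map_mul, map_inv,
        hcomm (f hX'), mul_inv_cancel_right]
    rw [map_mul, hfv, mul_eq_left] at hfu
    -- `J` centralises `R`
    have hle : (R.map X.subtype) ⊔ V ≤ Subgroup.centralizer ({J} : Set G) ⊓ stabilizer G a := by
      refine sup_le ?_ fun v hv => ⟨Subgroup.mem_centralizer_singleton_iff.2 (d.comm hv d.memJ), hVX hv⟩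
      rintro _ ⟨r, hr, rfl⟩
      refine ⟨Subgroup.mem_centralizer_singleton_iff.2 ?_, r.2⟩
      have := congrArg (fun t : R => ((t : X) : G)) (DFunLike.congr_fun hfu ⟨r, hr⟩)
      simp only [f, MulAut.conjNormal_apply, MulAut.one_apply] at this
      exact (mul_inv_eq_iff_eq_mul.1 this).symm
    have h15 : 15 ∣ Nat.card ↥(Subgroup.centralizer ({J} : Set G) ⊓ stabilizer G a) := by
      rw [← hR15, ← Subgroup.card_map_of_injective (K := R) X.subtype_injective]
      exact Subgroup.card_dvd_of_le (le_sup_left.trans hle)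
    rw [d.card_cent.2, hi] at h15
    norm_num at h15
  · haveI := hL
    haveI := hsimp
    haveI := hd.quotient R hRo
    rcases GW.almost_target (hd.quotient R hRo) L hnc hC htg with ⟨-, ⟨e⟩⟩ |
        ⟨F, i1, i2, hodd, hq3, ι, hι, hmap, -⟩
    · exfalso
      have := Subgroup.card_dvd_of_le (le_refl (⊤ : Subgroup (X ⧸ R)))
      rw [Nat.card_congr e.toEquiv, nat_card_alternatingGroup, Nat.card_fin,
        show Nat.factorial 7 / 2 = 2520 by decide +kernel] at hXR
      omega
    have hPinj : Function.Injective (MulAut.conj :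
        Matrix.ProjectiveSpecialLinearGroup (Fin 2) F →* MulAut _) := by
      rw [← MonoidHom.ker_eq_bot_iff]
      refine eq_bot_iff.2 fun x hx => ?_
      rw [MonoidHom.mem_ker] at hx
      rw [← SubThree.center_trivial (F := F) hq3, Subgroup.mem_center_iff]
      intro y
      have := DFunLike.congr_fun hx y
      rw [MulAut.conj_apply, MulAut.one_apply, mul_inv_eq_iff_eq_mul] at this
      exact this.symm
    let e : L ≃* Matrix.ProjectiveSpecialLinearGroup (Fin 2) F :=
      ((L.equivMapOfInjective ι hι).trans (MulEquiv.subgroupCongr hmap)).trans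
        (MonoidHom.ofInjective hPinj).symm
    have hXRd : Nat.card (X ⧸ R) ∣ 180 := ⟨Nat.card R, by rw [← hXR, mul_comm]⟩
    have hLd : Nat.card L ∣ 180 := (Subgroup.card_subgroup_dvd_card L).trans hXRd
    have hP := two_mul_card_psl (F := F) hodd
    rw [← Nat.card_congr e.toEquiv] at hP
    have hq5 : Fintype.card F = 5 := by
      have h360 : Fintype.card F * (Fintype.card F - 1) * (Fintype.card F + 1) ∣ 360 := by
        rw [← hP]; exact mul_dvd_mul_left 2 hLd
      have hlt : Fintype.card F < 9 := by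
        by_contra h
        have h1 : 9 * 8 * 10 ≤ 2 * Nat.card L := hP ▸ Nat.mul_le_mul (Nat.mul_le_mul (by omega)
          (by omega)) (by omega)
        have := Nat.le_of_dvd (by norm_num) hLd
        omega
      obtain ⟨r, hr⟩ := hodd
      have h57 : Fintype.card F = 5 ∨ Fintype.card F = 7 := by omega
      rcases h57 with h | h
      · exact h
      · rw [h] at h360; norm_num at h360
    have hL60 : Nat.card L = 60 := by rw [hq5] at hP; omega
    have hA : Nat.card (X ⧸ R) ∣ 240 := by
      haveI : Fact (Nat.Prime 5) := ⟨by norm_num⟩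
      refine (Subgroup.card_dvd_of_injective ι hι).trans ((card_aut_psl_dvd (p := 5) (f := 1) hodd
        (by rw [hq5]; rfl)).trans ?_)
      rw [← Nat.card_congr e.toEquiv, hL60]
    have hXR60 : Nat.card (X ⧸ R) = 60 := by
      refine Nat.dvd_antisymm ((Nat.dvd_gcd hXRd hA).trans (dvd_of_eq (by decide +kernel))) ?_
      rw [← hL60]
      exact Subgroup.card_subgroup_dvd_card L
    have htop : L = ⊤ := Subgroup.eq_top_of_card_eq L (by rw [hL60, hXR60])
    obtain ⟨e5⟩ := S0253.result (F := F) hq5
    let eQ : X ⧸ R ≃* alternatingGroup (Fin 5) :=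
      ((Subgroup.topEquiv.symm.trans (MulEquiv.subgroupCongr htop.symm)).trans e).trans e5
    have hR3 : Nat.card R = 3 := by rw [hXR60] at hXR; omega
    haveI : Fact (Nat.Prime 3) := ⟨Nat.prime_three⟩
    obtain ⟨r, hr⟩ := exists_prime_orderOf_dvd_card' (G := R) 3 (hR3 ▸ dvd_rfl)
    have hrG : orderOf ((r : X) : G) = 3 := by rw [Subgroup.orderOf_coe, Subgroup.orderOf_coe, hr]
    haveI : IsCyclic R := isCyclic_of_prime_card (p := 3) hR3
    have hRcent : ∀ x : X, x * (r : X) = (r : X) * x := by
      let f : X →* MulAut R := MulAut.conjNormal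
      have hker : ∀ x ∈ R, f x = 1 := fun x hx => by
        ext y
        rw [MulAut.one_apply, MulAut.conjNormal_apply]
        have := (IsCyclic.isMulCommutative (α := R)).is_comm.comm ⟨x, hx⟩ y
        exact congrArg Subtype.val (mul_inv_eq_iff_eq_mul.2 (congrArg Subtype.val this :))
      let g : X ⧸ R →* MulAut R := QuotientGroup.lift R f fun x hx => hker x hx
      intro x
      have hcard : Nat.card (MulAut R) ≤ 2 := by
        rw [Nat.card_congr (IsCyclic.mulAutMulEquiv R).toEquiv, Nat.card_eq_fintype_card,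
          ZMod.card_units_eq_totient, hR3, show Nat.totient 3 = 2 by decide +kernel]
      have h := alt_five_hom_trivial hcard (g.comp eQ.symm.toMonoidHom) (eQ (x : X ⧸ R))
      have hfx : f x = 1 := by
        rw [MonoidHom.comp_apply, MulEquiv.coe_toMonoidHom, MulEquiv.symm_apply_apply] at h
        exact h
      have := congrArg Subtype.val (DFunLike.congr_fun hfx r)
      rw [MulAut.one_apply, MulAut.conjNormal_apply, mul_inv_eq_iff_eq_mul] at this
      exact this
    refine ⟨((r : X) : G), eQ.toMonoidHom.comp (QuotientGroup.mk' R), (r : X).2, hrG,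
      fun x hx => congrArg Subtype.val (hRcent ⟨x, hx⟩), eQ.surjective.comp (QuotientGroup.mk'_surjective R),
      fun x => ?_⟩
    have hgen : ∀ y : X, y ∈ R ↔ (y : G) ∈ Subgroup.zpowers ((r : X) : G) := by
      have hz : Subgroup.zpowers ((r : X) : G) = R.map X.subtype := by
        refine Subgroup.eq_of_le_of_card_ge (Subgroup.zpowers_le.2 ⟨r, r.2, rfl⟩) ?_
        rw [Subgroup.card_map_of_injective X.subtype_injective, Nat.card_zpowers, hrG, hR3]
      intro y
      rw [hz, Subgroup.mem_map]
      exact ⟨fun h => ⟨y, h, rfl⟩, fun ⟨y', h, e⟩ => X.subtype_injective e ▸ h⟩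
    show eQ (QuotientGroup.mk' R x) = 1 ↔ _
    rw [map_eq_one_iff eQ eQ.injective, QuotientGroup.mk'_apply, QuotientGroup.eq_one_iff, hgen]

/-- The normal subgroup of index three. -/
theorem exists_aff (hn : Nat.card Ω = 16) (hi : fx1 Ω J = 4) : ∃ z K, Aff a b V J z K := by
  classical
  haveI := d.faith
  haveI : IsPretransitive G Ω := isPretransitive_of_is_two_pretransitive (h2 := d.two)
  haveI : Fact (Nat.Prime 3) := ⟨Nat.prime_three⟩
  set X := stabilizer G a with hX
  obtain ⟨z, pr5, za, zord, zcomm, hsur, hker⟩ := d.stab_sixteen hn hi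
  have zfix : ∀ p : Ω, z • p = p → p = a := by
    intro p hp
    by_contra hpa
    have h1 : z = 1 := FaithfulSMul.eq_of_smul_eq_smul fun q : Ω => by
      rw [one_smul]
      rcases eq_or_ne q a with rfl | hqa
      · exact za
      · obtain ⟨g, g1, g2⟩ := d.move (Ne.symm hpa) (Ne.symm hqa)
        rw [← g2, ← mul_smul, ← zcomm g g1, mul_smul, hp]
    rw [h1, orderOf_one] at zord
    omega
  have hXc : Nat.card X = 180 := by rw [hX, d.card_stab, hn]
  have hG : Nat.card G = 2880 := by rw [d.card_G, hn]
  obtain ⟨P0, hP0⟩ := (show IsPGroup 3 (Subgroup.zpowers (⟨z, za⟩ : X)) from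
    IsPGroup.of_card (n := 1) (by rw [Nat.card_zpowers, ← Subgroup.orderOf_coe, pow_one]; exact zord)).exists_le_sylow
  set P := (P0 : Subgroup X).map X.subtype with hPdef
  have hP9 : Nat.card P = 3 ^ 2 := by
    rw [hPdef, Subgroup.card_map_of_injective X.subtype_injective, P0.card_eq_multiplicity, hXc,
      show (180 : ℕ) = 3 ^ 2 * 20 by norm_num, Nat.factorization_mul (by norm_num) (by norm_num),
      Finsupp.add_apply, Nat.factorization_pow, Finsupp.smul_apply,
      Nat.Prime.factorization_self Nat.prime_three, Nat.factorization_eq_zero_of_not_dvd (by norm_num)]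
    rfl
  have hPidx : P.index = 320 := by
    have := P.card_mul_index
    rw [hP9, hG] at this
    omega
  let PS : Sylow 3 G := (P0.isPGroup'.map X.subtype).toSylow (by rw [← hPdef, hPidx]; norm_num)
  have hzP : z ∈ P := ⟨⟨z, za⟩, hP0 (Subgroup.mem_zpowers _), rfl⟩
  have hPX : P ≤ X := Subgroup.map_subtype_le _
  haveI hPc : IsMulCommutative P := IsPGroup.isMulCommutative_of_card_eq_prime_sq (p := 3) hP9
  have hPcent : P ≤ Subgroup.centralizer (P : Set G) := Subgroup.le_centralizer P
  have hNX : Subgroup.normalizer (P : Set G) ≤ X := by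
    intro g hg
    have h := (Subgroup.mem_normalizer_iff''.1 hg z).1 hzP
    have h2 : (g⁻¹ * z * g) • a = a := hPX h
    rw [mul_smul, mul_smul, inv_smul_eq_iff] at h2
    exact zfix _ h2
  have key : ∀ (k : ℕ) (g₀ : G), g₀⁻¹ * z ^ k * g₀ ∈ P → g₀⁻¹ * z ^ k * g₀ = z ^ k := by
    intro k g₀ h
    obtain ⟨n, hn', he⟩ := Sylow.conj_eq_normalizer_conj_of_mem PS (_hP := hPc) (z ^ k) g₀
      (P.pow_mem hzP k) h
    rw [he]
    have hc : Commute n z := zcomm n (hNX hn')
    rw [mul_assoc, ← (hc.pow_right k).eq, inv_mul_cancel_left]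
  letI : CommGroup P := { (inferInstance : Group P) with mul_comm := hPc.is_comm.comm }
  let τ : G →* P := MonoidHom.transfer (MonoidHom.id P)
  have hτz : τ z ≠ 1 := by
    intro h
    have h1 := MonoidHom.transfer_eq_pow (MonoidHom.id P) z key
    rw [show MonoidHom.transfer (MonoidHom.id P) z = τ z from rfl, h] at h1
    have h2 : z ^ P.index = 1 := (congrArg Subtype.val h1.symm :)
    rw [hPidx, ← pow_mod_orderOf, zord] at h2
    have h3 : orderOf z ∣ 2 := orderOf_dvd_of_pow_eq_one h2
    rw [zord] at h3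
    norm_num at h3
  set K := τ.ker with hKdef
  have hKidx : K.index ∣ 9 := by
    rw [hKdef, Subgroup.index_ker, show (9 : ℕ) = 3 ^ 2 by norm_num, ← hP9]
    exact Subgroup.card_subgroup_dvd_card _
  have hzK : z ∉ K := fun h => hτz h
  have hK1 : K ≠ ⊥ := fun e => by
    rw [e, Subgroup.index_bot, hG] at hKidx
    norm_num at hKidx
  haveI := PermNormal.transitive_of_normal (MulAction.isPreprimitive_of_is_two_pretransitive d.two) K hK1
  set L := K ⊓ X with hLdef
  have hcardL : Nat.card L = Nat.card (stabilizer K a) :=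
    Nat.card_congr
      { toFun := fun g => ⟨⟨g.1, g.2.1⟩, g.2.2⟩
        invFun := fun g => ⟨g.1.1, g.1.2, g.2⟩
        left_inv := fun _ => rfl
        right_inv := fun _ => rfl }
  have hKL : Nat.card K = 16 * Nat.card L := by
    rw [hcardL, ← hn, PermNormal.card_stabilizer_mul]
  let σ : L →* alternatingGroup (Fin 5) := pr5.comp (Subgroup.inclusion inf_le_right)
  have hσ : Function.Injective σ := by
    refine (injective_iff_map_eq_one σ).2 fun l hl => ?_
    have h1 := (hker _).1 hl
    have h2 : (l : G) ∈ K := l.2.1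
    obtain ⟨k, hk⟩ := h1
    change z ^ k = (l : G) at hk
    by_contra hne
    refine hzK ?_
    have h3 : z ^ (k % 3) = (l : G) := by
      rw [← hk]
      conv_rhs => rw [← zpow_mod_orderOf, zord]
      rfl
    have hk3 : k % 3 = 0 ∨ k % 3 = 1 ∨ k % 3 = 2 := by omega
    rcases hk3 with e | e | e <;> rw [e] at h3
    · exact absurd (Subtype.ext (h3.symm.trans (zpow_zero z)) : l = 1) hne
    · rw [zpow_one] at h3; exact h3 ▸ h2
    · have hz2 : z = (l : G) * (l : G) := by
        rw [← h3, ← zpow_add]
        conv_rhs => rw [← zpow_mod_orderOf, zord]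
        exact (zpow_one z).symm
      rw [hz2]; exact mul_mem h2 h2
  haveI hσn : σ.range.Normal := by
    refine ⟨fun q hq g => ?_⟩
    obtain ⟨l, rfl⟩ := hq
    obtain ⟨x, rfl⟩ := hsur g
    refine ⟨⟨(x : G) * l * (x : G)⁻¹, (MonoidHom.normal_ker τ).conj_mem _ l.2.1 x,
      X.mul_mem (X.mul_mem x.2 l.2.2) (X.inv_mem x.2)⟩, ?_⟩
    show pr5 _ = pr5 x * pr5 (Subgroup.inclusion inf_le_right l) * (pr5 x)⁻¹
    rw [← map_inv, ← map_mul, ← map_mul]
    rfl
  haveI := alternatingGroup.isSimpleGroup (α := Fin 5) (by simp)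
  have hcard60 : Nat.card (alternatingGroup (Fin 5)) = 60 := by
    rw [nat_card_alternatingGroup, Nat.card_fin]; decide +kernel
  have hKmul := K.card_mul_index
  rw [hKL, hG] at hKmul
  have hL' : Nat.card L = Nat.card σ.range := Nat.card_congr (MonoidHom.ofInjective hσ).toEquiv
  rcases hσn.eq_bot_or_eq_top with hb | ht
  · exfalso
    rw [hb, Subgroup.card_bot] at hL'
    rw [hL', mul_one] at hKmul
    rw [show K.index = 180 by omega] at hKidx
    norm_num at hKidx
  · refine ⟨z, K, za, zord, zfix, zcomm, MonoidHom.normal_ker τ, ?_, ⟨?_⟩⟩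
    · rw [hKL, hL', ht, Subgroup.card_top, hcard60]
    · exact (MonoidHom.ofInjective hσ).trans ((MulEquiv.subgroupCongr ht).trans Subgroup.topEquiv)

end Data

end Cfsg.Agent.TwoPtAlt
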