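import Cfsg.Agent.Lib.TwoPtAlt.Basic
import Cfsg.Agent.Lib.Perm.NormalSub
import Mathlib.GroupTheory.Transfer
import Mathlib.GroupTheory.SpecificGroups.Alternating

/-!
# Degree 28 is impossible

An element of order three with two fixed points is normalised by no involution of the point
stabiliser; so a Sylow 7-subgroup is self-normalising and has a normal complement.
-/

set_option autoImplicit false
set_option linter.unusedSectionVars false
set_option linter.style.haveILetI false

namespace Cfsg.Agent.TwoPtAlt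

open MulAction Cfsg.Agent.Zass

universe u v

set_option synthInstance.maxSize 2000 in
set_option synthInstance.maxHeartbeats 200000 in
/-- In `A₄` no involution normalises a subgroup of order three. -/
theorem alt_four_no_flip : ∀ y s : Equiv.Perm (Fin 4), Equiv.Perm.sign y = 1 → Equiv.Perm.sign s = 1 →
    y * y * y = 1 → y ≠ 1 → s * s = 1 → s * y * s = y ∨ s * y * s = y * y → s = 1 := by
  decide +kernel

variable {G : Type u} [Group G] [Finite G] {Ω : Type v} [MulAction G Ω] [Fintype Ω]
variable {a b : Ω} {V : Subgroup G} {J : G}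

namespace Data

variable (d : Data a b V J 3)
include d

theorem two_card_twelve : Nat.card (Zass.two (G := G) a b) = 12 := d.card_two_eq

theorem H_le_normV : Zass.two (G := G) a b ≤ Subgroup.normalizer (V : Set G) := by
  have h := Subgroup.eq_of_le_of_card_ge
    (inf_le_left : Zass.two (G := G) a b ⊓ Subgroup.normalizer (V : Set G) ≤ Zass.two a b)
    (by rw [d.normV, d.two_card_twelve])
  exact fun x hx => (h.ge hx).2

/-- The stabiliser of a point maps onto `A₄`, with kernel of order 27. -/
theorem exists_alt_four_hom (hn : Nat.card Ω = 28) :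
    ∃ φ : stabilizer G a →* Equiv.Perm (Fin 4), (∀ x, Equiv.Perm.sign (φ x) = 1) ∧
      (∀ x, φ x = 1 → Odd (orderOf (x : G))) ∧
      ∀ x : stabilizer G a, (x : G) ∈ Zass.two (G := G) a b → φ x = 1 → x = 1 := by
  classical
  haveI : Fact (Nat.Prime 3) := ⟨Nat.prime_three⟩
  set X := stabilizer G a with hX
  have hXc : Nat.card X = 324 := by rw [hX, d.card_stab, hn]
  obtain ⟨Q⟩ : Nonempty (Sylow 3 X) := inferInstance
  have hQ : Nat.card (Q : Subgroup X) = 81 := by
    rw [Q.card_eq_multiplicity, hXc, show (324 : ℕ) = 3 ^ 4 * 4 by norm_num,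
      Nat.factorization_mul (by norm_num) (by norm_num), Finsupp.add_apply, Nat.factorization_pow,
      Finsupp.smul_apply, Nat.Prime.factorization_self Nat.prime_three,
      Nat.factorization_eq_zero_of_not_dvd (by norm_num)]
    rfl
  have hidx : (Q : Subgroup X).index = 4 := by
    have := (Q : Subgroup X).card_mul_index
    rw [hQ, hXc] at this
    omega
  haveI : Finite (X ⧸ (Q : Subgroup X)) := inferInstance
  obtain ⟨φ, hker⟩ : ∃ φ : X →* Equiv.Perm (Fin 4), φ.ker = (Q : Subgroup X).normalCore := by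
    let e : X ⧸ (Q : Subgroup X) ≃ Fin 4 :=
      Finite.equivFinOfCardEq (by rw [← Subgroup.index_eq_card, hidx])
    refine ⟨e.permCongrHom.toMonoidHom.comp (MulAction.toPermHom X (X ⧸ (Q : Subgroup X))), ?_⟩
    rw [Subgroup.normalCore_eq_ker]
    ext x
    simp only [MonoidHom.mem_ker, MonoidHom.comp_apply]
    exact ⟨fun h => e.permCongrHom.injective (h.trans (map_one _).symm), fun h => by rw [h, map_one]⟩
  have hkodd : ∀ x ∈ φ.ker, Odd (orderOf (x : G)) := fun x hx => by
    rw [Subgroup.orderOf_coe]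
    rw [hker] at hx
    exact (show Odd 81 by decide).of_dvd_nat
      (hQ ▸ Subgroup.orderOf_dvd_natCard _ ((Q : Subgroup X).normalCore_le hx))
  -- the image of `V` has order four
  have hVX : V ≤ X := fun v hv => d.a_fixed v hv
  have hVH : ∀ x : X, (x : G) ∈ Zass.two (G := G) a b → φ x = 1 → (x : G) ∈ V → x = 1 := by
    intro x _ hx hv
    by_contra h1
    have h2 : orderOf (x : G) = 2 := d.order hv fun e1 => h1 (Subtype.ext e1)
    have := hkodd x hx
    rw [h2] at this
    exact absurd this (by decide)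
  have hfin : ∀ x : X, (x : G) ∈ Zass.two (G := G) a b → φ x = 1 → x = 1 := by
    intro x hxH hx
    by_contra h1
    -- conjugation by `x` fixes `V` modulo the kernel
    have hxV : ∀ v ∈ V, (x : G) * v * (x : G)⁻¹ = v := by
      intro v hv
      have hc : (x : G) * v * (x : G)⁻¹ * v⁻¹ ∈ V :=
        mul_mem ((Subgroup.mem_normalizer_iff.1 (d.H_le_normV hxH) v).1 hv) (inv_mem hv)
      have hk : φ (x * ⟨v, hVX hv⟩ * x⁻¹ * ⟨v, hVX hv⟩⁻¹) = 1 := by
        simp [map_mul, hx]
      have := hVH (x * ⟨v, hVX hv⟩ * x⁻¹ * ⟨v, hVX hv⟩⁻¹) (d.le (by simpa using hc)) hk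
        (by simpa using hc)
      have h2 : (x : G) * v * (x : G)⁻¹ * v⁻¹ = 1 := by simpa using congrArg Subtype.val this
      exact mul_inv_eq_one.1 h2
    exact h1 (hVH x hxH hx (d.cent _ hxH (mul_inv_eq_iff_eq_mul.1 (hxV J d.memJ))))
  -- the image is `A₄`
  have hHX : Zass.two (G := G) a b ≤ X := fun h hh => (mem_two.1 hh).1
  have h12 : 12 ∣ Nat.card φ.range := by
    let ψ : Zass.two (G := G) a b →* φ.range := φ.rangeRestrict.comp (Subgroup.inclusion hHX)
    have hψ : Function.Injective ψ := by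
      refine (injective_iff_map_eq_one ψ).2 fun h hh => Subtype.ext ?_
      exact (congrArg Subtype.val (hfin (Subgroup.inclusion hHX h) h.2 (congrArg Subtype.val hh)) :)
    have := Subgroup.card_dvd_of_injective ψ hψ
    rwa [d.two_card_twelve] at this
  have hne : φ.range ≠ ⊤ := by
    intro h
    have h24 : Nat.card φ.range = 24 := by
      rw [h, Subgroup.card_top, Nat.card_perm, Nat.card_fin]; rfl
    have hd : Nat.card φ.range ∣ 324 := hXc ▸ Subgroup.card_range_dvd φ
    rw [h24] at hd
    norm_num at hd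
  have hrange : φ.range = alternatingGroup (Fin 4) := by
    refine Equiv.Perm.eq_alternatingGroup_of_index_eq_two ?_
    have h := φ.range.card_mul_index
    rw [Nat.card_perm, Nat.card_fin, show Nat.factorial 4 = 24 from rfl] at h
    obtain ⟨c, hc⟩ := h12
    have h1 : φ.range.index ≠ 1 := fun e1 => hne (Subgroup.index_eq_one.1 e1)
    rw [hc] at h
    have h24 : c * φ.range.index = 2 := by
      refine Nat.eq_of_mul_eq_mul_left (show 0 < 12 by norm_num) ?_
      rw [← mul_assoc]; omega
    rcases (Nat.dvd_prime Nat.prime_two).1 (Dvd.intro_left _ h24) with e1 | e1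
    · exact absurd e1 h1
    · exact e1
  refine ⟨φ, fun x => Equiv.Perm.mem_alternatingGroup.1 (hrange ▸ ⟨x, rfl⟩), fun x hx => hkodd x hx, hfin⟩

/-- No involution fixing `a` normalises the subgroup generated by an element of order three that fixes
`a` and another point. -/
theorem no_flip (hn : Nat.card Ω = 28) {y s : G} (hy : y ∈ Zass.two (G := G) a b)
    (hy3 : orderOf y = 3) (hs : s * s = 1) (hs1 : s ≠ 1) (hsa : s • a = a)
    (hnorm : s * y * s = y ∨ s * y * s = y * y) : False := by
  obtain ⟨φ, hsgn, hodd, hinj⟩ := d.exists_alt_four_hom hn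
  let yX : stabilizer G a := ⟨y, (mem_two.1 hy).1⟩
  let sX : stabilizer G a := ⟨s, hsa⟩
  have hy3' : yX * yX * yX = 1 := Subtype.ext (by
    show y * y * y = 1
    rw [show y * y * y = y ^ 3 by simp [pow_succ], ← hy3, pow_orderOf_eq_one])
  have hy1 : φ yX ≠ 1 := fun h => by
    have h1 : y = 1 := congrArg Subtype.val (hinj yX hy h)
    rw [h1, orderOf_one] at hy3
    omega
  have h2 := alt_four_no_flip (φ yX) (φ sX) (hsgn _) (hsgn _) (by rw [← map_mul, ← map_mul, hy3', map_one])
    hy1 (by rw [← map_mul, show sX * sX = 1 from Subtype.ext hs, map_one]) (by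
      rcases hnorm with h | h
      · left
        rw [← map_mul, ← map_mul, show sX * yX * sX = yX from Subtype.ext h]
      · right
        rw [← map_mul, ← map_mul, show sX * yX * sX = yX * yX from Subtype.ext h, map_mul])
  have h3 := hodd sX h2
  rw [orderOf_eq_prime (p := 2) (by rw [pow_two]; exact hs) hs1] at h3
  exact absurd h3 (by decide)

/-- The number of fixed points of an element of order three with two fixed points is even. -/
theorem even_fix (hn : Nat.card Ω = 28) {y : G} (hy : y ∈ Zass.two (G := G) a b) (hy3 : orderOf y = 3) :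
    Even (fx1 Ω y) := by
  classical
  haveI : Fact (Nat.Prime 3) := ⟨Nat.prime_three⟩
  set K := Subgroup.normalizer ((Subgroup.zpowers y : Subgroup G) : Set G) with hK
  have hflip : ∀ s ∈ K, s * s = 1 → s • a = a → s = 1 := by
    intro s hs hss hsa
    by_contra hs1
    have hm : s * y * s⁻¹ ∈ Subgroup.zpowers y :=
      (Subgroup.mem_normalizer_iff.1 hs y).1 (Subgroup.mem_zpowers y)
    rw [inv_eq_of_mul_eq_one_right hss] at hm
    obtain ⟨k, hk⟩ := (mem_powers_iff_mem_zpowers (x := y)).2 hm
    dsimp only at hk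
    rw [← pow_mod_orderOf, hy3] at hk
    have h3 : k % 3 = 0 ∨ k % 3 = 1 ∨ k % 3 = 2 := by omega
    rcases h3 with e | e | e <;> rw [e] at hk
    · refine absurd hy3 ?_
      have : y = 1 := by
        calc y = s * (s * y * s) * s := by
              simp only [← mul_assoc, hss, one_mul]; rw [mul_assoc, hss, mul_one]
          _ = 1 := by rw [← hk, pow_zero, mul_one, hss]
      rw [this, orderOf_one]; norm_num
    · exact d.no_flip hn hy hy3 hss hs1 hsa (Or.inl (by rw [← hk, pow_one]))
    · exact d.no_flip hn hy hy3 hss hs1 hsa (Or.inr (by rw [← hk, pow_two]))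
  have hfixy : ∀ {p : Ω}, y • p = p → ∀ x ∈ Subgroup.zpowers y, x • p = p := by
    intro p hp x hx
    exact (Subgroup.zpowers_le.2 (show y ∈ stabilizer G p from hp)) hx
  have hinv : ∀ g ∈ K, ∀ p ∈ {p : Ω | y • p = p}, g • p ∈ {p : Ω | y • p = p} := by
    intro g hg p hp
    have h1 : g⁻¹ * y * g ∈ Subgroup.zpowers y :=
      (Subgroup.mem_normalizer_iff''.1 hg y).1 (Subgroup.mem_zpowers y)
    have h2 := hfixy hp _ h1
    rw [mul_smul, mul_smul, inv_smul_eq_iff] at h2
    exact h2
  have htr : ∀ c ∈ {p : Ω | y • p = p}, ∀ c' ∈ {p : Ω | y • p = p}, c ≠ c' →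
      ∃ g ∈ K, g • a = c ∧ g • b = c' := by
    intro c hc c' hc' hne
    obtain ⟨g, g1, g2⟩ := d.move d.ne hne
    have hm : g⁻¹ * y * g ∈ Zass.two (G := G) a b := mem_two.mpr
      ⟨by rw [mul_smul, mul_smul, g1, hc, inv_smul_eq_iff, g1],
        by rw [mul_smul, mul_smul, g2, hc', inv_smul_eq_iff, g2]⟩
    set H := Zass.two (G := G) a b with hH
    have hsy : ∀ z : G, z ∈ H → orderOf z = 3 → ∃ S : Sylow 3 H, (S : Subgroup H).map H.subtype = Subgroup.zpowers z := by
      intro z hz hz3
      obtain ⟨S, hS⟩ := (IsPGroup.of_card (p := 3) (n := 1)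
        (show Nat.card (Subgroup.zpowers (⟨z, hz⟩ : H)) = 3 ^ 1 by
          rw [Nat.card_zpowers, ← Subgroup.orderOf_coe, hz3, pow_one])).exists_le_sylow
      refine ⟨S, ?_⟩
      have hcS : Nat.card S = 3 := by
        rw [S.card_eq_multiplicity, d.two_card_twelve, show (12 : ℕ) = 3 * 4 by norm_num,
          Nat.factorization_mul (by norm_num) (by norm_num), Finsupp.add_apply,
          Nat.Prime.factorization_self Nat.prime_three, Nat.factorization_eq_zero_of_not_dvd (by norm_num)]
        rfl
      rw [← Subgroup.eq_of_le_of_card_ge hS (by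
        rw [hcS, Nat.card_zpowers, ← Subgroup.orderOf_coe, hz3]), MonoidHom.map_zpowers]
      rfl
    obtain ⟨S1, e1⟩ := hsy y hy hy3
    obtain ⟨S2, e2⟩ := hsy _ hm (by
      rw [show g⁻¹ * y * g = MulAut.conj g⁻¹ y by simp, MulEquiv.orderOf_eq, hy3])
    obtain ⟨h, hh⟩ := MulAction.exists_smul_eq H S1 S2
    refine ⟨g * (h : G), ?_, by rw [mul_smul, (mem_two.1 h.2).1, g1], by rw [mul_smul, (mem_two.1 h.2).2, g2]⟩
    have h1 : (h : G) * y * (h : G)⁻¹ ∈ Subgroup.zpowers (g⁻¹ * y * g) := by
      have hyS : (⟨y, hy⟩ : H) ∈ (S1 : Subgroup H) := by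
        have : y ∈ (S1 : Subgroup H).map H.subtype := e1 ▸ Subgroup.mem_zpowers y
        obtain ⟨z, hz, rfl⟩ := this
        exact hz
      rw [← e2, ← hh]
      exact ⟨h * ⟨y, hy⟩ * h⁻¹, Subgroup.mem_map.2 ⟨_, hyS, rfl⟩, rfl⟩
    refine Subgroup.mem_normalizer_fintype fun x hx => ?_
    obtain ⟨k, rfl⟩ := hx
    obtain ⟨l, hl⟩ := h1
    dsimp only at hl
    refine ⟨l * k, ?_⟩
    dsimp only
    calc y ^ (l * k) = g * ((g⁻¹ * y * g) ^ l) ^ k * g⁻¹ := by
          rw [← zpow_mul, show g⁻¹ * y * g = MulAut.conj g⁻¹ y by simp, ← map_zpow, MulAut.conj_apply]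
          group
      _ = g * (h : G) * y ^ k * (g * (h : G))⁻¹ := by
          rw [hl, conj_zpow]; group
  obtain ⟨-, hcard⟩ := card_two_trans K {p : Ω | y • p = p} (a := a) (b := b)
    (mem_two.1 hy).1 (mem_two.1 hy).2 d.ne hinv htr
  have hodd : Odd (Nat.card ↥(K ⊓ stabilizer G a)) := by
    refine Nat.odd_iff.2 (Nat.two_dvd_ne_zero.1 fun h => ?_)
    haveI : Fact (Nat.Prime 2) := ⟨Nat.prime_two⟩
    obtain ⟨s, hs⟩ := exists_prime_orderOf_dvd_card' 2 h
    have hss : (s : G) * s = 1 := by
      rw [← pow_two, ← hs, ← Subgroup.orderOf_coe, pow_orderOf_eq_one]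
    have h1 := hflip s s.2.1 hss s.2.2
    rw [← Subgroup.orderOf_coe, h1, orderOf_one] at hs
    omega
  rw [hcard] at hodd
  have h1 : 1 ≤ fx1 Ω y := (Set.ncard_pos (Set.toFinite _)).2 ⟨a, (mem_two.1 hy).1⟩
  have h2 := (Nat.odd_mul.1 hodd).1
  obtain ⟨r, hr⟩ := h2
  exact ⟨r + 1, by rw [fx1]; rw [fx1] at h1; omega⟩

/-- Degree 28 is impossible. -/
theorem end_twenty_eight (hn : Nat.card Ω = 28) (hinv : ∀ s : G, orderOf s = 2 → fx1 Ω s = 4) : False := by
  classical
  haveI : Fact (Nat.Prime 7) := ⟨by norm_num⟩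
  haveI := d.faith
  haveI : IsPretransitive G Ω := isPretransitive_of_is_two_pretransitive (h2 := d.two)
  have hG : Nat.card G = 9072 := by rw [d.card_G, hn]
  obtain ⟨P⟩ : Nonempty (Sylow 7 G) := inferInstance
  have hP : Nat.card P = 7 := by
    rw [P.card_eq_multiplicity, hG, show (9072 : ℕ) = 7 * 1296 by norm_num,
      Nat.factorization_mul (by norm_num) (by norm_num), Finsupp.add_apply,
      Nat.Prime.factorization_self (by norm_num), Nat.factorization_eq_zero_of_not_dvd (by norm_num)]
    rfl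
  obtain ⟨x, hx⟩ := exists_prime_orderOf_dvd_card' (G := (P : Subgroup G)) 7 (by rw [hP])
  have hxG : orderOf (x : G) = 7 := by rw [Subgroup.orderOf_coe, hx]
  have hGa : Nat.card (stabilizer G a) = 324 := by rw [d.card_stab, hn]
  have hsemi : ∀ p : Ω, (x : G) • p ≠ p := by
    intro p hp
    obtain ⟨g, hg⟩ := exists_smul_eq G p a
    have h1 : g * x * g⁻¹ ∈ stabilizer G a := by
      rw [mem_stabilizer_iff, ← hg, mul_smul, mul_smul, inv_smul_smul, hp]
    have h2 := Subgroup.orderOf_dvd_natCard _ h1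
    rw [← MulAut.conj_apply, MulEquiv.orderOf_eq, hxG, hGa] at h2
    norm_num at h2
  have hseven : ∀ z : G, z * x = x * z → 7 ∣ fx1 Ω z := by
    intro z hz
    have hinv' : ∀ p : Ω, z • p = p → z • ((x : G) • p) = (x : G) • p := fun p hp => by
      rw [← mul_smul, hz, mul_smul, hp]
    let S := {p : Ω // z • p = p}
    letI : MulAction (Subgroup.zpowers (x : G)) S :=
      { smul := fun k p => ⟨(k : G) • p.1, by
          have hk : (k : G) ∈ Subgroup.centralizer ({z} : Set G) :=
            Subgroup.zpowers_le.2 (Subgroup.mem_centralizer_singleton_iff.2 hz.symm) k.2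
          rw [← mul_smul, ← Subgroup.mem_centralizer_singleton_iff.1 hk, mul_smul, p.2]⟩
        one_smul := fun p => Subtype.ext (one_smul G p.1)
        mul_smul := fun k l p => Subtype.ext (mul_smul (k : G) (l : G) p.1) }
    have hPx : IsPGroup 7 (Subgroup.zpowers (x : G)) :=
      IsPGroup.of_card (n := 1) (by rw [Nat.card_zpowers, hxG, pow_one])
    have h := hPx.card_modEq_card_fixedPoints S
    haveI : IsEmpty (fixedPoints (Subgroup.zpowers (x : G)) S) :=
      ⟨fun p => hsemi p.1.1 (congrArg Subtype.val (p.2 ⟨x, Subgroup.mem_zpowers _⟩))⟩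
    rw [Nat.card_of_isEmpty (α := fixedPoints _ S)] at h
    rw [show Nat.card S = fx1 Ω z from Nat.card_coe_set_eq {p : Ω | z • p = p}] at h
    exact Nat.modEq_zero_iff_dvd.1 h
  -- the centraliser of `P` is `P`
  set C := Subgroup.centralizer ((P : Subgroup G) : Set G) with hC
  haveI : IsCyclic (P : Subgroup G) := isCyclic_of_prime_card (p := 7) hP
  haveI : IsMulCommutative (P : Subgroup G) := ⟨⟨IsCyclic.isMulCommutative.is_comm.comm⟩⟩
  have hPC : (P : Subgroup G) ≤ C := Subgroup.le_centralizer _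
  have hprime : ∀ p : ℕ, p.Prime → p ∣ Nat.card C → p = 7 := by
    intro p hp hpC
    by_contra hp7
    haveI := Fact.mk hp
    obtain ⟨z, hz⟩ := exists_prime_orderOf_dvd_card' p hpC
    have hzG : orderOf (z : G) = p := by rw [Subgroup.orderOf_coe, hz]
    have hzx : (z : G) * x = x * z := (Subgroup.mem_centralizer_iff.1 z.2 x x.2).symm
    have hpd : p ∣ 9072 := hG ▸ hpC.trans (Subgroup.card_subgroup_dvd_card C)
    have h7 := hseven z hzx
    have hp23 : p = 2 ∨ p = 3 := by
      rw [show (9072 : ℕ) = 2 ^ 4 * (3 ^ 4 * 7) by norm_num] at hpd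
      rcases hp.dvd_mul.1 hpd with h | h
      · exact Or.inl ((Nat.prime_dvd_prime_iff_eq hp Nat.prime_two).1 (hp.dvd_of_dvd_pow h))
      · rcases hp.dvd_mul.1 h with h | h
        · exact Or.inr ((Nat.prime_dvd_prime_iff_eq hp Nat.prime_three).1 (hp.dvd_of_dvd_pow h))
        · exact absurd ((Nat.prime_dvd_prime_iff_eq hp (by norm_num)).1 h) hp7
    rcases hp23 with rfl | rfl
    · rw [hinv z hzG] at h7
      norm_num at h7
    · haveI : Fact (Nat.Prime 3) := ⟨Nat.prime_three⟩
      have hmod : fx1 Ω (z : G) % 3 = 1 := by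
        have hPz : IsPGroup 3 (Subgroup.zpowers (z : G)) :=
          IsPGroup.of_card (n := 1) (by rw [Nat.card_zpowers, hzG, pow_one])
        have h := hPz.card_modEq_card_fixedPoints Ω
        have e : Nat.card (fixedPoints (Subgroup.zpowers (z : G)) Ω) = fx1 Ω (z : G) := by
          rw [fx1, ← Nat.card_coe_set_eq]
          refine Nat.card_congr (Equiv.setCongr (Set.ext fun p => ⟨fun hp => hp ⟨z, Subgroup.mem_zpowers _⟩,
            fun hp k => Subgroup.zpowers_le.2 (show (z : G) ∈ stabilizer G p from hp) k.2⟩))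
        rw [hn, e] at h
        exact h.symm
      have hle : fx1 Ω (z : G) < 28 := by
        rw [← hn, ← Set.ncard_univ]
        refine Set.ncard_lt_ncard ((Set.ssubset_univ_iff).mpr fun h => ?_) (Set.toFinite _)
        have h1 : (z : G) = 1 := FaithfulSMul.eq_of_smul_eq_smul fun p : Ω => by
          rw [one_smul]; exact Set.eq_univ_iff_forall.mp h p
        rw [h1, orderOf_one] at hzG
        omega
      have h7' : fx1 Ω (z : G) = 7 := by
        obtain ⟨c, hc⟩ := h7
        omega
      obtain ⟨p, p', hne, hp0, hp1⟩ : ∃ p p' : Ω, p ≠ p' ∧ (z : G) • p = p ∧ (z : G) • p' = p' := by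
        obtain ⟨p, hp, p', hp', hne⟩ := (Set.one_lt_ncard (Set.toFinite _)).1
          (show 1 < Set.ncard {p : Ω | (z : G) • p = p} by rw [← fx1, h7']; norm_num)
        exact ⟨p, p', hne, hp, hp'⟩
      obtain ⟨g, g1, g2⟩ := d.move d.ne hne
      have hy : g⁻¹ * z * g ∈ Zass.two (G := G) a b := mem_two.mpr
        ⟨by rw [mul_smul, mul_smul, g1, hp0, inv_smul_eq_iff, g1],
          by rw [mul_smul, mul_smul, g2, hp1, inv_smul_eq_iff, g2]⟩
      have hev := d.even_fix hn hy (by
        rw [show g⁻¹ * (z : G) * g = MulAut.conj g⁻¹ (z : G) by simp, MulEquiv.orderOf_eq, hzG])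
      have e : fx1 Ω (g⁻¹ * z * g) = fx1 Ω (z : G) := by
        rw [fx1, fx1, ← Set.ncard_image_of_injective {p : Ω | (g⁻¹ * z * g) • p = p} (MulAction.injective g)]
        congr 1
        ext p
        constructor
        · rintro ⟨q, hq, rfl⟩
          show (z : G) • (g • q) = g • q
          have hq' : (g⁻¹ * z * g) • q = q := hq
          rwa [mul_smul, mul_smul, inv_smul_eq_iff] at hq'
        · intro hp
          refine ⟨g⁻¹ • p, ?_, smul_inv_smul g p⟩
          show (g⁻¹ * z * g) • (g⁻¹ • p) = g⁻¹ • p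
          rw [mul_smul, smul_inv_smul, mul_smul, hp]
      rw [e, h7'] at hev
      exact absurd hev (by decide)
  have hC7 : Nat.card C = 7 := by
    obtain ⟨c, hc⟩ : 7 ∣ Nat.card C := hP ▸ Subgroup.card_dvd_of_le hPC
    rcases eq_or_ne c 1 with rfl | hc1
    · rw [hc, mul_one]
    · exfalso
      obtain ⟨p, hp, hpc⟩ := Nat.exists_prime_and_dvd hc1
      have hp7 := hprime p hp (hc ▸ hpc.mul_left 7)
      subst hp7
      have h49 : 7 * 7 ∣ 9072 := hG ▸ (hc ▸ mul_dvd_mul_left 7 hpc).trans (Subgroup.card_subgroup_dvd_card C)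
      norm_num at h49
  -- the normaliser of `P` is `P`
  set N := Subgroup.normalizer ((P : Subgroup G) : Set G) with hN
  have hNC : C.relIndex N ∣ 6 := by
    rw [Subgroup.relIndex, ← Subgroup.normalizerMonoidHom_ker, Subgroup.index_ker]
    refine (Subgroup.card_subgroup_dvd_card _).trans (dvd_of_eq ?_)
    rw [Nat.card_congr (IsCyclic.mulAutMulEquiv (P : Subgroup G)).toEquiv, Nat.card_eq_fintype_card,
      ZMod.card_units_eq_totient, hP]
    decide +kernel
  have hCN : C ≤ N := Subgroup.centralizer_le_normalizer _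
  have hNcard : Nat.card N = 7 * C.relIndex N := by
    have := Subgroup.card_mul_index (C.subgroupOf N)
    rw [Nat.card_congr (Subgroup.subgroupOfEquivOfLe hCN).toEquiv, hC7] at this
    exact this.symm
  have hmod : N.index % 7 = 1 := by
    rw [hN, show (Subgroup.normalizer ((P : Subgroup G) : Set G)).index = Nat.card (Sylow 7 G) from
      P.card_eq_index_normalizer.symm]
    exact card_sylow_modEq_one 7 G
  have hmul := N.card_mul_index
  rw [hNcard, hG] at hmul
  have ht : C.relIndex N = 1 := by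
    have h6 := Nat.le_of_dvd (by norm_num) hNC
    interval_cases h : C.relIndex N <;> omega
  have hcent : N ≤ Subgroup.centralizer ((P : Subgroup G) : Set G) := Subgroup.relIndex_eq_one.1 ht
  have hcpl := MonoidHom.ker_transferSylow_isComplement' P hcent
  set R := (MonoidHom.transferSylow P hcent).ker
  have hR : Nat.card R = 1296 := by
    have h := hcpl.card_mul_card
    rw [hP, hG] at h
    omega
  haveI := PermNormal.transitive_of_normal (MulAction.isPreprimitive_of_is_two_pretransitive d.two) R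
    (fun e => by rw [e, Subgroup.card_bot] at hR; omega)
  have h := PermNormal.card_stabilizer_mul (G := R) a
  rw [hn, hR] at h
  omega

end Data

end Cfsg.Agent.TwoPtAlt
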