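import Cfsg.Agent.Lib.TwoPtAlt.KleinAct
import Cfsg.Agent.Lib.TwoPtAlt.Quot
import Cfsg.Agent.Lib.GW.Main

/-!
# Involution numbers in groups with dihedral Sylow 2-subgroups

`dih_numbers`: for a four-group `V` with three conjugate involutions, the index of `C(J)` and the
number of conjugates of `V` under `C(J)`, in terms of `q` and of `w = |C_O(J) : C_O(V)|`.
-/

set_option autoImplicit false
set_option linter.unusedSectionVars false
set_option linter.style.haveILetI false

namespace Cfsg.Agent.TwoPtAlt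

open scoped Classical

universe u

variable {X : Type u} [Group X] [Finite X]

theorem card_inf_mul_map (O A : Subgroup X) [O.Normal] :
    Nat.card ↥(O ⊓ A) * Nat.card ↥(A.map (QuotientGroup.mk' O)) = Nat.card A :=
  Char.Wielandt.card_inf_mul_card_map O A

/-- The centraliser of an involution maps onto the centraliser of its image. -/
theorem map_centralizer (O : Subgroup X) [O.Normal] (hO : Odd (Nat.card O)) {J : X} (hJ : J * J = 1) :
    (Subgroup.centralizer ({J} : Set X)).map (QuotientGroup.mk' O) =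
      Subgroup.centralizer ({(J : X ⧸ O)} : Set (X ⧸ O)) := by
  ext y
  constructor
  · rintro ⟨x, hx, rfl⟩
    rw [Subgroup.mem_centralizer_singleton_iff, QuotientGroup.mk'_apply, ← QuotientGroup.mk_mul,
      ← QuotientGroup.mk_mul, Subgroup.mem_centralizer_singleton_iff.1 hx]
  · intro hy
    obtain ⟨c, rfl⟩ := QuotientGroup.mk'_surjective O y
    rw [Subgroup.mem_centralizer_singleton_iff, QuotientGroup.mk'_apply] at hy
    obtain ⟨k, hk, e⟩ := GW.exists_cent_lift hO hJ hy.symm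
    refine ⟨c * k, Subgroup.mem_centralizer_singleton_iff.2 e.symm, ?_⟩
    simp [QuotientGroup.mk'_apply, (QuotientGroup.eq_one_iff k).2 hk]

/-- Frattini: `C(J) ∩ N(V)` maps onto the corresponding subgroup of the quotient. -/
theorem map_centralizer_normalizer (O : Subgroup X) [O.Normal] (hO : Odd (Nat.card O))
    (V : Subgroup X) (hV : IsKleinFour V) {J : X} (hJV : J ∈ V) (hJ1 : J ≠ 1) :
    (Subgroup.centralizer ({J} : Set X) ⊓ Subgroup.normalizer (V : Set X)).map
        (QuotientGroup.mk' O) =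
      Subgroup.centralizer ({(J : X ⧸ O)} : Set (X ⧸ O)) ⊓
        Subgroup.normalizer (((V.map (QuotientGroup.mk' O) : Subgroup (X ⧸ O))) : Set (X ⧸ O)) := by
  have hJJ := FourGroup.mul_self_of_mem hV hJV
  refine le_antisymm ((Subgroup.map_inf_le _ _ _).trans
    (inf_le_inf (map_centralizer O hO hJJ).le (Subgroup.le_normalizer_map _))) ?_
  rintro y ⟨hy, hyN⟩
  rw [← map_centralizer O hO hJJ] at hy
  obtain ⟨g, hg, rfl⟩ := hy
  have hgJ : g * J = J * g := Subgroup.mem_centralizer_singleton_iff.1 hg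
  obtain ⟨b, hb, hb1, hbJ⟩ := FourGroup.exists_two hV (a := J)
  obtain ⟨v, hv, hve⟩ := (Subgroup.mem_normalizer_iff.1 hyN _).1 (Subgroup.mem_map_of_mem _ hb)
  have hvv := FourGroup.mul_self_of_mem hV hv
  have hbb := FourGroup.mul_self_of_mem hV hb
  set s := g * b * g⁻¹ with hs
  have hss : s * s = 1 := by rw [hs]; simp [mul_assoc, ← mul_assoc b b, hbb]
  have hmO : v * s ∈ O := by
    rw [← QuotientGroup.eq_one_iff, QuotientGroup.mk_mul]
    have : (v : X ⧸ O) = (s : X ⧸ O) := hve.trans (by rw [hs]; rfl)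
    rw [this, ← QuotientGroup.mk_mul, hss, QuotientGroup.mk_one]
  have hsJ : s * J = J * s := by
    rw [hs]
    have hgi : g⁻¹ * J = J * g⁻¹ := by
      rw [inv_mul_eq_iff_eq_mul, ← mul_assoc, hgJ, mul_inv_cancel_right]
    calc g * b * g⁻¹ * J = g * (b * J) * g⁻¹ := by rw [mul_assoc, hgi]; group
      _ = g * (J * b) * g⁻¹ := by rw [FourGroup.comm_of_mem hV hb hJV]
      _ = J * (g * b * g⁻¹) := by rw [← mul_assoc, hgJ]; group
  set K := O ⊓ Subgroup.centralizer ({J} : Set X) with hK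
  have hKo : Odd (Nat.card K) := hO.of_dvd_nat (Subgroup.card_dvd_of_le inf_le_left)
  have hmK : v * s ∈ K := ⟨hmO, Subgroup.mem_centralizer_singleton_iff.2 (by
    rw [mul_assoc, hsJ, ← mul_assoc, FourGroup.comm_of_mem hV hv hJV, mul_assoc])⟩
  set m := v * s with hm
  set r := DGroup.rt K m with hr
  have hrK : r ∈ K := DGroup.rt_mem hmK
  have hrr : r * r = m := DGroup.rt_sq hKo hmK
  have hvm : v * m * v = m⁻¹ := by
    rw [hm, _root_.mul_inv_rev, inv_eq_of_mul_eq_one_right hvv, inv_eq_of_mul_eq_one_right hss,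
      ← mul_assoc, hvv, one_mul]
  have hvr : v * r * v = r⁻¹ := by
    rw [hr, DGroup.invol_conj_rt hvv, hvm, DGroup.rt_inv]
  -- `r` conjugates `s` to `v`
  have hsv : r * s * r⁻¹ = v := by
    have hsm : s = v * m := by rw [hm, ← mul_assoc, hvv, one_mul]
    have hrv : r * v = v * r⁻¹ := by rw [← hvr, ← mul_assoc, ← mul_assoc, hvv, one_mul]
    calc r * s * r⁻¹ = r * v * m * r⁻¹ := by rw [hsm, mul_assoc r v m]
      _ = v * r⁻¹ * (r * r) * r⁻¹ := by rw [hrv, hrr]
      _ = v := by group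
  have hrJ : r * J = J * r := Subgroup.mem_centralizer_singleton_iff.1 hrK.2
  refine ⟨r * g, ⟨mul_mem hrK.2 hg, ?_⟩, ?_⟩
  · refine FourGroup.mem_normalizer_of_map (Subgroup.eq_of_le_of_card_ge ?_ ?_)
    · rintro _ ⟨z, hz, rfl⟩
      have hJ' : r * g * J * (r * g)⁻¹ = J := by
        rw [mul_inv_eq_iff_eq_mul, mul_assoc, hgJ, ← mul_assoc, hrJ, mul_assoc]
      have hb' : r * g * b * (r * g)⁻¹ = v := by
        rw [← hsv, hs]; group
      rw [FourGroup.eq_four hV hJV hb hJ1 hb1 hbJ.symm] at hz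
      show r * g * z * (r * g)⁻¹ ∈ V
      rcases FourGroup.mem_four.1 hz with rfl | rfl | rfl | rfl
      · simp
      · rw [hJ']; exact hJV
      · rw [hb']; exact hv
      · rw [show r * g * (J * b) * (r * g)⁻¹ = r * g * J * (r * g)⁻¹ * (r * g * b * (r * g)⁻¹) by group,
          hJ', hb']
        exact mul_mem hJV hv
    · rw [Subgroup.card_map_of_injective (MulAut.conj (r * g)).injective]
  · simp [QuotientGroup.mk'_apply, (QuotientGroup.eq_one_iff r).2 hrK.1]

/-- The numbers `|X : C(J)|` and `k = |C(J) : C(J) ∩ N(V)|`, with all refinements. -/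
theorem dih_numbers_aux
    (T : Sylow 2 X) (n : ℕ) (hn : 2 ≤ n)
    (hT : Nonempty ((T : Subgroup X) ≃* DihedralGroup n)) (V : Subgroup X) (hV : IsKleinFour V)
    {J : X} (hJ : J ∈ V) (hJ1 : J ≠ 1)
    (hN : ∀ v ∈ V, v ≠ 1 → ∃ g ∈ Subgroup.normalizer (V : Set X), g * J * g⁻¹ = v) :
    ∃ w u : ℕ, Odd w ∧ 0 < u ∧
      ((∃ q, IsPrimePow q ∧ (q = 4 * u + 1 ∨ q + 1 = 4 * u) ∧
          (q = 4 * u + 1 →
            (Subgroup.centralizer ({J} : Set X)).index = w ^ 2 * q * (2 * u + 1)) ∧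
          (q + 1 = 4 * u →
            (Subgroup.centralizer ({J} : Set X)).index = w ^ 2 * q * (2 * u - 1)) ∧
          (Odd u → (Subgroup.normalizer (V : Set X)).relIndex
            (Subgroup.centralizer ({J} : Set X)) = w * u) ∧
          (Even u → 2 * (Subgroup.normalizer (V : Set X)).relIndex
            (Subgroup.centralizer ({J} : Set X)) = w * u ∨
            (Subgroup.normalizer (V : Set X)).relIndex
            (Subgroup.centralizer ({J} : Set X)) = w * u) ∧
          4 * u ∣ Nat.card (Subgroup.centralizer ({J} : Set X)) ∧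
          ((∀ s : X, orderOf s = 2 → IsConj J s) → Even u → 2 * (Subgroup.normalizer (V : Set X)).relIndex
            (Subgroup.centralizer ({J} : Set X)) = w * u)) ∨
        ((Subgroup.centralizer ({J} : Set X)).index = 105 * w ^ 2 ∧
          ((Subgroup.normalizer (V : Set X)).relIndex
            (Subgroup.centralizer ({J} : Set X)) = w ∨
            (Subgroup.normalizer (V : Set X)).relIndex
            (Subgroup.centralizer ({J} : Set X)) = 3 * w) ∧
          8 ∣ Nat.card (Subgroup.centralizer ({J} : Set X)))) := by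
  haveI : Fact (Nat.Prime 2) := ⟨Nat.prime_two⟩
  set O := Cfsg.oddCore X with hOdef
  have hd : GW.DihSylow X := ⟨T, n, hn, hT⟩
  have hO : Odd (Nat.card O) := Nat.coprime_two_right.1 (PBasic.pPrimeCore_coprime 2 X)
  have hshape : GW.Shape (X ⧸ O) := GW.shape_mod_core
    (GW.knownBelow_of_simple GW.simpleDihedral _) hd (Nat.lt_succ_self _)
  have hJJ := FourGroup.mul_self_of_mem hV hJ
  -- `V` meets `O` trivially
  have hVO : ∀ v ∈ V, (v : X ⧸ O) = 1 → v = 1 := by
    intro v hv h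
    have h1 : orderOf v ∣ Nat.card O := Subgroup.orderOf_dvd_natCard _ ((QuotientGroup.eq_one_iff v).1 h)
    have h2 : orderOf v ∣ 2 := orderOf_dvd_of_pow_eq_one (by rw [pow_two, FourGroup.mul_self_of_mem hV hv])
    exact orderOf_eq_one_iff.1 (Nat.eq_one_of_dvd_coprimes (Nat.coprime_two_right.2 hO) h1 h2)
  let π := QuotientGroup.mk' O
  have hVimg : IsKleinFour ↥(V.map π) := by
    let f : V ≃* V.map π := MulEquiv.ofBijective (π.subgroupMap V) ⟨(injective_iff_map_eq_one _).2
      fun a ha => Subtype.ext (hVO a a.2 (congrArg Subtype.val ha)), π.subgroupMap_surjective V⟩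
    haveI := hV
    exact ⟨by rw [← Nat.card_congr f.toEquiv]; exact IsKleinFour.card_four,
      by rw [← Monoid.exponent_eq_of_mulEquiv f]; exact IsKleinFour.exponent_two⟩
  have hJb1 : (J : X ⧸ O) ≠ 1 := fun h => hJ1 (hVO J hJ h)
  have hNb : ∀ v ∈ V.map π, v ≠ 1 →
      ∃ g ∈ Subgroup.normalizer ((V.map π : Subgroup (X ⧸ O)) : Set (X ⧸ O)), g * (J : X ⧸ O) * g⁻¹ = v := by
    rintro _ ⟨v, hv, rfl⟩ hv1
    obtain ⟨g, hg, rfl⟩ := hN v hv fun e => hv1 (by rw [e, map_one])
    exact ⟨π g, Subgroup.le_normalizer_map π (Subgroup.mem_map_of_mem π hg), by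
      simp [π, QuotientGroup.mk'_apply]⟩
  obtain ⟨w, hw, hwA, hwO⟩ := klein_ratio V hV O hO hJ hJ1
    fun v hv hv1 => (hN v hv hv1).imp fun g h => h.2
  set C := Subgroup.centralizer ({J} : Set X) with hC
  set N := Subgroup.normalizer (V : Set X) with hNdef
  set A := O ⊓ C with hA
  set C0 := O ⊓ Subgroup.centralizer (V : Set X) with hC0
  set Cb := Subgroup.centralizer ({(J : X ⧸ O)} : Set (X ⧸ O)) with hCb
  set Nb := Subgroup.normalizer ((V.map π : Subgroup (X ⧸ O)) : Set (X ⧸ O)) with hNbdef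
  have hq : QNum (∀ s : X ⧸ O, orderOf s = 2 → IsConj (J : X ⧸ O) s) (Nat.card Cb) Cb.index
      (Nb.relIndex Cb) :=
    quot_numbers (hd.quotient O hO) hshape hVimg (Subgroup.mem_map_of_mem π hJ) hJb1 hNb
  have e1 : Nat.card A * Nat.card Cb = Nat.card C := by
    rw [hCb, ← map_centralizer O hO hJJ]
    exact card_inf_mul_map O C
  have e2 : O ⊓ (C ⊓ N) = C0 := by
    apply le_antisymm
    · intro x hx
      refine ⟨hx.1, Subgroup.mem_centralizer_iff.2 fun v hv => ?_⟩
      have h1 : x * v * x⁻¹ * v⁻¹ ∈ V :=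
        mul_mem ((Subgroup.mem_normalizer_iff.1 hx.2.2 v).1 hv) (inv_mem hv)
      have h2 : x * v * x⁻¹ * v⁻¹ ∈ O := by
        rw [show x * v * x⁻¹ * v⁻¹ = x * (v * x⁻¹ * v⁻¹) by group]
        exact mul_mem hx.1 ((inferInstance : O.Normal).conj_mem _ (inv_mem hx.1) v)
      have h3 := hVO _ h1 ((QuotientGroup.eq_one_iff _).2 h2)
      rw [mul_inv_eq_one, mul_inv_eq_iff_eq_mul] at h3
      exact h3.symm
    · intro x hx
      exact ⟨hx.1, Subgroup.centralizer_le (Set.singleton_subset_iff.2 hJ) hx.2,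
        Subgroup.centralizer_le_normalizer _ hx.2⟩
  have e3 : Nat.card C0 * Nat.card ↥(Cb ⊓ Nb) = Nat.card ↥(C ⊓ N) := by
    rw [hCb, hNbdef, ← map_centralizer_normalizer O hO V hV hJ hJ1, ← e2]
    exact card_inf_mul_map O (C ⊓ N)
  have hk : N.relIndex C = w * Nb.relIndex Cb := by
    have a1 := card_inf_mul_relIndex' N C
    have a2 := card_inf_mul_relIndex' Nb Cb
    rw [inf_comm N C, ← e3, ← e1, ← a2, hwA, inf_comm Nb Cb] at a1
    refine Nat.eq_of_mul_eq_mul_left (Nat.mul_pos (Nat.card_pos (α := C0))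
      (Nat.card_pos (α := ↥(Cb ⊓ Nb)))) (a1.trans ?_)
    ring
  have hi : C.index = w ^ 2 * Cb.index := by
    have a1 := Subgroup.card_mul_index C
    have a2 := Subgroup.card_mul_index Cb
    have a3 := Subgroup.card_mul_index O
    rw [Subgroup.index_eq_card, ← a2, hwO] at a3
    refine Nat.eq_of_mul_eq_mul_left (Nat.card_pos (α := C)) ?_
    rw [a1, ← a3, ← e1]
    ring
  have honeY : (∀ s : X, orderOf s = 2 → IsConj J s) → ∀ s : X ⧸ O, orderOf s = 2 → IsConj (J : X ⧸ O) s := by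
    intro hone s hs
    obtain ⟨x, rfl⟩ := QuotientGroup.mk'_surjective O s
    rw [QuotientGroup.mk'_apply] at hs ⊢
    have hs2 : (x : X ⧸ O) ^ 2 = 1 := by
      have h := pow_orderOf_eq_one (x : X ⧸ O)
      rwa [hs] at h
    have hx2 : x * x ∈ O := (QuotientGroup.eq_one_iff _).1 (by
      rw [QuotientGroup.mk_mul, ← pow_two, hs2])
    obtain ⟨r, hr⟩ := hO.of_dvd_nat (Subgroup.orderOf_dvd_natCard O hx2)
    set y := x ^ orderOf (x * x) with hy
    have hyy : y ^ 2 = 1 := by
      rw [hy, ← pow_mul, mul_comm, pow_mul, pow_two, pow_orderOf_eq_one]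
    have hyx : (y : X ⧸ O) = (x : X ⧸ O) := by
      rw [hy, QuotientGroup.mk_pow, hr, pow_succ, pow_mul, hs2, one_pow, one_mul]
    have hy1 : y ≠ 1 := fun h => by
      rw [h, QuotientGroup.mk_one] at hyx
      rw [← hyx, orderOf_one] at hs
      omega
    obtain ⟨g, hg⟩ := isConj_iff.1 (hone y (orderOf_eq_prime hyy hy1))
    rw [← hyx, ← hg]
    exact isConj_iff.2 ⟨(g : X ⧸ O), by simp [QuotientGroup.mk_mul, QuotientGroup.mk_inv]⟩
  rcases hq with ⟨u, hu, q, hpp, hqu, h1, h3, hk1, hk0, h4, hk2⟩ | ⟨h105, hk', h8⟩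
  · refine ⟨w, u, hw, hu, Or.inl ⟨q, hpp, hqu, fun e => ?_, fun e => ?_, fun e => ?_, fun e => ?_, ?_,
      fun hone e => ?_⟩⟩
    · rw [hi, h1 e, mul_assoc]
    · rw [hi, h3 e, mul_assoc]
    · rw [hk, hk1 e]
    · rw [hk]
      rcases hk0 e with h | h
      · left; rw [mul_left_comm, h]
      · right; rw [h]
    · rw [← e1]; exact h4.mul_left _
    · rw [hk, mul_left_comm, hk2 (honeY hone) e]
  · refine ⟨w, 1, hw, one_pos, Or.inr ⟨by rw [hi, h105, mul_comm], ?_, ?_⟩⟩
    · rw [hk]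
      rcases hk' with h | h <;> rw [h]
      · exact Or.inl (mul_one w)
      · exact Or.inr (mul_comm w 3)
    · rw [← e1]; exact h8.mul_left _

/-- The numbers `|X : C(J)|` and `k = |C(J) : C(J) ∩ N(V)|`. -/
theorem dih_numbers
    (T : Sylow 2 X) (n : ℕ) (hn : 2 ≤ n)
    (hT : Nonempty ((T : Subgroup X) ≃* DihedralGroup n)) (V : Subgroup X) (hV : IsKleinFour V)
    {J : X} (hJ : J ∈ V) (hJ1 : J ≠ 1)
    (hN : ∀ v ∈ V, v ≠ 1 → ∃ g ∈ Subgroup.normalizer (V : Set X), g * J * g⁻¹ = v) :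
    ∃ w u : ℕ, Odd w ∧ 0 < u ∧
      ((∃ q, IsPrimePow q ∧ (q = 4 * u + 1 ∨ q + 1 = 4 * u) ∧
          (q = 4 * u + 1 →
            (Subgroup.centralizer ({J} : Set X)).index = w ^ 2 * q * (2 * u + 1)) ∧
          (q + 1 = 4 * u →
            (Subgroup.centralizer ({J} : Set X)).index = w ^ 2 * q * (2 * u - 1)) ∧
          (Odd u → (Subgroup.normalizer (V : Set X)).relIndex
            (Subgroup.centralizer ({J} : Set X)) = w * u) ∧
          (Even u → 2 * (Subgroup.normalizer (V : Set X)).relIndex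
            (Subgroup.centralizer ({J} : Set X)) = w * u ∨
            (Subgroup.normalizer (V : Set X)).relIndex
            (Subgroup.centralizer ({J} : Set X)) = w * u)) ∨
        ((Subgroup.centralizer ({J} : Set X)).index = 105 * w ^ 2 ∧
          ((Subgroup.normalizer (V : Set X)).relIndex
            (Subgroup.centralizer ({J} : Set X)) = w ∨
            (Subgroup.normalizer (V : Set X)).relIndex
            (Subgroup.centralizer ({J} : Set X)) = 3 * w))) := by
  obtain ⟨w, u, hw, hu, ⟨q, hq, hqu, h1, h3, ho, he, -, -⟩ | ⟨h, hk, -⟩⟩ :=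
    dih_numbers_aux T n hn hT V hV hJ hJ1 hN
  · exact ⟨w, u, hw, hu, Or.inl ⟨q, hq, hqu, h1, h3, ho, he⟩⟩
  · exact ⟨w, u, hw, hu, Or.inr ⟨h, hk⟩⟩

/-- The same for one class of involutions. -/
theorem dih_numbers_one
    (T : Sylow 2 X) (n : ℕ) (hn : 2 ≤ n)
    (hT : Nonempty ((T : Subgroup X) ≃* DihedralGroup n)) (V : Subgroup X) (hV : IsKleinFour V)
    {J : X} (hJ : J ∈ V) (hJ1 : J ≠ 1)
    (hN : ∀ v ∈ V, v ≠ 1 → ∃ g ∈ Subgroup.normalizer (V : Set X), g * J * g⁻¹ = v)
    (hone : ∀ s : X, orderOf s = 2 → IsConj J s) :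
    ∃ w u : ℕ, Odd w ∧ 0 < u ∧
      ((∃ q, IsPrimePow q ∧ (q = 4 * u + 1 ∨ q + 1 = 4 * u) ∧
          (q = 4 * u + 1 →
            (Subgroup.centralizer ({J} : Set X)).index = w ^ 2 * q * (2 * u + 1)) ∧
          (q + 1 = 4 * u →
            (Subgroup.centralizer ({J} : Set X)).index = w ^ 2 * q * (2 * u - 1)) ∧
          (Odd u → (Subgroup.normalizer (V : Set X)).relIndex
            (Subgroup.centralizer ({J} : Set X)) = w * u) ∧
          (Even u → 2 * (Subgroup.normalizer (V : Set X)).relIndex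
            (Subgroup.centralizer ({J} : Set X)) = w * u) ∧
          4 * u ∣ Nat.card (Subgroup.centralizer ({J} : Set X))) ∨
        ((Subgroup.centralizer ({J} : Set X)).index = 105 * w ^ 2 ∧
          ((Subgroup.normalizer (V : Set X)).relIndex
            (Subgroup.centralizer ({J} : Set X)) = w ∨
            (Subgroup.normalizer (V : Set X)).relIndex
            (Subgroup.centralizer ({J} : Set X)) = 3 * w) ∧
          8 ∣ Nat.card (Subgroup.centralizer ({J} : Set X)))) := by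
  obtain ⟨w, u, hw, hu, ⟨q, hq, hqu, h1, h3, ho, -, h4, he⟩ | h⟩ :=
    dih_numbers_aux T n hn hT V hV hJ hJ1 hN
  · exact ⟨w, u, hw, hu, Or.inl ⟨q, hq, hqu, h1, h3, ho, he hone, h4⟩⟩
  · exact ⟨w, u, hw, hu, Or.inr h⟩

end Cfsg.Agent.TwoPtAlt
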