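import Cfsg.Agent.Lib.TwoPtAlt.Point
import Cfsg.Agent.Lib.TwoPtAlt.Arith
import Cfsg.Agent.Lib.TwoPtAlt.Shape

/-!
# Two-point stabilisers isomorphic to `A₄` or `A₅`: even degree
-/

set_option autoImplicit false
set_option linter.unusedSectionVars false
set_option linter.style.haveILetI false

namespace Cfsg.Agent.TwoPtAlt

open MulAction Cfsg.Agent.Zass
open scoped Classical

universe u v

variable {G : Type u} [Group G] [Finite G] {Ω : Type v} [MulAction G Ω] [Fintype Ω]

namespace Data

variable {a b : Ω} {V : Subgroup G} {J : G} {hh : ℕ} (d : Data a b V J hh)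
include d

theorem hh_cases : hh = 3 ∨ hh = 15 := d.cardH.imp And.right And.right

theorem odd_hh : Odd hh := by rcases d.hh_cases with rfl | rfl <;> decide

/-- In even degree `V` is a Sylow 2-subgroup of the point stabiliser. -/
theorem exists_dih (hn : Even (Nat.card Ω)) :
    ∃ T : Sylow 2 (stabilizer G a), Nonempty ((T : Subgroup (stabilizer G a)) ≃* DihedralGroup 2) := by
  haveI : Fact (Nat.Prime 2) := ⟨Nat.prime_two⟩
  haveI := d.klein'
  obtain ⟨T, hT⟩ := (IsPGroup.of_card (p := 2) (n := 2)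
    (IsKleinFour.card_four (G := ↥(V.subgroupOf (stabilizer G a))))).exists_le_sylow
  have hodd : Odd ((Nat.card Ω - 1) * hh) := by
    refine Odd.mul ?_ d.odd_hh
    have := d.i_lt
    have := d.two_le_i
    obtain ⟨t, ht⟩ := hn
    exact ⟨t - 1, by omega⟩
  have hc : Nat.card (T : Subgroup (stabilizer G a)) = 4 := by
    obtain ⟨m, hm⟩ := IsPGroup.iff_card.mp T.isPGroup'
    have hdvd := Subgroup.card_subgroup_dvd_card (T : Subgroup (stabilizer G a))
    have hle := Subgroup.card_le_of_le hT
    rw [hm, IsKleinFour.card_four] at hle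
    rw [hm, d.card_stab] at hdvd
    have hm2 : m = 2 := by
      rcases Nat.lt_or_ge m 3 with hm3 | hm3
      · interval_cases m <;> simp_all
      · exfalso
        have h8 : 8 ∣ (Nat.card Ω - 1) * (4 * hh) := (pow_dvd_pow 2 hm3).trans hdvd
        obtain ⟨t, ht⟩ := hodd
        rw [show (Nat.card Ω - 1) * (4 * hh) = 4 * ((Nat.card Ω - 1) * hh) by ring, ht] at h8
        omega
    rw [hm, hm2]
    norm_num
  have heq : V.subgroupOf (stabilizer G a) = (T : Subgroup (stabilizer G a)) :=
    Subgroup.eq_of_le_of_card_ge hT (by rw [hc, IsKleinFour.card_four])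
  exact ⟨T, ⟨(MulEquiv.subgroupCongr heq.symm).trans (Classical.choice IsKleinFour.nonempty_mulEquiv)⟩⟩

/-- The degrees in the even case. -/
theorem even_degree {R : ℕ} (hR : (hh = 3 ∧ R = 6) ∨ (hh = 15 ∧ R = 10))
    (htype : ZType G a b ∨ SType a b V J R) (hn : Even (Nat.card Ω)) :
    (hh = 3 ∧ Nat.card Ω = 6) ∨ (hh = 3 ∧ Nat.card Ω = 28 ∧ fx1 Ω J = 4 ∧ SType a b V J R) ∨
      (hh = 3 ∧ Nat.card Ω = 16 ∧ fx1 Ω J = 4 ∧ fxS Ω V = 4 ∧ ZType G a b ∧ rNum J a b = 3) ∨
      (hh = 15 ∧ Nat.card Ω = 12) := by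
  have hi2 := d.two_le_i
  have hj2 := d.two_le_j
  have hji := d.j_le_i
  have hlt := d.i_lt
  have hmoved := d.moved_eq
  have hline := d.line_eq
  have hpar := d.j_even_or_odd
  have hx := d.x_eq
  set n := Nat.card Ω with hndef
  set i := fx1 Ω J with hidef
  set j := fxS Ω V with hjdef
  set r := rNum J a b with hrdef
  have hieven : i % 2 = 0 := by rw [← hpar]; exact Nat.even_iff.mp hn
  rcases htype with hZ | hS
  · obtain ⟨l, hl, hl2, hr, hr1, hr2⟩ := d.zType_cases hZ
    rw [hl] at hline
    have hij : i = j + l * (j * (j - 1)) := by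
      have : 2 * (i - j) = 2 * (l * (j * (j - 1))) := by rw [hline]; ring
      omega
    have hjeven : j % 2 = 0 := by
      obtain ⟨t, ht⟩ := Nat.even_mul_succ_self (j - 1)
      rw [show j - 1 + 1 = j by omega, mul_comm] at ht
      rw [ht, show l * (t + t) = 2 * (l * t) by ring] at hij
      omega
    obtain ⟨p, m, hp, hm, hpm⟩ := d.sharp_facts.1
    obtain rfl : p = 2 := by
      have hd : 2 ∣ p ^ m := by rw [← hpm]; exact Nat.dvd_of_mod_eq_zero hjeven
      exact ((Nat.prime_dvd_prime_iff_eq Nat.prime_two hp).mp (Nat.prime_two.dvd_of_dvd_pow hd)).symm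
    obtain ⟨T, hT⟩ := d.exists_dih hn
    obtain ⟨w, u, hw, hu, hnum⟩ := dih_numbers T 2 le_rfl hT (V.subgroupOf (stabilizer G a))
      d.klein' (J := d.J') d.memJ d.J'_ne d.hN'
    rw [d.x_index] at hnum
    have hk := d.k_mul'
    set k := (Subgroup.normalizer ((V.subgroupOf (stabilizer G a) : Subgroup (stabilizer G a)) :
      Set (stabilizer G a))).relIndex (Subgroup.centralizer ({d.J'} : Set (stabilizer G a)))
    have hkl : k = l * j + 1 := by
      refine Nat.eq_of_mul_eq_mul_right (show 0 < j - 1 by omega) ?_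
      rw [← hidef, ← hjdef, hij] at hk
      rw [hk, Nat.add_mul, one_mul, mul_assoc]
      omega
    have hcase : (i = j ∧ k = 1 ∧ (r = 1 ∨ r = hh ∨ r = hh + 1)) ∨
        (i = j * j ∧ k = j + 1 ∧ (r = hh ∨ r = hh + 1)) ∨
        (i + j = 2 * (j * j) ∧ k = 2 * j + 1 ∧ r = hh + 1) := by
      obtain ⟨j', hj'⟩ : ∃ j', j = j' + 1 := ⟨j - 1, by omega⟩
      rw [show j - 1 = j' by omega] at hij
      interval_cases l
      · exact Or.inl ⟨by simpa using hij, by simpa using hkl, hr⟩
      · exact Or.inr (Or.inl ⟨by rw [hij, hj']; ring, by simpa using hkl, hr1 le_rfl⟩)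
      · exact Or.inr (Or.inr ⟨by rw [hij, hj']; ring, hkl, hr2 rfl⟩)
    have hkodd : Odd k := by
      rw [hkl, Nat.odd_iff]
      have : (l * j) % 2 = 0 := by rw [Nat.mul_mod, hjeven, mul_zero, Nat.zero_mod]
      omega
    rcases hnum with ⟨q, -, hq, hq1, hq3, hku, hku'⟩ | ⟨hx7, hk7⟩
    · have hxv : XVal w u (xNum J a) := by
        rcases hq with e | e
        · left; rw [hq1 e, e]; ring
        · right; rw [hq3 e, show 4 * u - 1 = q by omega]; ring
      rcases Nat.even_or_odd u with hue | huo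
      · rcases hku' hue with h2k | hk'
        · obtain ⟨e1, e2, e3⟩ := even_double d.hh_cases hpm hj2 hx hue hu h2k hxv hcase
          exfalso
          rw [e1, e2, e3] at hmoved
          have hn4 : n = 4 := by omega
          have hG := d.card_G
          rw [← hndef, hn4, e1] at hG
          haveI := d.faith
          have hle := Nat.card_le_card_of_injective (MulAction.toPermHom G Ω)
            MulAction.toPerm_injective
          rw [Nat.card_perm, ← hndef, hn4, hG] at hle
          norm_num [Nat.factorial] at hle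
        · exact absurd (hk' ▸ hue.mul_left w) (Nat.not_even_iff_odd.mpr hkodd)
      · rcases hcase with ⟨e1, e2, e3⟩ | hcase
        · obtain ⟨f1, f2, f3⟩ := even_flat d.hh_cases (e1.trans hpm) hi2 e3 hx
            ((hku huo).symm.trans e2) hxv
          rw [f1, f2, f3] at hmoved
          exact Or.inr (Or.inr (Or.inl ⟨f1, by omega, f3, by rw [← f3, e1], hZ, f2⟩))
        · exfalso
          rcases hcase with ⟨e1, e2, e3⟩ | ⟨e1, e2, e3⟩
          · exact even_no_line d.hh_cases hpm hj2 e3 hx hw huo (hku huo) hxv (Or.inl ⟨e1, e2⟩)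
          · exact even_no_line d.hh_cases hpm hj2 (Or.inr e3) hx hw huo (hku huo) hxv
              (Or.inr ⟨e1, e2, e3⟩)
    · exact (even_seven d.hh_cases hpm hj2 hx hx7 hk7 hcase).elim
  · rw [show r = R from hS.r_eq] at hmoved
    rcases d.sType_j hS with hj | hj
    · rw [← hjdef] at hj
      rcases d.sType_cases hS with hl | hl <;> rw [hl, hj] at hline
      · have hi : i = 2 := by omega
        rw [hi] at hmoved
        rcases hR with ⟨e1, e2⟩ | ⟨e1, e2⟩ <;> rw [e1, e2] at hmoved
        · exact Or.inl ⟨e1, by omega⟩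
        · omega
      · have hi : i = 4 := by omega
        rw [hi] at hmoved
        rcases hR with ⟨e1, e2⟩ | ⟨e1, e2⟩ <;> rw [e1, e2] at hmoved
        · exact Or.inr (Or.inl ⟨e1, by omega, hi, hS⟩)
        · exact Or.inr (Or.inr (Or.inr ⟨e1, by omega⟩))
    · exfalso
      rw [← hjdef, Nat.not_even_iff] at hj
      rcases d.sType_cases hS with hl | hl <;> rw [hl] at hline
      · omega
      · obtain ⟨t, ht⟩ := Nat.even_mul_succ_self (j - 1)
        rw [show j - 1 + 1 = j by omega, mul_comm] at ht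
        rw [ht] at hline
        omega

end Data

end Cfsg.Agent.TwoPtAlt
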