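import Cfsg.Agent.Lib.TwoPtAlt.Basic
import Cfsg.Agent.Lib.Perm.AutAlternating

/-!
# Two-point stabilisers isomorphic to `A₄` or `A₅`: the local facts
-/

set_option autoImplicit false
set_option linter.unusedSectionVars false
set_option linter.style.haveILetI false

namespace Cfsg.Agent.TwoPtAlt

open MulAction Cfsg.Agent.Zass Equiv

universe u v

/-- The finite facts about `Aₘ` used below, `ι` a fixed double transposition. -/
structure AltFacts (m hh R : ℕ) (ι : Perm (Fin m)) : Prop where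
  even : Perm.sign ι = 1
  sq : ι * ι = 1
  ne : ι ≠ 1
  size : Nat.card (alternatingGroup (Fin m)) = 4 * hh
  conj : ∀ π : Perm (Fin m), Perm.sign π = 1 → π * π = 1 → π ≠ 1 →
    ∃ κ : Perm (Fin m), Perm.sign κ = 1 ∧ κ * ι * κ⁻¹ = π
  centSq : ∀ π : Perm (Fin m), Perm.sign π = 1 → π * ι = ι * π → π * π = 1
  centCard : Nat.card {π : Perm (Fin m) // Perm.sign π = 1 ∧ π * ι = ι * π} = 4
  rot : ∃ κ : Perm (Fin m), Perm.sign κ = 1 ∧ κ * ι * κ⁻¹ ≠ ι ∧
    ∀ π : Perm (Fin m), Perm.sign π = 1 → π * ι = ι * π → κ * π * κ⁻¹ * ι = ι * (κ * π * κ⁻¹)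
  norm : Nat.card {κ : Perm (Fin m) // Perm.sign κ = 1 ∧ ∀ π : Perm (Fin m), Perm.sign π = 1 →
    π * ι = ι * π → κ * π * κ⁻¹ * ι = ι * (κ * π * κ⁻¹)} = 12
  centre : ∀ π : Perm (Fin m), Perm.sign π = 1 →
    (∀ κ : Perm (Fin m), Perm.sign κ = 1 → π * κ = κ * π) → π = 1
  invol : Nat.card {π : Perm (Fin m) // Perm.sign π = 1 ∧ π * π = 1 ∧ π ≠ 1} = hh
  outerCount : ∀ σ : Perm (Fin m), Perm.sign σ = -1 → σ * σ = 1 →
    Nat.card {π : Perm (Fin m) // Perm.sign π = 1 ∧ σ * π * (σ * π) = 1} = R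
  outerConj : ∀ σ : Perm (Fin m), Perm.sign σ = -1 → σ * σ = 1 →
    ∀ π : Perm (Fin m), Perm.sign π = 1 → σ * π * (σ * π) = 1 →
      ∃ κ : Perm (Fin m), Perm.sign κ = 1 ∧ κ * σ * κ⁻¹ = σ * π
  outerTwo : ∀ σ : Perm (Fin m), Perm.sign σ = -1 → σ * σ = 1 →
    Nat.card {π : Perm (Fin m) // Perm.sign π = 1 ∧ σ * π * (σ * π) = 1 ∧ σ * π * ι = ι * (σ * π)} = 2
  outerRoot : ∀ σ : Perm (Fin m), Perm.sign σ = -1 → σ * σ = 1 →
    Nat.card {π : Perm (Fin m) // Perm.sign π = 1 ∧ σ * π * (σ * π) = ι} = 2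
  outerMove : ∀ σ : Perm (Fin m), Perm.sign σ = -1 → σ * σ = 1 →
    ∀ π : Perm (Fin m), Perm.sign π = 1 → σ * π * ι = ι * (σ * π) →
      ∀ κ : Perm (Fin m), Perm.sign κ = 1 → κ * ι = ι * κ → κ ≠ 1 → κ ≠ ι →
        σ * π * κ ≠ κ * (σ * π)

/-- The double transposition in degree four. -/
def iota4 : Perm (Fin 4) := Equiv.swap 0 1 * Equiv.swap 2 3

/-- The double transposition in degree five. -/
def iota5 : Perm (Fin 5) := Equiv.swap 0 1 * Equiv.swap 2 3

set_option synthInstance.maxSize 2000 in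
set_option synthInstance.maxHeartbeats 200000 in
theorem altFacts4 : AltFacts 4 3 6 iota4 where
  even := by decide +kernel
  sq := by decide +kernel
  ne := by decide +kernel
  size := by rw [Nat.card_eq_fintype_card]; decide +kernel
  conj := by decide +kernel
  centSq := by decide +kernel
  centCard := by rw [Nat.card_eq_fintype_card]; decide +kernel
  rot := by decide +kernel
  norm := by rw [Nat.card_eq_fintype_card]; decide +kernel
  centre := by decide +kernel
  invol := by rw [Nat.card_eq_fintype_card]; decide +kernel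
  outerCount := by simp only [Nat.card_eq_fintype_card]; decide +kernel
  outerConj := by decide +kernel
  outerTwo := by simp only [Nat.card_eq_fintype_card]; decide +kernel
  outerRoot := by simp only [Nat.card_eq_fintype_card]; decide +kernel
  outerMove := by decide +kernel

set_option synthInstance.maxSize 2000 in
set_option synthInstance.maxHeartbeats 200000 in
theorem altFacts5 : AltFacts 5 15 10 iota5 where
  even := by decide +kernel
  sq := by decide +kernel
  ne := by decide +kernel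
  size := by rw [Nat.card_eq_fintype_card]; decide +kernel
  conj := by decide +kernel
  centSq := by decide +kernel
  centCard := by rw [Nat.card_eq_fintype_card]; decide +kernel
  rot := by decide +kernel
  norm := by rw [Nat.card_eq_fintype_card]; decide +kernel
  centre := by decide +kernel
  invol := by rw [Nat.card_eq_fintype_card]; decide +kernel
  outerCount := by simp only [Nat.card_eq_fintype_card]; decide +kernel
  outerConj := by decide +kernel
  outerTwo := by simp only [Nat.card_eq_fintype_card]; decide +kernel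
  outerRoot := by simp only [Nat.card_eq_fintype_card]; decide +kernel
  outerMove := by decide +kernel

open scoped Classical

variable {G : Type u} [Group G] [Finite G] {Ω : Type v} [MulAction G Ω] [Fintype Ω]

theorem swap_back {a b : Ω} {g : G} (hg : g * g = 1) (h : g • a = b) : g • b = a := by
  rw [← h, ← mul_smul, hg, one_smul]

/-- The case `G_{{a,b}} ≅ H × 2`. -/
def ZType (G : Type u) [Group G] {Ω : Type v} [MulAction G Ω] (a b : Ω) : Prop :=
  ∃ z : G, z * z = 1 ∧ z • a = b ∧ z • b = a ∧ ∀ h ∈ Zass.two (G := G) a b, z * h = h * z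

/-- The case `G_{{a,b}} ≅ S₄` or `S₅`. -/
structure SType (a b : Ω) (V : Subgroup G) (J : G) (R : ℕ) : Prop where
  r_eq : rNum J a b = R
  allGood : ∀ s : G, s * s = 1 → s • a = b → IsConj J s
  twoInv : Set.ncard {s : G | s * s = 1 ∧ s • a = b ∧ s * J = J * s} = 2
  twoRoot : Set.ncard {s : G | s * s = J ∧ s • a = b ∧ s • b = a} = 2
  moves : ∀ g : G, g • a = b → g • b = a → g * J = J * g →
    ∀ w ∈ V, w ≠ 1 → w ≠ J → g * w ≠ w * g

/-- The data attached to an isomorphism of a two-point stabiliser with `Aₘ`. -/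
theorem exists_data {m hh R : ℕ} {ι : Perm (Fin m)} (F : AltFacts m hh R ι)
    (h12 : hh = 3 ∨ hh = 15) (h4 : 4 ≤ m) (h6 : m ≠ 6) (h2 : MulAction.IsMultiplyPretransitive G Ω 2)
    [FaithfulSMul G Ω] (a b : Ω) (hab : a ≠ b)
    (e : ↥(MulAction.stabilizer G a ⊓ MulAction.stabilizer G b) ≃* alternatingGroup (Fin m)) :
    ∃ (V : Subgroup G) (J : G), Data a b V J hh ∧ (ZType G a b ∨ SType a b V J R) := by
  set H : Subgroup G := Zass.two a b with hH
  let ψ : H →* Perm (Fin m) := (alternatingGroup (Fin m)).subtype.comp e.toMonoidHom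
  have hψi : Function.Injective ψ := Subtype.val_injective.comp e.injective
  have hψs : ∀ h : H, Perm.sign (ψ h) = 1 := fun h => Equiv.Perm.mem_alternatingGroup.mp (e h).2
  have hψe : ∀ π : Perm (Fin m), Perm.sign π = 1 → ∃ h : H, ψ h = π := fun π hπ =>
    ⟨e.symm ⟨π, Equiv.Perm.mem_alternatingGroup.mpr hπ⟩, by
      show ((e (e.symm _)) : Perm (Fin m)) = π
      rw [MulEquiv.apply_symm_apply]⟩
  have hψc : ∀ (P : Perm (Fin m) → Prop), Nat.card {h : H // P (ψ h)} =
      Nat.card {π : Perm (Fin m) // Perm.sign π = 1 ∧ P π} := fun P =>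
    Nat.card_congr (Equiv.ofBijective (fun h => ⟨ψ h.1, hψs h.1, h.2⟩)
      ⟨fun p q hpq => Subtype.ext (hψi (congrArg Subtype.val hpq :)), fun q => by
        obtain ⟨h, hh'⟩ := hψe q.1 q.2.1
        exact ⟨⟨h, by rw [hh']; exact q.2.2⟩, Subtype.ext hh'⟩⟩)
  obtain ⟨J0, hJ0⟩ := hψe ι F.even
  set J : G := (J0 : G) with hJdef
  have hcomm : ∀ h : H, (h : G) * J = J * h ↔ ψ h * ι = ι * ψ h := fun h => by
    rw [← hJ0, ← map_mul, ← map_mul, hψi.eq_iff, Subtype.ext_iff]
    rfl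
  let V : Subgroup G := H ⊓ Subgroup.centralizer ({J} : Set G)
  have hmemV : ∀ h : H, (h : G) ∈ V ↔ ψ h * ι = ι * ψ h := fun h => by
    rw [← hcomm]
    exact ⟨fun hv => Subgroup.mem_centralizer_singleton_iff.mp hv.2,
      fun hv => ⟨h.2, Subgroup.mem_centralizer_singleton_iff.mpr hv⟩⟩
  have hVc : Nat.card V = 4 := by
    rw [← F.centCard, ← hψc fun π => π * ι = ι * π]
    exact Nat.card_congr
      { toFun := fun v => ⟨⟨v.1, v.2.1⟩, (hmemV ⟨v.1, v.2.1⟩).mp v.2⟩
        invFun := fun h => ⟨h.1, (hmemV h.1).mpr h.2⟩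
        left_inv := fun _ => rfl
        right_inv := fun _ => rfl }
  have hsq : ∀ h : H, (h : G) * h = 1 ↔ ψ h * ψ h = 1 := fun h => by
    rw [← map_mul, ← map_one ψ, hψi.eq_iff, Subtype.ext_iff]
    rfl
  have hne1 : ∀ h : H, (h : G) = 1 ↔ ψ h = 1 := fun h => by
    rw [← map_one ψ, hψi.eq_iff, Subtype.ext_iff]
    rfl
  have hord : ∀ h : H, orderOf (h : G) = 2 ↔ ψ h * ψ h = 1 ∧ ψ h ≠ 1 := fun h => by
    rw [← hsq, ne_eq, ← hne1]
    refine ⟨fun ho => ⟨by rw [← pow_two, ← ho, pow_orderOf_eq_one], fun e => ?_⟩,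
      fun ho => orderOf_eq_prime (by rw [pow_two]; exact ho.1) ho.2⟩
    rw [e, orderOf_one] at ho
    omega
  have hklein : IsKleinFour V := by
    refine ⟨hVc, ?_⟩
    haveI : Nontrivial V := Finite.one_lt_card_iff_nontrivial.mp (by omega)
    refine (Monoid.exponent_eq_prime_iff Nat.prime_two).mpr fun v hv => orderOf_eq_prime ?_ hv
    rw [pow_two]
    refine Subtype.ext ((hsq ⟨v.1, v.2.1⟩).mpr ?_)
    exact F.centSq _ (hψs _) ((hmemV ⟨v.1, v.2.1⟩).mp v.2)
  have hJJ : J * J = 1 := (hsq J0).mpr (by rw [hJ0, F.sq])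
  have hconjH : ∀ k h : H, ψ (k * h * k⁻¹) = ψ k * ψ h * (ψ k)⁻¹ := fun k h => by
    rw [map_mul, map_mul, map_inv]
  have d : Data a b V J hh := by
    refine ⟨hab, h2, inferInstance, hklein, inf_le_left,
      ⟨J0.2, Subgroup.mem_centralizer_singleton_iff.mpr rfl⟩, ?_, ?_, ?_, ?_, ?_, ?_, ?_⟩
    · exact fun e1 => F.ne (hJ0 ▸ (hne1 J0).mp e1)
    · intro s hs ho
      obtain ⟨h1, h2'⟩ := (hord ⟨s, hs⟩).mp ho
      obtain ⟨κ, hκ, hκe⟩ := F.conj _ (hψs _) h1 h2'
      obtain ⟨k, hk⟩ := hψe κ hκ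
      refine ⟨k, k.2, ?_⟩
      have := hψi (show ψ (k * J0 * k⁻¹) = ψ ⟨s, hs⟩ by rw [hconjH, hk, hJ0, hκe])
      exact congrArg Subtype.val this
    · exact fun h hh' hc => ⟨hh', Subgroup.mem_centralizer_singleton_iff.mpr hc⟩
    · obtain ⟨κ, hκ, hκ1, hκ2⟩ := F.rot
      obtain ⟨k, hk⟩ := hψe κ hκ
      refine ⟨k, k.2, fun v hv => ?_, fun e1 => hκ1 ?_⟩
      · refine (hmemV (k * ⟨v, hv.1⟩ * k⁻¹)).mpr ?_
        rw [hconjH, hk]
        exact hκ2 _ (hψs _) ((hmemV ⟨v, hv.1⟩).mp hv)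
      · rw [← hk, ← hJ0, ← hconjH]
        exact congrArg ψ (Subtype.ext e1)
    · have hc : Nat.card H = 4 * hh := (Nat.card_congr e.toEquiv).trans F.size
      rcases h12 with rfl | rfl
      · exact Or.inl ⟨hc, rfl⟩
      · exact Or.inr ⟨hc, rfl⟩
    · rw [← F.norm, ← hψc fun κ => ∀ π : Perm (Fin m), Perm.sign π = 1 → π * ι = ι * π →
        κ * π * κ⁻¹ * ι = ι * (κ * π * κ⁻¹)]
      refine Nat.card_congr
        { toFun := fun g => ⟨⟨g.1, g.2.1⟩, fun π hπ hc => ?_⟩
          invFun := fun h => ⟨h.1, h.1.2, Subgroup.mem_normalizer_fintype fun v hv => ?_⟩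
          left_inv := fun _ => rfl
          right_inv := fun _ => rfl }
      · obtain ⟨p, rfl⟩ := hψe π hπ
        rw [← hconjH]
        exact (hmemV _).mp ((Subgroup.mem_normalizer_iff.mp g.2.2 p).mp ((hmemV p).mpr hc))
      · refine (hmemV (h.1 * ⟨v, hv.1⟩ * h.1⁻¹)).mpr ?_
        rw [hconjH]
        exact h.2 _ (hψs _) ((hmemV ⟨v, hv.1⟩).mp hv)
    · intro g hg hc
      refine (hne1 ⟨g, hg⟩).mpr (F.centre _ (hψs _) fun κ hκ => ?_)
      obtain ⟨k, rfl⟩ := hψe κ hκ
      rw [← map_mul, ← map_mul]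
      exact congrArg ψ (Subtype.ext (hc k k.2))
  refine ⟨V, J, d, ?_⟩
  obtain ⟨τ, hτ, hτa⟩ : ∃ τ : G, IsConj J τ ∧ τ • a = b :=
    Set.nonempty_of_ncard_ne_zero d.r_pos.ne'
  have hττ : τ * τ = 1 := by rw [← pow_two, ← d.good_order hτ, pow_orderOf_eq_one]
  have hτb : τ • b = a := swap_back hττ hτa
  have hτi : τ⁻¹ = τ := inv_eq_of_mul_eq_one_right hττ
  have hnorm : ∀ h : H, τ * (h : G) * τ ∈ H := fun h => mem_two.mpr
    ⟨by rw [mul_smul, mul_smul, hτa, (mem_two.mp h.2).2, hτb],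
      by rw [mul_smul, mul_smul, hτb, (mem_two.mp h.2).1, hτa]⟩
  let α : MulAut H :=
    { toFun := fun h => ⟨τ * h * τ, hnorm h⟩
      invFun := fun h => ⟨τ * h * τ, hnorm h⟩
      left_inv := fun h => Subtype.ext (by
        show τ * (τ * (h : G) * τ) * τ = h
        rw [← mul_assoc, ← mul_assoc, hττ, one_mul, mul_assoc, hττ, mul_one])
      right_inv := fun h => Subtype.ext (by
        show τ * (τ * (h : G) * τ) * τ = h
        rw [← mul_assoc, ← mul_assoc, hττ, one_mul, mul_assoc, hττ, mul_one])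
      map_mul' := fun h k => Subtype.ext (by
        show τ * ((h : G) * k) * τ = τ * h * τ * (τ * k * τ)
        calc τ * ((h : G) * k) * τ = τ * h * (τ * τ) * k * τ := by rw [hττ]; group
          _ = _ := by group) }
  have hb := AutAlt.bijective_conjNormal (n := m) h4 h6
  obtain ⟨σ, hσ⟩ := hb.2 ((e.symm.trans α).trans e)
  have hα : ∀ h : H, ψ (α h) = σ * ψ h * σ⁻¹ := fun h => by
    have := congrArg Subtype.val (DFunLike.congr_fun hσ (e h))
    rw [MulAut.conjNormal_apply] at this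
    show ((e (α h) : alternatingGroup (Fin m)) : Perm (Fin m)) = _
    refine (Eq.trans ?_ this.symm)
    simp
  have hσσ : σ * σ = 1 := by
    refine hb.1 (MulEquiv.ext fun x => Subtype.ext ?_)
    obtain ⟨h, rfl⟩ := e.surjective x
    rw [map_one, MulAut.one_apply, MulAut.conjNormal_apply]
    show σ * σ * ψ h * (σ * σ)⁻¹ = ψ h
    have := hα (α h)
    rw [hα h, show α (α h) = h from α.left_inv h] at this
    calc σ * σ * ψ h * (σ * σ)⁻¹ = σ * (σ * ψ h * σ⁻¹) * σ⁻¹ := by group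
      _ = ψ h := this.symm
  have hσi : σ⁻¹ = σ := inv_eq_of_mul_eq_one_right hσσ
  rcases Int.units_eq_one_or (Perm.sign σ) with hs | hs
  · -- a central swapper
    left
    obtain ⟨s, hse⟩ := hψe σ hs
    have hfix : α s = s := hψi (by rw [hα, hse]; group)
    have hz : τ * (s : G) * τ = s := congrArg Subtype.val hfix
    have hss : (s : G) * s = 1 := (hsq s).mpr (by rw [hse, hσσ])
    refine ⟨τ * s, ?_, ?_, ?_, fun h hh' => ?_⟩
    · calc τ * (s : G) * (τ * s) = (τ * (s : G) * τ) * s := by group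
        _ = 1 := by rw [hz, hss]
    · rw [mul_smul, (mem_two.mp s.2).1, hτa]
    · rw [mul_smul, (mem_two.mp s.2).2, hτb]
    · have h1 := hα ⟨h, hh'⟩
      rw [← hse, ← map_inv, ← map_mul, ← map_mul] at h1
      have h2 : τ * h * τ = (s : G) * h * (s : G)⁻¹ := congrArg Subtype.val (hψi h1)
      have hsi : (s : G)⁻¹ = s := inv_eq_of_mul_eq_one_right hss
      rw [hsi] at h2
      calc τ * (s : G) * h = (s : G) * τ * h := by
            rw [show τ * (s : G) = τ * (s : G) * τ * τ by rw [mul_assoc _ τ τ, hττ, mul_one], hz]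
        _ = (s : G) * (τ * h * τ) * τ := by
            rw [show (s : G) * (τ * h * τ) * τ = (s : G) * τ * h * (τ * τ) by group, hττ, mul_one]
        _ = (s : G) * s * h * s * τ := by rw [h2]; group
        _ = h * (τ * s) := by
            rw [hss, one_mul, mul_assoc, show (s : G) * τ = τ * s by
              rw [show τ * (s : G) = τ * (s : G) * τ * τ by rw [mul_assoc _ τ τ, hττ, mul_one], hz]]
  · right
    have hσ1 : σ ≠ 1 := fun e1 => by rw [e1, Perm.sign_one] at hs; exact absurd hs (by decide)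
    -- swappers and their images
    have hsw : ∀ g : G, g • a = b → g • b = a → τ * g ∈ H := fun g g1 g2 => mem_two.mpr
      ⟨by rw [mul_smul, g1, hτb], by rw [mul_smul, g2, hτa]⟩
    have hsw' : ∀ h : H, (τ * (h : G)) • a = b ∧ (τ * (h : G)) • b = a := fun h =>
      ⟨by rw [mul_smul, (mem_two.mp h.2).1, hτa], by rw [mul_smul, (mem_two.mp h.2).2, hτb]⟩
    have hmul : ∀ h : H, ∀ k : H, τ * (h : G) * (τ * h) = (k : G) ↔
        σ * ψ h * (σ * ψ h) = ψ k := fun h k => by
      rw [show τ * (h : G) * (τ * h) = ((α h * h : H) : G) by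
        show _ = τ * (h : G) * τ * h
        group, ← Subtype.ext_iff, ← hψi.eq_iff, map_mul, hα, hσi]
      simp only [mul_assoc]
    have hmul1 : ∀ h : H, τ * (h : G) * (τ * h) = 1 ↔ σ * ψ h * (σ * ψ h) = 1 := fun h => by
      have := hmul h 1
      rwa [OneMemClass.coe_one, map_one] at this
    have hcom : ∀ (h k : H), τ * (h : G) * k = k * (τ * h) ↔
        σ * ψ h * ψ k = ψ k * (σ * ψ h) := fun h k => by
      have e1 : (k : G) * (τ * h) = τ * ((α k * h : H) : G) := by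
        show _ = τ * (τ * (k : G) * τ * h)
        rw [← mul_assoc τ, ← mul_assoc τ, ← mul_assoc τ τ, hττ, one_mul]
        group
      rw [e1, mul_assoc, mul_right_inj, ← Subgroup.coe_mul, ← Subtype.ext_iff, ← hψi.eq_iff, map_mul,
        map_mul, hα]
      constructor
      · intro e2
        calc σ * ψ h * ψ k = σ * (ψ h * ψ k) := mul_assoc _ _ _
          _ = σ * (σ * ψ k * σ⁻¹ * ψ h) := by rw [e2]
          _ = σ * σ * ψ k * (σ⁻¹ * ψ h) := by group
          _ = ψ k * (σ * ψ h) := by rw [hσσ, hσi, one_mul]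
      · intro e2
        calc ψ h * ψ k = σ⁻¹ * (σ * ψ h * ψ k) := by group
          _ = σ⁻¹ * (ψ k * (σ * ψ h)) := by rw [e2]
          _ = σ * ψ k * σ⁻¹ * ψ h := by rw [hσi]; group
    let swEquiv : ∀ (P : G → Prop), {g : G // g • a = b ∧ g • b = a ∧ P g} ≃
        {h : H // P (τ * h)} := fun P =>
      { toFun := fun g => ⟨⟨τ * g.1, hsw g.1 g.2.1 g.2.2.1⟩, by
          show P (τ * (τ * g.1)); rw [← mul_assoc, hττ, one_mul]; exact g.2.2.2⟩
        invFun := fun h => ⟨τ * (h.1 : G), (hsw' h.1).1, (hsw' h.1).2, h.2⟩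
        left_inv := fun g => Subtype.ext (by show τ * (τ * g.1) = g.1; rw [← mul_assoc, hττ, one_mul])
        right_inv := fun h => Subtype.ext (Subtype.ext (by
          show τ * (τ * (h.1 : G)) = h.1; rw [← mul_assoc, hττ, one_mul])) }
    have hgood : ∀ g : G, g * g = 1 → g • a = b → IsConj J g := by
      intro g hg g1
      have hm := hsw g g1 (swap_back hg g1)
      obtain ⟨κ, hκ, hκe⟩ := F.outerConj σ hs hσσ (ψ ⟨τ * g, hm⟩) (hψs _) ((hmul1 _).mp (by
        show τ * (τ * g) * (τ * (τ * g)) = 1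
        rw [← mul_assoc τ τ, hττ, one_mul, hg]))
      obtain ⟨k, rfl⟩ := hψe κ hκ
      refine hτ.trans (isConj_iff.mpr ⟨k, ?_⟩)
      have e2 : ψ (α k * k⁻¹) = ψ ⟨τ * g, hm⟩ := by
        calc ψ (α k * k⁻¹) = σ * (ψ k * σ⁻¹ * (ψ k)⁻¹) := by rw [map_mul, hα, map_inv]; group
          _ = σ * (σ * ψ ⟨τ * g, hm⟩) := by rw [hσi, hκe]
          _ = ψ ⟨τ * g, hm⟩ := by rw [← mul_assoc, hσσ, one_mul]
      have e3 : τ * (k : G) * τ * (k : G)⁻¹ = τ * g := congrArg Subtype.val (hψi e2)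
      refine mul_left_cancel (a := τ) ?_
      rw [← e3]
      group
    refine ⟨?_, hgood, ?_, ?_, fun g g1 g2 hg w hw hw1 hwJ => ?_⟩
    · rw [← F.outerCount σ hs hσσ, ← hψc fun π => σ * π * (σ * π) = 1, rNum, ← Nat.card_coe_set_eq]
      refine Nat.card_congr ((Equiv.subtypeEquivRight fun g => ?_).trans
        ((swEquiv fun g => g * g = 1).trans (Equiv.subtypeEquivRight fun h => hmul1 h)))
      constructor
      · rintro ⟨hg, g1⟩
        have hgg : g * g = 1 := by rw [← pow_two, ← d.good_order hg, pow_orderOf_eq_one]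
        exact ⟨g1, swap_back hgg g1, hgg⟩
      · rintro ⟨g1, -, hgg⟩
        exact ⟨hgood g hgg g1, g1⟩
    · rw [← F.outerTwo σ hs hσσ, ← hψc fun π => σ * π * (σ * π) = 1 ∧ σ * π * ι = ι * (σ * π),
        ← Nat.card_coe_set_eq]
      refine Nat.card_congr ((Equiv.subtypeEquivRight fun g => ?_).trans
        ((swEquiv fun g => g * g = 1 ∧ g * J = J * g).trans
          (Equiv.subtypeEquivRight fun h => and_congr (hmul1 h) (by rw [← hJ0]; exact hcom h J0))))
      exact ⟨fun hg => ⟨hg.2.1, swap_back hg.1 hg.2.1, hg.1, hg.2.2⟩,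
        fun hg => ⟨hg.2.2.1, hg.1, hg.2.2.2⟩⟩
    · rw [← F.outerRoot σ hs hσσ, ← hψc fun π => σ * π * (σ * π) = ι, ← Nat.card_coe_set_eq]
      refine Nat.card_congr ((Equiv.subtypeEquivRight fun g => ?_).trans
        ((swEquiv fun g => g * g = J).trans
          (Equiv.subtypeEquivRight fun h => by rw [← hJ0]; exact hmul h J0)))
      exact ⟨fun hg => ⟨hg.2.1, hg.2.2, hg.1⟩, fun hg => ⟨hg.2.2, hg.1, hg.2.1⟩⟩
    · have hm := hsw g g1 g2
      have hgg : g = τ * ((⟨τ * g, hm⟩ : H) : G) := by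
        show g = τ * (τ * g)
        rw [← mul_assoc, hττ, one_mul]
      intro hc
      rw [hgg] at hg hc
      refine F.outerMove σ hs hσσ (ψ ⟨τ * g, hm⟩) (hψs _) ?_ (ψ ⟨w, hw.1⟩) (hψs _)
        ((hmemV ⟨w, hw.1⟩).mp hw) ?_ ?_ ((hcom _ ⟨w, hw.1⟩).mp hc)
      · rw [← hJ0]; exact (hcom _ J0).mp hg
      · exact fun e1 => hw1 ((hne1 ⟨w, hw.1⟩).mpr e1)
      · rw [← hJ0]
        exact fun e1 => hwJ (congrArg Subtype.val (hψi e1))

end Cfsg.Agent.TwoPtAlt
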