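import Cfsg.Agent.Lib.Char.WielandtFormula
import Cfsg.Agent.Lib.OddChar.OddTheorem
import Cfsg.Agent.Lib.Classical.FourGroup

/-!
# A four-group acting on a normal subgroup of odd order

The order formula of Brauer and Wielandt `|K| |C_K(V)|² = |C_K(a)| |C_K(b)| |C_K(ab)|`, and its form
for a four-group with three conjugate involutions.
-/

set_option autoImplicit false
set_option linter.unusedSectionVars false
set_option linter.style.haveILetI false

namespace Cfsg.Agent.TwoPtAlt

open scoped Classical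

universe u

variable {X : Type u} [Group X] [Finite X]

/-- The powers of an element of square one. -/
theorem mem_zpowers_sq_one {M : Type*} [Group M] {z g : M} (hz : z * z = 1) :
    g ∈ Subgroup.zpowers z ↔ g = 1 ∨ g = z := by
  constructor
  · rintro ⟨k, rfl⟩
    rcases Int.even_or_odd' k with ⟨m, rfl | rfl⟩
    · left; simp [zpow_mul, show z ^ 2 = 1 by rw [pow_two]; exact hz]
    · right; simp [zpow_add, zpow_mul, show z ^ 2 = 1 by rw [pow_two]; exact hz]
  · rintro (rfl | rfl)
    · exact one_mem _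
    · exact Subgroup.mem_zpowers _

/-- Brauer and Wielandt for a four-group acting on a normal subgroup of odd order. -/
theorem klein_fixed_formula (V : Subgroup X) (hV : IsKleinFour V) (K : Subgroup X) [K.Normal]
    (hK : Odd (Nat.card K)) {a b : X} (ha : a ∈ V) (hb : b ∈ V) (ha1 : a ≠ 1) (hb1 : b ≠ 1)
    (hab : a ≠ b) :
    Nat.card K * (Nat.card ↥(K ⊓ Subgroup.centralizer (V : Set X))) ^ 2 =
      Nat.card ↥(K ⊓ Subgroup.centralizer ({a} : Set X)) *
        Nat.card ↥(K ⊓ Subgroup.centralizer ({b} : Set X)) *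
        Nat.card ↥(K ⊓ Subgroup.centralizer ({a * b} : Set X)) := by
  have haa := FourGroup.mul_self_of_mem hV ha
  have hbb := FourGroup.mul_self_of_mem hV hb
  have hcc := FourGroup.mul_self_of_mem hV (mul_mem ha hb)
  have hVe : ∀ g : X, g ∈ V → g = 1 ∨ g = a ∨ g = b ∨ g = a * b := fun g hg => by
    have e := FourGroup.eq_four hV ha hb ha1 hb1 hab
    rw [e] at hg
    exact FourGroup.mem_four.1 hg
  let za : V := ⟨a, ha⟩
  let zb : V := ⟨b, hb⟩
  have sa : za * za = 1 := Subtype.ext haa
  have sb : zb * zb = 1 := Subtype.ext hbb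
  have sc : za * zb * (za * zb) = 1 := Subtype.ext hcc
  let S : Fin 5 → Subgroup V :=
    ![⊥, ⊤, Subgroup.zpowers za, Subgroup.zpowers zb, Subgroup.zpowers (za * zb)]
  let wl : Fin 5 → ℕ := ![2, 1, 0, 0, 0]
  let wr : Fin 5 → ℕ := ![0, 0, 1, 1, 1]
  have hrel : ∀ g : V, ∑ i, (if g ∈ S i then wl i else 0) = ∑ i, (if g ∈ S i then wr i else 0) := by
    intro g
    have ne1 : za ≠ zb := fun e => hab (congrArg Subtype.val e)
    have na : za ≠ 1 := fun e => ha1 (congrArg Subtype.val e)
    have nb : zb ≠ 1 := fun e => hb1 (congrArg Subtype.val e)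
    have nc : za * zb ≠ 1 := fun e => ne1 (by
      calc za = za * (zb * zb) := by rw [sb, mul_one]
        _ = za * zb * zb := by rw [mul_assoc]
        _ = zb := by rw [e, one_mul])
    have nca : za * zb ≠ za := fun e => nb (mul_eq_left.mp e)
    have ncb : za * zb ≠ zb := fun e => na (mul_eq_right.mp e)
    have hg : g = 1 ∨ g = za ∨ g = zb ∨ g = za * zb := by
      rcases hVe g g.2 with e | e | e | e
      · exact Or.inl (Subtype.ext e)
      · exact Or.inr (Or.inl (Subtype.ext e))
      · exact Or.inr (Or.inr (Or.inl (Subtype.ext e)))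
      · exact Or.inr (Or.inr (Or.inr (Subtype.ext e)))
    simp only [S, wl, wr, Fin.sum_univ_five, Matrix.cons_val_zero, Matrix.cons_val_one,
      Matrix.cons_val, Subgroup.mem_bot, Subgroup.mem_top, if_true, mem_zpowers_sq_one sa,
      mem_zpowers_sq_one sb, mem_zpowers_sq_one sc, ite_self]
    rcases hg with rfl | rfl | rfl | rfl <;>
      simp [na, nb, nc, nca, ncb, ne1, ne1.symm, nca.symm, ncb.symm]
  have hcop : Nat.Coprime (Nat.card K) (Nat.card V) := by
    rw [hV.card_four]
    exact Nat.Coprime.pow_right 2 (Nat.coprime_two_right.2 hK)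
  have h := Char.Wielandt.formula S wl wr hrel (Nat.card K) X V.subtype K rfl hcop
    (OddChar.oddSolvable K hK)
  have e0 : Char.Wielandt.fixC V.subtype K ⊥ = K := by
    refine inf_eq_left.2 fun x _ => Subgroup.mem_centralizer_iff.2 ?_
    rw [Subgroup.map_bot]
    intro y hy
    rw [Subgroup.mem_bot.1 hy, one_mul, mul_one]
  have e1 : Char.Wielandt.fixC V.subtype K ⊤ = K ⊓ Subgroup.centralizer (V : Set X) := by
    rw [Char.Wielandt.fixC, ← MonoidHom.range_eq_map, Subgroup.range_subtype]
  have ez : ∀ z : V, Char.Wielandt.fixC V.subtype K (Subgroup.zpowers z) =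
      K ⊓ Subgroup.centralizer ({(z : X)} : Set X) := by
    intro z
    rw [Char.Wielandt.fixC, MonoidHom.map_zpowers, Subgroup.zpowers_eq_closure,
      Subgroup.centralizer_closure]
    rfl
  have cz : ∀ z : V, z * z = 1 → z ≠ 1 → Nat.card (Subgroup.zpowers z) = 2 := fun z hz h1 => by
    rw [Nat.card_zpowers]
    exact orderOf_eq_prime (by rw [pow_two]; exact hz) h1
  have c1 := cz za sa fun e => ha1 (congrArg Subtype.val e)
  have c2 := cz zb sb fun e => hb1 (congrArg Subtype.val e)
  have c3 := cz (za * zb) sc fun e => hab (by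
    calc a = a * (b * b) := by rw [hbb, mul_one]
      _ = a * b * b := by rw [mul_assoc]
      _ = b := by rw [show a * b = 1 from congrArg Subtype.val e, one_mul])
  simp only [S, wl, wr, Fin.prod_univ_five, Matrix.cons_val_zero, Matrix.cons_val_one,
    Matrix.cons_val, e0, e1, ez, Subgroup.card_bot, Subgroup.card_top, c1, c2, c3, hV.card_four,
    zero_mul, one_mul, pow_zero, mul_one] at h
  refine Nat.pow_left_injective (show 2 ≠ 0 by norm_num) ?_
  show (_ * _) ^ 2 = (_ * _ * _) ^ 2
  rw [mul_pow, ← pow_mul, mul_pow, mul_pow]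
  exact h

/-- The number `w = |C_K(J) : C_K(V)|` when the involutions of `V` are conjugate. -/
theorem klein_ratio (V : Subgroup X) (hV : IsKleinFour V) (K : Subgroup X) [K.Normal]
    (hK : Odd (Nat.card K)) {J : X} (hJ : J ∈ V) (hJ1 : J ≠ 1)
    (htr : ∀ v ∈ V, v ≠ 1 → ∃ g : X, g * J * g⁻¹ = v) :
    ∃ w, Odd w ∧ Nat.card ↥(K ⊓ Subgroup.centralizer ({J} : Set X)) =
        w * Nat.card ↥(K ⊓ Subgroup.centralizer (V : Set X)) ∧
      Nat.card K = w ^ 2 * Nat.card ↥(K ⊓ Subgroup.centralizer ({J} : Set X)) := by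
  set A := K ⊓ Subgroup.centralizer ({J} : Set X) with hA
  set C0 := K ⊓ Subgroup.centralizer (V : Set X) with hC0
  have hle : C0 ≤ A := inf_le_inf_left _ (Subgroup.centralizer_le (Set.singleton_subset_iff.2 hJ))
  obtain ⟨w, hw⟩ := Subgroup.card_dvd_of_le hle
  have heq : ∀ v ∈ V, v ≠ 1 → Nat.card ↥(K ⊓ Subgroup.centralizer ({v} : Set X)) = Nat.card A := by
    intro v hv hv1
    obtain ⟨g, rfl⟩ := htr v hv hv1
    have hm : A.map (MulAut.conj g).toMonoidHom =
        K ⊓ Subgroup.centralizer ({g * J * g⁻¹} : Set X) := by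
      ext y
      rw [Subgroup.mem_map_equiv, hA, Subgroup.mem_inf, Subgroup.mem_inf,
        Subgroup.mem_centralizer_singleton_iff, Subgroup.mem_centralizer_singleton_iff,
        MulAut.conj_symm_apply]
      refine and_congr ⟨fun h => ?_, fun h => ?_⟩ ⟨fun h => ?_, fun h => ?_⟩
      · have := (inferInstance : K.Normal).conj_mem _ h g
        simpa [mul_assoc] using this
      · have := (inferInstance : K.Normal).conj_mem _ h g⁻¹
        simpa [mul_assoc] using this
      · calc y * (g * J * g⁻¹) = g * (g⁻¹ * y * g * J) * g⁻¹ := by group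
          _ = g * (J * (g⁻¹ * y * g)) * g⁻¹ := by rw [h]
          _ = g * J * g⁻¹ * y := by group
      · calc g⁻¹ * y * g * J = g⁻¹ * (y * (g * J * g⁻¹)) * g := by group
          _ = g⁻¹ * (g * J * g⁻¹ * y) * g := by rw [h]
          _ = J * (g⁻¹ * y * g) := by group
    rw [← hm]
    exact Subgroup.card_map_of_injective (MulAut.conj g).injective
  obtain ⟨b, hb, hb1, hbJ⟩ := FourGroup.exists_two hV (a := J)
  have hJb : J * b ≠ 1 := fun e => hbJ (by
    rw [← inv_eq_of_mul_eq_one_right e, inv_eq_of_mul_eq_one_right (FourGroup.mul_self_of_mem hV hJ)])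
  have h := klein_fixed_formula V hV K hK hJ hb hJ1 hb1 hbJ.symm
  rw [heq b hb hb1, heq _ (mul_mem hJ hb) hJb, ← hA, ← hC0, hw] at h
  have hwo : Odd w := (hK.of_dvd_nat (Subgroup.card_dvd_of_le (inf_le_left : A ≤ K))).of_dvd_nat
    ⟨Nat.card C0, by rw [hw, mul_comm]⟩
  refine ⟨w, hwo, by rw [hw, mul_comm], ?_⟩
  rw [hw]
  refine Nat.eq_of_mul_eq_mul_right (pow_pos (Nat.card_pos (α := C0)) 2) ?_
  rw [h]
  ring

end Cfsg.Agent.TwoPtAlt
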