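import Cfsg.Agent.Lib.TwoPtAlt.Init
import Cfsg.Agent.Lib.Perm.Sharp

/-!
# Two-point stabilisers isomorphic to `A₄` or `A₅`: `C(J) ∩ N(V)` on the fixed points of `V`
-/

set_option autoImplicit false
set_option linter.unusedSectionVars false
set_option linter.style.haveILetI false

namespace Cfsg.Agent.TwoPtAlt

open MulAction Cfsg.Agent.Zass
open scoped Classical

universe u v

variable {G : Type u} [Group G] [Finite G] {Ω : Type v} [MulAction G Ω] [Fintype Ω]

/-- The number of fixed points of an involution has the parity of the degree. -/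
theorem invol_parity {s : G} (hs : orderOf s = 2) : Nat.card Ω % 2 = fx1 Ω s % 2 := by
  haveI : Fact (Nat.Prime 2) := ⟨Nat.prime_two⟩
  have hP : IsPGroup 2 (Subgroup.zpowers s) :=
    IsPGroup.of_card (n := 1) (by rw [Nat.card_zpowers, hs, pow_one])
  have h := hP.card_modEq_card_fixedPoints Ω
  have e : Nat.card (fixedPoints (Subgroup.zpowers s) Ω) = fx1 Ω s := by
    rw [Nat.card_coe_set_eq]
    congr 1
    ext p
    exact ⟨fun hp => hp ⟨s, Subgroup.mem_zpowers s⟩,
      fun hp g => (Subgroup.zpowers_le.2 (show s ∈ stabilizer G p from hp) g.2 : _)⟩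
  rw [e] at h
  exact h

namespace Data

variable {a b : Ω} {V : Subgroup G} {J : G} {hh : ℕ} (d : Data a b V J hh)
include d

theorem norm_of_cent_two {g : G} (hH : ∀ h ∈ Zass.two (G := G) a b, g * h * g⁻¹ ∈ Zass.two (G := G) a b)
    (hg : g * J = J * g) : g ∈ Subgroup.normalizer (V : Set G) := by
  refine d.conj_V_eq (fun v hv => hH v (d.le hv)) fun v hv => ?_
  have hgJ : g * J * g⁻¹ = J := mul_inv_eq_iff_eq_mul.mpr hg
  calc g * v * g⁻¹ * J = g * v * g⁻¹ * (g * J * g⁻¹) := by rw [hgJ]
    _ = g * (v * J) * g⁻¹ := by group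
    _ = g * J * g⁻¹ * (g * v * g⁻¹) := by rw [d.comm hv d.memJ]; group
    _ = J * (g * v * g⁻¹) := by rw [hgJ]

theorem swap_two {g : G} (g1 : g • a = b) (g2 : g • b = a) :
    ∀ h ∈ Zass.two (G := G) a b, g * h * g⁻¹ ∈ Zass.two (G := G) a b := fun h hh' => by
  have e1 : g⁻¹ • a = b := by rw [inv_smul_eq_iff, g2]
  have e2 : g⁻¹ • b = a := by rw [inv_smul_eq_iff, g1]
  exact mem_two.mpr ⟨by rw [mul_smul, mul_smul, e1, (mem_two.mp hh').2, g2],
    by rw [mul_smul, mul_smul, e2, (mem_two.mp hh').1, g1]⟩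

theorem j_even_or_odd : Nat.card Ω % 2 = fx1 Ω J % 2 := invol_parity d.orderJ

/-- An element of `C(J) ∩ N(V)` fixing two fixed points of `V` lies in `V`. -/
theorem mem_V_of_fixed {g : G} (hg : g * J = J * g) (_hgN : g ∈ Subgroup.normalizer (V : Set G))
    {c c' : Ω} (hne : c ≠ c') (hc : ∀ v ∈ V, v • c = c) (hc' : ∀ v ∈ V, v • c' = c')
    (hgc : g • c = c) (hgc' : g • c' = c') : g ∈ V := by
  obtain ⟨k, hk, k1, k2⟩ := d.wittV hne hc hc'
  have hkc := Subgroup.mem_centralizer_singleton_iff.mp hk.1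
  have hkJ : k⁻¹ * J * k = J := by rw [mul_assoc, ← hkc, inv_mul_cancel_left]
  have hm : k⁻¹ * g * k ∈ V := by
    refine d.cent _ (mem_two.mpr ⟨?_, ?_⟩) ?_
    · rw [mul_smul, mul_smul, k1, hgc, inv_smul_eq_iff, k1]
    · rw [mul_smul, mul_smul, k2, hgc', inv_smul_eq_iff, k2]
    · calc k⁻¹ * g * k * J = k⁻¹ * g * (k * J) := by group
        _ = k⁻¹ * (g * J) * k := by rw [hkc]; group
        _ = k⁻¹ * J * k * (k⁻¹ * g * k) := by rw [hg]; group
        _ = J * (k⁻¹ * g * k) := by rw [hkJ]
  have := (Subgroup.mem_normalizer_iff.mp hk.2 (k⁻¹ * g * k)).mp hm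
  rwa [show k * (k⁻¹ * g * k) * k⁻¹ = g by group] at this

/-- The facts given by the sharply two-transitive action on the fixed points of `V`. -/
theorem sharp_facts :
    (∃ p m : ℕ, p.Prime ∧ 1 ≤ m ∧ fxS Ω V = p ^ m) ∧
    (∀ g g' : G, g * J = J * g → g ∈ Subgroup.normalizer (V : Set G) → g' * J = J * g' →
      g' ∈ Subgroup.normalizer (V : Set G) → g ∉ V → g' ∉ V → g * g ∈ V → g' * g' ∈ V →
      ∀ c : Ω, (∀ v ∈ V, v • c = c) → g • c = c → g' • c = c → g⁻¹ * g' ∈ V) ∧
    (Even (fxS Ω V) → 4 ≤ fxS Ω V → ∀ g : G, g * J = J * g →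
      g ∈ Subgroup.normalizer (V : Set G) → ∀ w ∈ V, g * w = w * g) := by
  set K : Subgroup G := Subgroup.centralizer ({J} : Set G) ⊓ Subgroup.normalizer (V : Set G) with hK
  let Δ := {p : Ω // ∀ v ∈ V, v • p = p}
  letI : MulAction K Δ :=
    { smul := fun k p => ⟨(k : G) • p.1, d.norm_maps k.2.2 p.2⟩
      one_smul := fun p => Subtype.ext (one_smul G p.1)
      mul_smul := fun k l p => Subtype.ext (mul_smul (k : G) (l : G) p.1) }
  let φ : K →* Equiv.Perm Δ := MulAction.toPermHom K Δ
  have hφ : ∀ (k : K) (p : Δ), (φ k p).1 = (k : G) • p.1 := fun _ _ => rfl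
  let A : Δ := ⟨a, d.a_fixed⟩
  let B : Δ := ⟨b, d.b_fixed⟩
  have hcardΔ : Nat.card Δ = fxS Ω V := Nat.card_coe_set_eq _
  have hker : ∀ k : K, φ k = 1 ↔ (k : G) ∈ V := fun k => by
    refine ⟨fun h => ?_, fun h => ?_⟩
    · have ha := congrArg Subtype.val (DFunLike.congr_fun h A)
      have hb := congrArg Subtype.val (DFunLike.congr_fun h B)
      exact d.mem_V_of_fixed (Subgroup.mem_centralizer_singleton_iff.mp k.2.1) k.2.2 d.ne d.a_fixed
        d.b_fixed ha hb
    · exact Equiv.ext fun p => Subtype.ext (p.2 _ h)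
  have h2R : IsMultiplyPretransitive φ.range Δ 2 := by
    rw [is_two_pretransitive_iff]
    intro p p' q q' hp hq
    have hp' : p.1 ≠ p'.1 := fun e => hp (Subtype.ext e)
    have hq' : q.1 ≠ q'.1 := fun e => hq (Subtype.ext e)
    obtain ⟨k, hk, k1, k2⟩ := d.wittV hp' p.2 p'.2
    obtain ⟨l, hl, l1, l2⟩ := d.wittV hq' q.2 q'.2
    refine ⟨⟨φ ⟨l * k⁻¹, mul_mem hl (inv_mem hk)⟩, _, rfl⟩, Subtype.ext ?_, Subtype.ext ?_⟩
    · show (l * k⁻¹) • p.1 = q.1
      rw [mul_smul, ← k1, inv_smul_smul, l1]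
    · show (l * k⁻¹) • p'.1 = q'.1
      rw [mul_smul, ← k2, inv_smul_smul, l2]
  have hsharp : ∀ (g : φ.range) (p p' : Δ), p ≠ p' → g • p = p → g • p' = p' → g = 1 := by
    rintro ⟨_, k, rfl⟩ p p' hne h1 h2
    refine Subtype.ext ((hker k).mpr ?_)
    exact d.mem_V_of_fixed (Subgroup.mem_centralizer_singleton_iff.mp k.2.1) k.2.2
      (fun e => hne (Subtype.ext e)) p.2 p'.2 (congrArg Subtype.val h1) (congrArg Subtype.val h2)
  obtain ⟨p, m, N, hp, hm, hΔ, hN, hNc, -, hNab, hNp, -, hNuniq⟩ :=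
    PermSharp.exists_regular_normal h2R (by rw [hcardΔ]; exact d.two_le_j) hsharp
  rw [hcardΔ] at hΔ
  refine ⟨⟨p, m, hp, hm, hΔ⟩, ?_, ?_⟩
  · intro g g' hgJ hgN hg'J hg'N hgV hg'V hg2 hg'2 c hc hgc hg'c
    let C : Δ := ⟨c, hc⟩
    have hinv : ∀ k : K, (k : G) ∉ V → (k : G) * k ∈ V → (k : G) • c = c →
        ∀ x ∈ N, (⟨φ k, k, rfl⟩ : φ.range) * x * ⟨φ k, k, rfl⟩ = x⁻¹ := by
      intro k hkV hk2 hkc x hx
      set t : φ.range := ⟨φ k, k, rfl⟩ with ht
      have ht2 : t * t = 1 := Subtype.ext (by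
        show φ k * φ k = 1
        rw [← map_mul]
        exact (hker (k * k)).mpr hk2)
      have hti : t⁻¹ = t := inv_eq_of_mul_eq_one_right ht2
      have htC : t • C = C := Subtype.ext hkc
      have htx : t * x * t ∈ N := by simpa only [hti] using hN.conj_mem x hx t
      set y := x * (t * x * t) with hy
      have hyN : y ∈ N := mul_mem hx htx
      have hty : t * y * t = y := by
        calc t * y * t = t * x * t * x * (t * t) := by rw [hy]; group
          _ = t * x * t * x := by rw [ht2, mul_one]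
          _ = y := hNab _ htx _ hx
      have hyC : t • (y • C) = y • C := by
        calc t • (y • C) = (t * y * t) • (t • C) := by
              rw [← mul_smul, ← mul_smul, mul_assoc (t * y), ht2, mul_one]
          _ = y • C := by rw [hty, htC]
      have hy1 : y = 1 := by
        by_contra hy1
        rcases eq_or_ne (y • C) C with e | e
        · exact hy1 ((hNuniq C C).unique ⟨hyN, e⟩ ⟨N.one_mem, one_smul _ _⟩)
        · exact hkV ((hker k).mp (congrArg Subtype.val (hsharp t _ _ e hyC htC)))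
      rw [eq_inv_iff_mul_eq_one, ← hNab _ hx _ htx]
      exact hy1
    let k : K := ⟨g, Subgroup.mem_centralizer_singleton_iff.mpr hgJ, hgN⟩
    let k' : K := ⟨g', Subgroup.mem_centralizer_singleton_iff.mpr hg'J, hg'N⟩
    have hk := hinv k hgV hg2 hgc
    have hk' := hinv k' hg'V hg'2 hg'c
    set t : φ.range := ⟨φ k, k, rfl⟩
    set t' : φ.range := ⟨φ k', k', rfl⟩
    have htC : t • C = C := Subtype.ext hgc
    have ht'C : t' • C = C := Subtype.ext hg'c
    have htt : t * t = 1 := Subtype.ext (by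
      show φ k * φ k = 1
      rw [← map_mul]
      exact (hker (k * k)).mpr hg2)
    have hti : t⁻¹ = t := inv_eq_of_mul_eq_one_right htt
    have hall : ∀ q : Δ, (t⁻¹ * t') • q = q := fun q => by
      obtain ⟨x, ⟨hx, hxq⟩, -⟩ := hNuniq C q
      have e : t⁻¹ * t' * x = x * (t⁻¹ * t') := by
        have h1 := hk' x hx
        have h2 := hk x⁻¹ (inv_mem hx)
        rw [inv_inv] at h2
        have ht't' : t'⁻¹ = t' := inv_eq_of_mul_eq_one_right (Subtype.ext (by
          show φ k' * φ k' = 1
          rw [← map_mul]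
          exact (hker (k' * k')).mpr hg'2))
        calc t⁻¹ * t' * x = t * (t' * x * t') * t'⁻¹ := by rw [hti]; group
          _ = t * x⁻¹ * t * (t⁻¹ * t'⁻¹) := by rw [h1]; group
          _ = x * (t⁻¹ * t') := by rw [h2, ht't']
      rw [← hxq, ← mul_smul, e, mul_smul, mul_smul, ht'C, hti, htC]
    have : φ (k⁻¹ * k') = 1 := by
      refine Equiv.ext fun q => ?_
      rw [map_mul, map_inv]
      exact hall q
    exact (hker _).mp this
  · intro he h4
    let P : G → Prop := fun g => ∀ w ∈ V, g * w = w * g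
    have hdich : ∀ g : G, g * J = J * g → g ∈ Subgroup.normalizer (V : Set G) → ∀ w ∈ V, w ≠ 1 →
        w ≠ J → g * w * g⁻¹ = w ∨ g * w * g⁻¹ = w * J := by
      intro g hgJ hgN w hw hw1 hwJ
      have hm := (Subgroup.mem_normalizer_iff.mp hgN w).mp hw
      have hsub : ({1, J, w, w * J} : Set G) ⊆ (V : Set G) := by
        simp [Set.insert_subset_iff, one_mem, d.memJ, hw, mul_mem hw d.memJ]
      have hwJ1 : w * J ≠ 1 := fun e => hwJ (by
        rw [mul_eq_one_iff_eq_inv] at e
        exact e.trans (inv_eq_of_mul_eq_one_right (d.sq d.memJ)))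
      have hc4 : Set.ncard ({1, J, w, w * J} : Set G) = 4 := by
        rw [Set.ncard_insert_of_notMem, Set.ncard_insert_of_notMem, Set.ncard_pair]
        · exact fun e => d.neJ (mul_eq_left.mp e.symm)
        · simp only [Set.mem_insert_iff, Set.mem_singleton_iff]
          rintro (e | e)
          · exact hwJ e.symm
          · exact hw1 (mul_eq_right.mp e.symm)
        · simp only [Set.mem_insert_iff, Set.mem_singleton_iff]
          rintro (e | e | e)
          · exact d.neJ e.symm
          · exact hw1 e.symm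
          · exact hwJ1 e.symm
      have hset := Set.eq_of_subset_of_ncard_le hsub (by
        rw [hc4, ← Nat.card_coe_set_eq]; exact d.card_V.le) (Set.toFinite _)
      have hclo : g * w * g⁻¹ = 1 ∨ g * w * g⁻¹ = J ∨ g * w * g⁻¹ = w ∨ g * w * g⁻¹ = w * J := by
        have := hset.ge hm
        simpa using this
      rcases hclo with e | e | e | e
      · exact absurd (conj_eq_one_iff.mp e) hw1
      · refine absurd ?_ hwJ
        have hgJ' : g * J * g⁻¹ = J := mul_inv_eq_iff_eq_mul.mpr hgJ
        exact mul_left_cancel (mul_right_cancel (e.trans hgJ'.symm))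
      · exact Or.inl e
      · exact Or.inr e
    have hPV : ∀ v ∈ V, P v := fun v hv w hw => d.comm hv hw
    -- products of two elements moving `V` centralise it
    have hmul : ∀ g h : G, g * J = J * g → g ∈ Subgroup.normalizer (V : Set G) → h * J = J * h →
        h ∈ Subgroup.normalizer (V : Set G) → ¬ P g → ¬ P h → P (g * h) := by
      intro g h hgJ hgN hhJ hhN hg hh' w hw
      rcases eq_or_ne w 1 with rfl | hw1
      · rw [mul_one, one_mul]
      rcases eq_or_ne w J with rfl | hwJ
      · rw [mul_assoc, hhJ, ← mul_assoc, hgJ, mul_assoc]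
      have key : ∀ x : G, x * J = J * x → x ∈ Subgroup.normalizer (V : Set G) → ¬ P x →
          x * w * x⁻¹ = w * J := by
        intro x hxJ hxN hx
        refine (hdich x hxJ hxN w hw hw1 hwJ).resolve_left fun e => hx ?_
        intro v hv
        have hle : Subgroup.closure ({J, w} : Set G) ≤ Subgroup.centralizer ({x} : Set G) := by
          rw [Subgroup.closure_le]
          intro y hy
          rcases hy with hy | hy <;> subst y
          · exact Subgroup.mem_centralizer_singleton_iff.mpr hxJ.symm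
          · exact Subgroup.mem_centralizer_singleton_iff.mpr (mul_inv_eq_iff_eq_mul.mp e).symm
        exact (Subgroup.mem_centralizer_singleton_iff.mp (hle ((d.closure_eq hw hw1 hwJ).ge hv))).symm
      refine mul_inv_eq_iff_eq_mul.mp ?_
      calc g * h * w * (g * h)⁻¹ = g * (h * w * h⁻¹) * g⁻¹ := by group
        _ = g * w * g⁻¹ * (g * J * g⁻¹) := by rw [key h hhJ hhN hh']; group
        _ = w * J * J := by rw [key g hgJ hgN hg, mul_inv_eq_iff_eq_mul.mpr hgJ]
        _ = w := by rw [mul_assoc, d.sq d.memJ, mul_one]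
    have hsubP : ∀ g h : G, P g → P h → P (g * h) := fun g h hg hh' w hw => by
      rw [mul_assoc, hh' w hw, ← mul_assoc, hg w hw, mul_assoc]
    have hinvP : ∀ g : G, P g → P g⁻¹ := fun g hg w hw => by
      rw [inv_mul_eq_iff_eq_mul, ← mul_assoc, hg w hw, mul_inv_cancel_right]
    have hKJ : ∀ k : K, (k : G) * J = J * k := fun k => Subgroup.mem_centralizer_singleton_iff.mp k.2.1
    have hPK : ∀ k l : K, P ((k * l : K) : G) ↔ (P k ↔ P l) := fun k l => by
      constructor
      · intro h
        constructor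
        · intro hk
          have := hsubP _ _ (hinvP _ hk) h
          rwa [Subgroup.coe_mul, inv_mul_cancel_left] at this
        · intro hl
          have := hsubP _ _ h (hinvP _ hl)
          rwa [Subgroup.coe_mul, mul_inv_cancel_right] at this
      · intro h
        rcases em (P k) with hk | hk
        · exact hsubP _ _ hk (h.mp hk)
        · exact hmul _ _ (hKJ k) k.2.2 (hKJ l) l.2.2 hk (fun hl => hk (h.mpr hl))
    have hPeq : ∀ k l : K, φ k = φ l → (P k ↔ P l) := by
      intro k l e
      have hv : ((k⁻¹ * l : K) : G) ∈ V := (hker _).mp (by rw [map_mul, map_inv, e, inv_mul_cancel])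
      have := (hPK k (k⁻¹ * l))
      rw [mul_inv_cancel_left] at this
      constructor
      · intro hk; exact this.mpr (iff_of_true hk (hPV _ hv))
      · intro hl; exact (this.mp hl).mpr (hPV _ hv)
    have hodd : ¬ 2 ∣ fxS Ω V - 1 := by obtain ⟨t, ht⟩ := he; omega
    -- the stabiliser of `a` centralises `V`
    have hstab : ∀ k : K, (k : G) • a = a → P k := by
      intro k hka
      by_contra hk
      set Ka : Subgroup G := K ⊓ stabilizer G a
      have hc : Nat.card Ka = 4 * (fxS Ω V - 1) := d.card_cent_norm.2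
      have hmem : (k : G) ∈ Ka := ⟨k.2, hka⟩
      have h2 : P ((k : G) * k) := hmul _ _ (hKJ k) k.2.2 (hKJ k) k.2.2 hk hk
      obtain ⟨t, ht⟩ := Nat.odd_iff.mpr (show (fxS Ω V - 1) % 2 = 1 by omega)
      have hpow : (k : G) ^ (fxS Ω V - 1) ∈ V := by
        have hV : V ≤ Ka := fun v hv => ⟨⟨Subgroup.mem_centralizer_singleton_iff.mpr (d.comm hv d.memJ),
          Subgroup.le_normalizer hv⟩, d.a_fixed v hv⟩
        haveI : (V.subgroupOf Ka).Normal := ⟨fun x hx g => by
          rw [Subgroup.mem_subgroupOf] at hx ⊢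
          exact (Subgroup.mem_normalizer_iff.mp g.2.1.2 _).mp hx⟩
        have hi : (V.subgroupOf Ka).index = fxS Ω V - 1 := by
          have h := Subgroup.card_mul_index (V.subgroupOf Ka)
          rw [Nat.card_congr (Subgroup.subgroupOfEquivOfLe hV).toEquiv, d.card_V, hc] at h
          omega
        have := Subgroup.pow_index_mem (V.subgroupOf Ka) (⟨k, hmem⟩ : Ka)
        rw [hi] at this
        exact this
      refine hk ?_
      have hpk : ∀ s : ℕ, P (((k : G) * k) ^ s) := fun s => by
        induction s with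
        | zero => rw [pow_zero]; exact fun w _ => by rw [one_mul, mul_one]
        | succ s ih => rw [pow_succ]; exact hsubP _ _ ih h2
      have e : (k : G) = (k : G) ^ (fxS Ω V - 1) * (((k : G) * k) ^ t)⁻¹ := by
        rw [eq_mul_inv_iff_mul_eq, ht, ← pow_two, ← pow_mul, ← pow_succ']
      rw [e]
      exact hsubP _ _ (hPV _ hpow) (hinvP _ (hpk t))
    -- and so do the translations
    have hp2 : p = 2 := by
      have hev : 2 ∣ p ^ m := by rw [← hΔ]; exact he.two_dvd
      exact ((Nat.prime_dvd_prime_iff_eq Nat.prime_two hp).mp (Nat.prime_two.dvd_of_dvd_pow hev)).symm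
    have htrans : ∀ x : φ.range, x ∈ N → ∀ k : K, φ k = x.1 → P k := by
      have conjP : ∀ x : φ.range, x ∈ N → x ≠ 1 → ∀ y : φ.range, y ∈ N → y ≠ 1 →
          ∀ k l : K, φ k = x.1 → φ l = y.1 → (P k ↔ P l) := by
        intro x hx hx1 y hy hy1 k l hk hl
        have hne : ∀ z : φ.range, z ∈ N → z ≠ 1 → z • A ≠ A := fun z hz hz1 e =>
          hz1 ((hNuniq A A).unique ⟨hz, e⟩ ⟨N.one_mem, one_smul _ _⟩)
        obtain ⟨r, r1, r2⟩ := (is_two_pretransitive_iff.mp h2R) (Ne.symm (hne x hx hx1))
          (Ne.symm (hne y hy hy1))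
        obtain ⟨_, kr, rfl⟩ := r
        set r : φ.range := ⟨φ kr, kr, rfl⟩
        have e : r * x * r⁻¹ = y := (hNuniq A (y • A)).unique ⟨hN.conj_mem x hx r, by
          rw [mul_smul, mul_smul, show r⁻¹ • A = A by rw [inv_smul_eq_iff, r1], r2]⟩ ⟨hy, rfl⟩
        have e2 : φ (kr * k * kr⁻¹) = φ l := by
          rw [map_mul, map_mul, map_inv, hk, hl, ← e]
          rfl
        have hr : P kr := hstab kr (congrArg Subtype.val r1)
        rw [← hPeq _ _ e2, hPK, hPK]
        have hr' : P ((kr⁻¹ : K) : G) := hinvP _ hr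
        simp only [hr, hr', true_iff, iff_true]
      intro x hx k hk
      rcases eq_or_ne x 1 with rfl | hx1
      · exact hPV _ ((hker k).mp hk)
      by_contra hPk
      obtain ⟨y, hy, hy1, hyx⟩ : ∃ y ∈ N, y ≠ 1 ∧ y ≠ x := by
        by_contra hno
        push Not at hno
        have hsub : (N : Set φ.range) ⊆ {1, x} := fun y hy => (em (y = 1)).elim Or.inl fun h => Or.inr (hno y hy h)
        have := Set.ncard_le_ncard hsub (Set.toFinite _)
        rw [← Nat.card_coe_set_eq] at this
        have h2 := Set.ncard_pair (a := (1 : φ.range)) (b := x) (Ne.symm hx1)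
        simp only [SetLike.coe_sort_coe] at this
        rw [hNc, hcardΔ, h2] at this
        omega
      obtain ⟨l, hl⟩ := y.2
      have hxy : x * y ≠ 1 := fun e => hyx (by
        have hxx := hNp x hx
        rw [hp2, pow_two] at hxx
        exact mul_left_cancel (e.trans hxx.symm))
      have h1 := conjP x hx hx1 y hy hy1 k l hk hl
      have h2 := conjP x hx hx1 (x * y) (mul_mem hx hy) hxy k (k * l) hk (by
        rw [map_mul, hk, hl]; rfl)
      rw [hPK] at h2
      exact hPk (h2.mpr h1)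
    intro g hgJ hgN w hw
    let k : K := ⟨g, Subgroup.mem_centralizer_singleton_iff.mpr hgJ, hgN⟩
    obtain ⟨x, ⟨hx, hxq⟩, -⟩ := hNuniq A ((⟨φ k, k, rfl⟩ : φ.range) • A)
    obtain ⟨l, hl⟩ := x.2
    have hfix : ((l⁻¹ * k : K) : G) • a = a := by
      rw [Subgroup.coe_mul, Subgroup.coe_inv, mul_smul, inv_smul_eq_iff]
      have e : (φ l A).1 = (φ k A).1 := by rw [hl]; exact congrArg Subtype.val hxq
      exact e.symm
    have h := (hPK l (l⁻¹ * k)).mpr (iff_of_true (htrans x hx l hl) (hstab _ hfix))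
    rw [mul_inv_cancel_left] at h
    exact h w hw

end Data

end Cfsg.Agent.TwoPtAlt
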