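import Cfsg.Agent.Lib.TwoPtAlt.OddLines
import Cfsg.Agent.Lib.TwoPtAlt.Arith
import Cfsg.Agent.Lib.TwoPtAlt.Shape
import Cfsg.Agent.Lib.TwoGroups.CentFour
import Cfsg.Agent.Lib.TwoGroups.QuasiDihedral

/-!
# Two-point stabilisers isomorphic to `A₄` or `A₅`: odd degree, the `S₄`, `S₅` type
-/

set_option autoImplicit false
set_option linter.unusedSectionVars false
set_option linter.style.haveILetI false

namespace Cfsg.Agent.TwoPtAlt

open MulAction Cfsg.Agent.Zass
open scoped Classical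

universe u v

variable {G : Type u} [Group G] [Finite G] {Ω : Type v} [MulAction G Ω] [Fintype Ω]

/-- Three square roots of the central involution of a quasidihedral group. -/
theorem qd_roots {S : Type*} [Group S] [Finite S] (q : QD.Pres S) :
    ∃ r₁ r₂ r₃ : S, r₁ ≠ r₂ ∧ r₁ ≠ r₃ ∧ r₂ ≠ r₃ ∧
      r₁ * r₁ = q.z ∧ r₂ * r₂ = q.z ∧ r₃ * r₃ = q.z := by
  refine ⟨q.x ^ (2 * q.r), q.x ^ (6 * q.r), q.x ^ (1 : ℤ) * q.y, ?_, q.ne_form _ _, q.ne_form _ _,
    ?_, ?_, ?_⟩
  · rw [ne_eq, q.zpow_eq_iff]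
    intro h
    have := Int.le_of_dvd (by linarith [q.r_pos]) (dvd_neg.mpr h)
    linarith [q.r_pos]
  · rw [q.pp, QD.Pres.z, q.zpow_eq_iff]; exact ⟨0, by ring⟩
  · rw [q.pp, QD.Pres.z, q.zpow_eq_iff]; exact ⟨1, by ring⟩
  · rw [q.form_sq, QD.Pres.z, mul_one]

/-- The lower bound for `x` with an even `u`. -/
theorem xval_even_low {w u x : ℕ} (hu : Even u) (hu0 : 0 < u) (hx : XVal w u x) :
    84 * (w * u) ^ 2 ≤ 16 * x := by
  obtain ⟨t, rfl⟩ := hu
  obtain ⟨s, rfl⟩ : ∃ s, t = s + 1 := ⟨t - 1, by omega⟩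
  rcases hx with h | h <;> rw [h]
  · ring_nf; nlinarith
  · rw [show 4 * (s + 1 + (s + 1)) - 1 = 8 * s + 7 by omega,
      show 2 * (s + 1 + (s + 1)) - 1 = 4 * s + 3 by omega]
    ring_nf; nlinarith

namespace Data

variable {a b : Ω} {V : Subgroup G} {J : G} {hh : ℕ} (d : Data a b V J hh)
include d

/-- `C(J) ≤ N(V)` when `J` and `V` have the same fixed points. -/
theorem norm_of_flat (hflat : fx1 Ω J = fxS Ω V) {g : G} (hg : g * J = J * g) :
    g ∈ Subgroup.normalizer (V : Set G) := by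
  have heq := Set.eq_of_subset_of_ncard_le
    (show {p : Ω | ∀ v ∈ V, v • p = p} ⊆ {p : Ω | J • p = p} from fun p hp => hp J d.memJ)
    (by rw [← fx1, ← fxS, hflat]) (Set.toFinite _)
  have hgJ : g * J * g⁻¹ = J := mul_inv_eq_iff_eq_mul.mpr hg
  have hfix : ∀ v ∈ V, ∀ p : Ω, J • p = p → (g * v * g⁻¹) • p = p := by
    intro v hv p hp
    have hgi : g⁻¹ * J = J * g⁻¹ := by
      rw [inv_mul_eq_iff_eq_mul, ← mul_assoc, hg, mul_inv_cancel_right]
    have hp' : J • (g⁻¹ • p) = g⁻¹ • p := d.cent_inv_maps hgi hp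
    rw [mul_smul, mul_smul, heq.ge hp' v hv, smul_inv_smul]
  refine d.conj_V_eq (fun v hv => mem_two.mpr
    ⟨hfix v hv a (d.a_fixed J d.memJ), hfix v hv b (d.b_fixed J d.memJ)⟩) fun v hv => ?_
  calc g * v * g⁻¹ * J = g * v * g⁻¹ * (g * J * g⁻¹) := by rw [hgJ]
    _ = g * (v * J) * g⁻¹ := by group
    _ = g * J * g⁻¹ * (g * v * g⁻¹) := by rw [d.comm hv d.memJ]; group
    _ = J * (g * v * g⁻¹) := by rw [hgJ]

/-- The point stabiliser has no element outside `V` centralising `V` and squaring into it. -/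
theorem cent_V_at {R : ℕ} (hS : SType a b V J R) (hj : Odd (fxS Ω V)) {g : G} (hga : g • a = a)
    (hgV : ∀ v ∈ V, g * v = v * g) (hg2 : g * g ∈ V) : g ∈ V := by
  obtain ⟨ρ, hρ, ρ1, ρ2⟩ : ∃ ρ : G, ρ * ρ = J ∧ ρ • a = b ∧ ρ • b = a :=
    Set.nonempty_of_ncard_ne_zero (s := {s : G | s * s = J ∧ s • a = b ∧ s • b = a})
      (by rw [hS.twoRoot]; omega)
  have hρJ : ρ * J = J * ρ := by rw [← hρ, mul_assoc]
  have hρN := d.swap_norm ρ1 ρ2 hρJ
  have hρV : ρ ∉ V := fun h => d.neJ (hρ.symm.trans (d.sq h))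
  obtain ⟨c, hcV, hρc⟩ := d.exists_swap_fixed hj hρJ hρN (hρ ▸ d.memJ)
  obtain ⟨c', hc', hne⟩ : ∃ c', (∀ v ∈ V, v • c' = c') ∧ c ≠ c' := by
    rcases eq_or_ne c a with e | e
    · exact ⟨b, d.b_fixed, e ▸ d.ne⟩
    · exact ⟨a, d.a_fixed, e⟩
  obtain ⟨k, ⟨hk, hkN⟩, k1, -⟩ := d.wittV hne hcV hc'
  set g' := k * g * k⁻¹ with hg'
  by_contra hgnV
  have hconjV : ∀ v ∈ V, g' * v = v * g' := by
    intro v hv
    have hm : k⁻¹ * v * k ∈ V := (Subgroup.mem_normalizer_iff''.mp hkN v).mp hv
    calc g' * v = k * (g * (k⁻¹ * v * k)) * k⁻¹ := by rw [hg']; group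
      _ = k * ((k⁻¹ * v * k) * g) * k⁻¹ := by rw [hgV _ hm]
      _ = v * g' := by rw [hg']; group
  have hg'nV : g' ∉ V := fun h => hgnV (by
    have := (Subgroup.mem_normalizer_iff''.mp hkN g').mp h
    rwa [hg', show k⁻¹ * (k * g * k⁻¹) * k = g by group] at this)
  have hg'2 : g' * g' ∈ V := by
    rw [hg', show k * g * k⁻¹ * (k * g * k⁻¹) = k * (g * g) * k⁻¹ by group]
    exact (Subgroup.mem_normalizer_iff.mp hkN _).mp hg2
  have hg'c : g' • c = c := by
    rw [hg', mul_smul, mul_smul, inv_smul_eq_iff.mpr k1.symm, hga, k1]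
  have hm := d.sharp_facts.2.1 g' ρ (hconjV J d.memJ)
    (Subgroup.centralizer_le_normalizer _ (Subgroup.mem_centralizer_iff.mpr fun v hv => (hconjV v hv).symm))
    hρJ hρN hg'nV hρV hg'2 (hρ ▸ d.memJ) c hcV hg'c hρc
  obtain ⟨w, hw, hw1, hwJ⟩ := d.exists_other
  refine hS.moves ρ ρ1 ρ2 hρJ w hw hw1 hwJ ?_
  have e : ρ = g' * (g'⁻¹ * ρ) := by group
  rw [e, mul_assoc, d.comm hm hw, ← mul_assoc, hconjV w hw, mul_assoc]

/-- The degrees in odd degree of `S₄`, `S₅` type. -/
theorem sType_odd {R : ℕ} (hR : (hh = 3 ∧ R = 6) ∨ (hh = 15 ∧ R = 10)) (hS : SType a b V J R)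
    (hn : Odd (Nat.card Ω)) :
    GW.DihSylow (stabilizer G a) ∧
      ((hh = 3 ∧ Nat.card Ω = 15) ∨ (hh = 3 ∧ Nat.card Ω = 91) ∨ (hh = 15 ∧ Nat.card Ω = 7)) := by
  haveI : Fact (Nat.Prime 2) := ⟨Nat.prime_two⟩
  have hi := d.odd_i hn
  have hi2 := d.two_le_i
  have hj2 := d.two_le_j
  have hji := d.j_le_i
  have hline := d.line_eq
  have hx := d.x_eq
  have hmoved := d.moved_eq
  rw [hS.r_eq] at hx hmoved
  have hl := d.sType_cases hS
  have hj : Odd (fxS Ω V) := by
    rcases d.sType_j hS with hj | hj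
    · exfalso
      rw [hj] at hline
      rw [Nat.odd_iff] at hi
      rcases hl with e | e <;> rw [e] at hline <;> omega
    · exact Nat.not_even_iff_odd.mp hj
  have hgood : ∀ s : G, orderOf s = 2 → IsConj J s := fun s => d.all_good hS.allGood
  obtain ⟨w, hw, hw1, hwJ⟩ := d.exists_other
  -- a Sylow subgroup of the point stabiliser centralising `J`
  set X : Subgroup G := stabilizer G a with hXdef
  set C' : Subgroup X := Subgroup.centralizer ({d.J'} : Set X) with hC'
  set V' : Subgroup X := V.subgroupOf X with hV'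
  have hVC : V' ≤ C' := fun v hv => Subgroup.mem_centralizer_singleton_iff.mpr
    (Subtype.ext (d.comm hv d.memJ))
  obtain ⟨S, hS'⟩ := (IsPGroup.of_card (p := 2) (n := 2) (G := V'.subgroupOf C') (by
    rw [Nat.card_congr (Subgroup.subgroupOfEquivOfLe hVC).toEquiv,
      Nat.card_congr (Subgroup.subgroupOfEquivOfLe d.V_le_stab).toEquiv, d.card_V]; norm_num)).exists_le_sylow
  set T₀ : Subgroup X := (S : Subgroup C').map C'.subtype with hT₀
  have hxodd : Odd C'.index := by
    rw [hC', d.x_index, hx]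
    rcases hR with ⟨e1, e2⟩ | ⟨e1, e2⟩ <;> rw [e1, e2, Nat.odd_iff] <;> omega
  have hT₀idx : ¬ 2 ∣ T₀.index := by
    rw [hT₀, Subgroup.index_map_subtype]
    intro h
    rcases Nat.prime_two.dvd_mul.mp h with h | h
    · exact S.not_dvd_index h
    · exact Nat.not_even_iff_odd.mpr hxodd (even_iff_two_dvd.mpr h)
  set T : Sylow 2 X := (S.isPGroup'.map C'.subtype).toSylow hT₀idx with hT
  have hTC : ∀ t : X, t ∈ T₀ → t * d.J' = d.J' * t := by
    rintro _ ⟨t, -, rfl⟩
    exact Subgroup.mem_centralizer_singleton_iff.mp t.2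
  have hVT : V' ≤ T₀ := fun v hv => ⟨⟨v, hVC hv⟩, hS' (show (⟨v, hVC hv⟩ : C') ∈ V'.subgroupOf C' from hv), rfl⟩
  have hTp : IsPGroup 2 T₀ := S.isPGroup'.map C'.subtype
  let w₀ : T₀ := ⟨⟨w, d.V_le_stab hw⟩, hVT hw⟩
  have hcentw : ∀ t : T₀, ((t : X) : G) * w = w * ((t : X) : G) → ((t : X) : G) ∈ V := by
    intro t htw
    obtain ⟨s, hs⟩ := hTp t
    induction s generalizing t with
    | zero => rw [pow_zero, pow_one] at hs; rw [hs]; exact V.one_mem
    | succ s ih =>
      have h2 := ih (t * t) (by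
        show ((t : X) : G) * (t : X) * w = w * (((t : X) : G) * (t : X))
        rw [mul_assoc, htw, ← mul_assoc, htw, mul_assoc]) (by rw [← pow_two, ← pow_mul, ← pow_succ']; exact hs)
      have hJc : ((t : X) : G) * J = J * ((t : X) : G) := congrArg Subtype.val (hTC t t.2)
      refine d.cent_V_at hS hj (t : X).2 (fun v hv => ?_) h2
      rcases d.mem_V_cases hw hw1 hwJ hv with e | e | e | e <;> rw [e]
      · rw [mul_one, one_mul]
      · exact hJc
      · exact htw
      · rw [← mul_assoc, htw, mul_assoc, hJc, ← mul_assoc]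
  have hw₀o : orderOf w₀ = 2 := by
    rw [← Subgroup.orderOf_coe, ← Subgroup.orderOf_coe]
    exact d.order hw hw1
  have hC4 : Nat.card ↥(Subgroup.centralizer ({w₀} : Set T₀)) = 4 := by
    rw [← d.card_V]
    exact Nat.card_congr
      { toFun := fun t => ⟨((t.1 : X) : G), hcentw t.1
          (congrArg (fun x : T₀ => ((x : X) : G)) (Subgroup.mem_centralizer_singleton_iff.mp t.2))⟩
        invFun := fun v => ⟨⟨⟨v.1, d.V_le_stab v.2⟩, hVT v.2⟩,
          Subgroup.mem_centralizer_singleton_iff.mpr (Subtype.ext (Subtype.ext (d.comm v.2 hw)))⟩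
        left_inv := fun _ => rfl
        right_inv := fun _ => rfl }
  have hM8 : 8 ∣ Nat.card X := by
    have hle : Subgroup.centralizer ({J} : Set G) ⊓ Subgroup.normalizer (V : Set G) ⊓ stabilizer G a ≤ X :=
      inf_le_right
    refine Dvd.dvd.trans ?_ (Subgroup.card_dvd_of_le hle)
    rw [d.card_cent_norm.2]
    obtain ⟨t, ht⟩ := hj
    exact ⟨t, by omega⟩
  have hTfac : Nat.card T₀ = 2 ^ (Nat.card X).factorization 2 := T.card_eq_multiplicity
  have hT8 : 8 ≤ Nat.card T₀ := by
    rw [hTfac]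
    have h3 := (Nat.Prime.pow_dvd_iff_le_factorization Nat.prime_two Nat.card_pos.ne').mp
      (show 2 ^ 3 ∣ Nat.card X from hM8)
    exact le_trans (by norm_num) (Nat.pow_le_pow_right two_pos h3)
  -- the lines
  have hTflat : lNum V J a b = 0 → Nat.card T₀ ≤ 8 := by
    intro e
    rw [e, zero_mul] at hline
    have hflat : fx1 Ω J = fxS Ω V := by omega
    by_cases hall : ∀ t : T₀, ((t : X) : G) * w = w * ((t : X) : G)
    · have : Subgroup.centralizer ({w₀} : Set T₀) = ⊤ := eq_top_iff.mpr fun t _ =>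
        Subgroup.mem_centralizer_singleton_iff.mpr (Subtype.ext (Subtype.ext (hall t)))
      rw [this, Subgroup.card_top] at hC4
      omega
    push Not at hall
    obtain ⟨t₀, ht₀⟩ := hall
    have hmove : ∀ t : T₀, ((t : X) : G) * w ≠ w * ((t : X) : G) →
        ((t : X) : G) * w * ((t : X) : G)⁻¹ = w * J := by
      intro t ht
      have hJc : ((t : X) : G) * J = J * ((t : X) : G) := congrArg Subtype.val (hTC t t.2)
      have hm := (Subgroup.mem_normalizer_iff.mp (d.norm_of_flat hflat hJc) w).mp hw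
      rcases d.mem_V_cases hw hw1 hwJ hm with e | e | e | e
      · exact absurd (conj_eq_one_iff.mp e) hw1
      · refine absurd ?_ hwJ
        exact mul_left_cancel (mul_right_cancel (e.trans (mul_inv_eq_iff_eq_mul.mpr hJc).symm))
      · exact absurd (mul_inv_eq_iff_eq_mul.mp e) ht
      · exact e
    set Cw : Set T₀ := (Subgroup.centralizer ({w₀} : Set T₀) : Set T₀)
    have hsub : (Set.univ : Set T₀) ⊆ Cw ∪ (t₀ * ·) '' Cw := by
      intro t _
      by_cases ht : ((t : X) : G) * w = w * ((t : X) : G)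
      · exact Or.inl (Subgroup.mem_centralizer_singleton_iff.mpr (Subtype.ext (Subtype.ext ht)))
      · refine Or.inr ⟨t₀⁻¹ * t, Subgroup.mem_centralizer_singleton_iff.mpr (Subtype.ext (Subtype.ext ?_)),
          mul_inv_cancel_left t₀ t⟩
        show ((t₀ : X) : G)⁻¹ * ((t : X) : G) * w = w * (((t₀ : X) : G)⁻¹ * ((t : X) : G))
        have h1 := mul_inv_eq_iff_eq_mul.mp (hmove t ht)
        have h2 := hmove t₀ ht₀
        rw [← h2] at h1
        calc ((t₀ : X) : G)⁻¹ * ((t : X) : G) * w = ((t₀ : X) : G)⁻¹ * (((t : X) : G) * w) := mul_assoc _ _ _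
          _ = w * (((t₀ : X) : G)⁻¹ * ((t : X) : G)) := by rw [h1]; group
    have h1 := (Set.ncard_le_ncard hsub (Set.toFinite _)).trans (Set.ncard_union_le _ _)
    have h4 : Cw.ncard = 4 := by rw [← Nat.card_coe_set_eq]; exact hC4
    rw [Set.ncard_univ, Set.ncard_image_of_injective _ (mul_right_injective t₀), h4] at h1
    exact h1
  have hroots : lNum V J a b = 2 →
      Set.ncard {g : G | g * g = J ∧ g • a = a} ≤ 2 := by
    intro _
    have hone : ∀ s ∈ {g : G | g * g = J},
        Set.ncard {p : Ω | p ∈ {p : Ω | J • p = p} ∧ s • p = p} = 1 := by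
      intro s hs
      have hsJ : s * J = J * s := by rw [← (hs : s * s = J), mul_assoc]
      have hle : Set.ncard {p : Ω | p ∈ {p : Ω | J • p = p} ∧ s • p = p} ≤ 1 := by
        by_contra h
        obtain ⟨c, ⟨hJc, hsc⟩, c', ⟨hJc', hsc'⟩, hne⟩ :=
          (Set.one_lt_ncard (Set.toFinite _)).mp (not_le.mp h)
        obtain ⟨k, hk, k1, k2⟩ := d.wittJ hne hJc hJc'
        have hkJ := d.conj_J hk
        have hm : k⁻¹ * s * k ∈ V := by
          refine d.cent _ (mem_two.mpr ⟨?_, ?_⟩) ?_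
          · rw [mul_smul, mul_smul, k1, hsc, inv_smul_eq_iff, k1]
          · rw [mul_smul, mul_smul, k2, hsc', inv_smul_eq_iff, k2]
          · calc k⁻¹ * s * k * J = k⁻¹ * (s * (k * J * k⁻¹)) * k := by group
              _ = k⁻¹ * ((k * J * k⁻¹) * s) * k := by rw [hkJ, hsJ]
              _ = J * (k⁻¹ * s * k) := by group
        refine d.neJ ?_
        have h1 := d.sq hm
        rw [show k⁻¹ * s * k * (k⁻¹ * s * k) = k⁻¹ * (s * s) * k by group, (hs : s * s = J)] at h1
        calc J = k * (k⁻¹ * J * k) * k⁻¹ := by group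
          _ = 1 := by rw [h1]; group
      refine le_antisymm hle (Nat.pos_of_ne_zero fun h0 => ?_)
      have hempty : ∀ p : Ω, J • p = p → s • p ≠ p := fun p hp e =>
        Set.eq_empty_iff_forall_notMem.mp ((Set.ncard_eq_zero (Set.toFinite _)).mp h0) p ⟨hp, e⟩
      let F := {p : Ω // J • p = p}
      have hss : ∀ p : F, s • (s • p.1) = p.1 := fun p => by rw [← mul_smul, (hs : s * s = J)]; exact p.2
      let σ : Equiv.Perm F :=
        { toFun := fun p => ⟨s • p.1, d.cent_inv_maps hsJ p.2⟩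
          invFun := fun p => ⟨s • p.1, d.cent_inv_maps hsJ p.2⟩
          left_inv := fun p => Subtype.ext (hss p)
          right_inv := fun p => Subtype.ext (hss p) }
      have h1 : σ.support = Finset.univ := Finset.eq_univ_of_forall fun p =>
        Equiv.Perm.mem_support.mpr fun e => hempty p.1 p.2 (congrArg Subtype.val e)
      have h3 : 2 ∣ σ.support.card := Equiv.Perm.two_dvd_card_support (σ := σ) (by ext p; exact hss p)
      rw [h1, Finset.card_univ, ← Nat.card_eq_fintype_card,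
        show Nat.card F = fx1 Ω J from Nat.card_coe_set_eq _] at h3
      exact Nat.not_even_iff_odd.mpr hi (even_iff_two_dvd.mpr h3)
    have := per_point (Subgroup.centralizer ({J} : Set G)) {p : Ω | J • p = p} (d.a_fixed J d.memJ)
      (d.b_fixed J d.memJ) d.ne (fun k hk p hp => d.cent_maps hk hp)
      (fun c hc c' hc' hne => d.wittJ hne hc hc') {g : G | g * g = J} (fun k hk s hs => by
        show k * s * k⁻¹ * (k * s * k⁻¹) = J
        rw [show k * s * k⁻¹ * (k * s * k⁻¹) = k * (s * s) * k⁻¹ by group, (hs : s * s = J), d.conj_J hk])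
      (fun s hs p hp => d.cent_inv_maps (by rw [← (hs : s * s = J), mul_assoc]) hp) hone
    refine le_of_eq_of_le this (le_trans (Set.ncard_le_ncard ?_ (Set.toFinite _)) hS.twoRoot.le)
    rintro g ⟨hg, hga⟩
    refine ⟨hg, hga, ?_⟩
    rw [← hga, ← mul_smul, (hg : g * g = J), d.a_fixed J d.memJ]
  obtain ⟨m, hm, hdih⟩ : ∃ m : ℕ, 2 ≤ m ∧ Nonempty (T₀ ≃* DihedralGroup m) := by
    rcases CentFour.dihedral_or_quasiDihedral hTp hw₀o hC4 with ⟨m, hm⟩ | hqd | h4
    · refine ⟨m, ?_, hm⟩
      have := Nat.card_congr hm.some.toEquiv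
      rw [DihedralGroup.nat_card] at this
      omega
    · exfalso
      obtain ⟨q, -⟩ := QD.exists_pres hqd
      rcases hl with e | e
      · have h1 := hTflat e
        rw [q.hcard] at h1
        have := Nat.pow_le_pow_right two_pos (show 4 ≤ q.p + 4 by omega)
        omega
      · obtain ⟨r1, r2, r3, n12, n13, n23, e1, e2, e3⟩ := qd_roots q
        have hJT : d.J' ∈ T₀ := hVT d.memJ
        have hzJ : q.z = ⟨d.J', hJT⟩ := by
          have hc : (⟨d.J', hJT⟩ : T₀) ∈ Subgroup.center T₀ :=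
            Subgroup.mem_center_iff.mpr fun t => Subtype.ext (hTC t t.2)
          rw [q.center_eq] at hc
          obtain ⟨k, hk⟩ := Subgroup.mem_zpowers_iff.mp hc
          rcases Int.even_or_odd' k with ⟨s, hs | hs⟩
          · exfalso
            rw [hs, zpow_mul, zpow_two, q.zz, one_zpow] at hk
            exact d.neJ (congrArg (fun x : T₀ => ((x : X) : G)) hk).symm
          · rw [← hk, hs, zpow_add, zpow_mul, zpow_two, q.zz, one_zpow, one_mul, zpow_one]
        let f : T₀ → G := fun r => ((r : X) : G)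
        have hf : Function.Injective f := fun x y h => Subtype.ext (Subtype.ext h)
        have hsub : ({f r1, f r2, f r3} : Set G) ⊆ {g : G | g * g = J ∧ g • a = a} := by
          intro g hg
          simp only [Set.mem_insert_iff, Set.mem_singleton_iff] at hg
          rcases hg with h | h | h <;> subst h
          · exact ⟨congrArg f (e1.trans hzJ), (r1 : X).2⟩
          · exact ⟨congrArg f (e2.trans hzJ), (r2 : X).2⟩
          · exact ⟨congrArg f (e3.trans hzJ), (r3 : X).2⟩
        have h1 := (Set.ncard_le_ncard hsub (Set.toFinite _)).trans (hroots e)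
        rw [Set.ncard_insert_of_notMem (by simp [hf.ne n12, hf.ne n13]), Set.ncard_pair (hf.ne n23)] at h1
        omega
    · omega
  refine ⟨⟨T, m, hm, hdih⟩, ?_⟩
  have hone : ∀ s : X, orderOf s = 2 → IsConj d.J' s := by
    intro s hs
    rw [← Subgroup.orderOf_coe] at hs
    obtain ⟨g, g1, g2⟩ := d.good_conj_stab (hgood _ hs) s.2
    exact isConj_iff.mpr ⟨⟨g, g1⟩, Subtype.ext g2⟩
  obtain ⟨w₁, u, hw₁, hu, hnum⟩ := dih_numbers_one T m hm hdih V' d.klein' (J := d.J') d.memJ d.J'_ne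
    d.hN' hone
  rw [d.x_index, hx] at hnum
  have hk := d.k_mul'
  set k := (Subgroup.normalizer ((V' : Subgroup X) : Set X)).relIndex
    (Subgroup.centralizer ({d.J'} : Set X))
  obtain ⟨j', hj'⟩ : ∃ j', fxS Ω V = j' + 1 := ⟨fxS Ω V - 1, by omega⟩
  rw [hj', Nat.add_sub_cancel] at hk hline
  have hj'2 : j' % 2 = 0 := by
    obtain ⟨t, ht⟩ := hj
    omega
  rcases hl with e | e
  · rw [e, zero_mul] at hline
    have hij : fx1 Ω J = j' + 1 := by omega
    have hk1 : k = 1 := Nat.eq_of_mul_eq_mul_right (show 0 < j' by omega) (by rw [hk, hij]; omega)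
    rw [hk1] at hnum
    rw [Nat.odd_iff] at hi
    have h8 := hTflat e
    rcases hnum with ⟨q, -, hq, hq1, hq3, hu1, hu2, -⟩ | ⟨h105, hk7, -⟩
    · rcases Nat.even_or_odd u with hue | huo
      · obtain rfl : w₁ = 1 := by
          have h2 : w₁ ∣ 2 := ⟨u, by rw [← hu2 hue]⟩
          rcases (Nat.dvd_prime Nat.prime_two).mp h2 with h | h
          · exact h
          · rw [h] at hw₁; exact absurd hw₁ (by decide)
        obtain rfl : u = 2 := by have := hu2 hue; omega
        rcases hq with h | h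
        · have := hq1 h
          rw [h] at this
          rcases hR with ⟨f1, f2⟩ | ⟨f1, f2⟩ <;> subst f1 f2
          · have hi7 : fx1 Ω J = 7 := by omega
            rw [hi7] at hmoved
            exact Or.inr (Or.inl ⟨rfl, by omega⟩)
          · have hi3 : fx1 Ω J = 3 := by omega
            rw [hi3] at hmoved
            exact Or.inr (Or.inr ⟨rfl, by omega⟩)
        · have := hq3 h
          rw [show q = 7 by omega] at this
          rcases hR with ⟨f1, f2⟩ | ⟨f1, f2⟩ <;> subst f1 f2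
          · have hi3 : fx1 Ω J = 3 := by omega
            rw [hi3] at hmoved
            exact Or.inl ⟨rfl, by omega⟩
          · omega
      · exfalso
        have h := (hu1 huo).symm
        obtain rfl : w₁ = 1 := Nat.eq_one_of_mul_eq_one_right h
        obtain rfl : u = 1 := by omega
        rcases hq with h' | h'
        · have := hq1 h'
          rw [h'] at this
          rcases hR with ⟨f1, f2⟩ | ⟨f1, f2⟩ <;> subst f1 f2 <;> omega
        · have := hq3 h'
          rw [show q = 3 by omega] at this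
          rcases hR with ⟨f1, f2⟩ | ⟨f1, f2⟩ <;> subst f1 f2 <;> omega
    · exfalso
      obtain rfl : w₁ = 1 := by omega
      have h16 : 16 ∣ 4 * (fx1 Ω J - 1) := by
        rcases hR with ⟨f1, f2⟩ | ⟨f1, f2⟩ <;> subst f1 f2
        · rw [show fx1 Ω J = 17 by omega]; norm_num
        · rw [show fx1 Ω J = 9 by omega]; norm_num
      have hX16 : 16 ∣ Nat.card X := by
        rw [hXdef, d.x_mul_cent, d.card_cent.2]
        exact Dvd.dvd.mul_left h16 _
      have h4' := (Nat.Prime.pow_dvd_iff_le_factorization Nat.prime_two Nat.card_pos.ne').mp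
        (show 2 ^ 4 ∣ Nat.card X from hX16)
      have := Nat.pow_le_pow_right two_pos h4'
      rw [← hTfac] at this
      omega
  · exfalso
    rw [e] at hline
    have hij : fx1 Ω J = (j' + 1) + (j' + 1) * j' := by omega
    have hk2 : k = j' + 2 := Nat.eq_of_mul_eq_mul_right (show 0 < j' by omega) (by
      rw [hk, hij, show j' + 1 + (j' + 1) * j' - 1 = j' + (j' + 1) * j' by omega]; ring)
    rw [hk2] at hnum
    rcases hnum with ⟨q, -, hq, hq1, hq3, hu1, hu2, -⟩ | ⟨h105, hk7, -⟩
    · rcases Nat.even_or_odd u with hue | huo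
      · have hxv : XVal w₁ u (hh + R * fx1 Ω J) := by
          rcases hq with h | h
          · left; rw [hq1 h, h]; ring
          · right; rw [hq3 h, show 4 * u - 1 = q by omega]; ring
        have hlow := xval_even_low hue hu hxv
        rw [← hu2 hue, hij] at hlow
        rcases hR with ⟨f1, f2⟩ | ⟨f1, f2⟩ <;> subst f1 f2 <;> nlinarith
      · have h1 : Odd (j' + 2) := by rw [hu1 huo]; exact hw₁.mul huo
        rw [Nat.odd_iff] at h1
        omega
    · rw [Nat.odd_iff] at hw₁
      omega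

end Data

end Cfsg.Agent.TwoPtAlt
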