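import Cfsg.Agent.Lib.TwoPtAlt.OddLines
import Cfsg.Agent.Lib.TwoPtAlt.Shape

/-!
# Two-point stabilisers isomorphic to `A₄` or `A₅`: odd degree, two lines
-/

set_option autoImplicit false
set_option linter.unusedSectionVars false
set_option linter.style.haveILetI false

namespace Cfsg.Agent.TwoPtAlt

open MulAction Cfsg.Agent.Zass
open scoped Classical

universe u v

variable {G : Type u} [Group G] [Finite G] {Ω : Type v} [MulAction G Ω] [Fintype Ω]

/-- A normal subgroup of prime order `p > |X : P|`. -/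
theorem sylow_normal_of_small {X : Type u} [Group X] [Finite X] {p m : ℕ} [hp : Fact p.Prime]
    (hX : Nat.card X = p * m) (hm : m < p) (hm0 : 0 < m) :
    ∃ P : Subgroup X, P.Normal ∧ Nat.card P = p := by
  obtain ⟨P⟩ : Nonempty (Sylow p X) := inferInstance
  obtain ⟨k, hk⟩ := IsPGroup.iff_card.mp P.isPGroup'
  have hmp : ¬ p ∣ m := fun h => absurd (Nat.le_of_dvd hm0 h) (not_le.mpr hm)
  have hP : Nat.card (P : Subgroup X) = p := by
    rw [P.card_eq_multiplicity, hX, Nat.factorization_mul hp.out.ne_zero hm0.ne',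
      Finsupp.add_apply, hp.out.factorization_self, Nat.factorization_eq_zero_of_not_dvd hmp, add_zero,
      pow_one]
  have h1 : Nat.card (Sylow p X) ∣ (P : Subgroup X).index := P.card_dvd_index
  have h2 : (P : Subgroup X).index = m := by
    have := Subgroup.card_mul_index (P : Subgroup X)
    rw [hP, hX] at this
    exact Nat.eq_of_mul_eq_mul_left hp.out.pos this
  have h3 := card_sylow_modEq_one p X
  have hle := Nat.le_of_dvd hm0 (h2 ▸ h1)
  have hone : Nat.card (Sylow p X) = 1 := by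
    have : Nat.card (Sylow p X) % p = 1 % p := h3
    rwa [Nat.mod_eq_of_lt (by omega), Nat.mod_eq_of_lt hp.out.one_lt] at this
  haveI : Subsingleton (Sylow p X) := (Nat.card_eq_one_iff_unique.mp hone).1
  exact ⟨P, Sylow.normal_of_subsingleton P, hP⟩

namespace Data

variable {a b : Ω} {V : Subgroup G} {J : G} {hh : ℕ} (d : Data a b V J hh)
include d

/-- No element of order four squares onto a line at `a`. -/
theorem line_root {t y w : G} (ht : Line V J t) (hta : t • a = a) (hyJ : y * J = J * y) (hya : y • a = a)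
    (hyy : y * y = t) (hw : w ∈ V) (hw1 : w ≠ 1) (hwJ : w ≠ J) (hwt : w * t = t * w)
    (hne : w ≠ t) (hne' : w ≠ t * J) : False := by
  have htJ : t * J = J * t := Line.comm d ht
  have ht1 : t ≠ 1 := fun e => by have := d.line_order ht; rw [e, orderOf_one] at this; omega
  obtain ⟨g, hg, w0, hw0, hw01, hw0J, rfl⟩ := ht
  have hgJ := d.conj_J hg
  have hgi : g⁻¹ * J * g = J := by
    conv_lhs => rw [← hgJ]
    group
  have hc : ∀ v ∈ V, v • (g⁻¹ • a) = g⁻¹ • a :=
    (d.conj_fixV hw0 hw01 hw0J a).mpr ⟨by rw [hgJ]; exact d.a_fixed J d.memJ, hta⟩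
  have hconj : ∀ x : G, x * J = J * x → x * (g * w0 * g⁻¹) = g * w0 * g⁻¹ * x →
      (g⁻¹ * x * g) * J = J * (g⁻¹ * x * g) ∧
        g⁻¹ * x * g ∈ Subgroup.normalizer (V : Set G) := by
    intro x hxJ hxt
    have h1 : (g⁻¹ * x * g) * J = J * (g⁻¹ * x * g) := by
      calc g⁻¹ * x * g * J = g⁻¹ * x * g * (g⁻¹ * J * g) := by rw [hgi]
        _ = g⁻¹ * (x * J) * g := by group
        _ = g⁻¹ * J * g * (g⁻¹ * x * g) := by rw [hxJ]; group
        _ = J * (g⁻¹ * x * g) := by rw [hgi]
    have h2 : (g⁻¹ * x * g) * w0 = w0 * (g⁻¹ * x * g) := by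
      calc g⁻¹ * x * g * w0 = g⁻¹ * (x * (g * w0 * g⁻¹)) * g := by group
        _ = w0 * (g⁻¹ * x * g) := by rw [hxt]; group
    refine ⟨h1, Subgroup.centralizer_le_normalizer _ (Subgroup.mem_centralizer_iff.mpr fun v hv => ?_)⟩
    have hle : Subgroup.closure ({J, w0} : Set G) ≤ Subgroup.centralizer ({g⁻¹ * x * g} : Set G) := by
      rw [Subgroup.closure_le]
      intro p hp
      rcases hp with e | e <;> rw [e] <;> refine Subgroup.mem_centralizer_singleton_iff.mpr ?_
      · exact h1.symm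
      · exact h2.symm
    exact Subgroup.mem_centralizer_singleton_iff.mp (hle ((d.closure_eq hw0 hw01 hw0J).ge hv))
  obtain ⟨hη1, hη2⟩ := hconj y hyJ (by rw [← hyy, mul_assoc])
  obtain ⟨hη1', hη2'⟩ := hconj w (d.comm hw d.memJ) hwt
  have hsq : (g⁻¹ * y * g) * (g⁻¹ * y * g) = w0 := by
    rw [show g⁻¹ * y * g * (g⁻¹ * y * g) = g⁻¹ * (y * y) * g by group, hyy]
    group
  have hnV : g⁻¹ * y * g ∉ V := fun h => hw01 (hsq.symm.trans (d.sq h))
  have hnV' : g⁻¹ * w * g ∉ V := by
    intro h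
    rcases d.mem_V_cases hw0 hw01 hw0J h with e | e | e | e
    · exact hw1 (by calc w = g * (g⁻¹ * w * g) * g⁻¹ := by group
                      _ = 1 := by rw [e]; group)
    · exact hwJ (by calc w = g * (g⁻¹ * w * g) * g⁻¹ := by group
                      _ = J := by rw [e]; exact hgJ)
    · exact hne (by calc w = g * (g⁻¹ * w * g) * g⁻¹ := by group
                      _ = g * w0 * g⁻¹ := by rw [e])
    · exact hne' (by calc w = g * (g⁻¹ * w * g) * g⁻¹ := by group
                      _ = g * w0 * g⁻¹ * (g * J * g⁻¹) := by rw [e]; group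
                      _ = g * w0 * g⁻¹ * J := by rw [hgJ])
  have hww : (g⁻¹ * w * g) * (g⁻¹ * w * g) = 1 := by
    rw [show g⁻¹ * w * g * (g⁻¹ * w * g) = g⁻¹ * (w * w) * g by group, d.sq hw, mul_one, inv_mul_cancel]
  have hfix : ∀ x : G, x • a = a → (g⁻¹ * x * g) • (g⁻¹ • a) = g⁻¹ • a := fun x hx => by
    rw [mul_smul, mul_smul, smul_inv_smul, hx]
  have hm := d.sharp_facts.2.1 _ _ hη1 hη2 hη1' hη2' hnV hnV' (by rw [hsq]; exact hw0)
    (by rw [hww]; exact V.one_mem) _ hc (hfix y hya) (hfix w (d.a_fixed w hw))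
  set m := (g⁻¹ * y * g)⁻¹ * (g⁻¹ * w * g) with hmdef
  have hyeq : y = w * (g * m * g⁻¹)⁻¹ := by rw [hmdef]; group
  have hxw : (g * m * g⁻¹) * w = w * (g * m * g⁻¹) := by
    rcases d.mem_V_cases hw0 hw01 hw0J hm with e | e | e | e <;> rw [e]
    · group
    · rw [hgJ, d.comm d.memJ hw]
    · exact hwt.symm
    · rw [show g * (w0 * J) * g⁻¹ = g * w0 * g⁻¹ * (g * J * g⁻¹) by group, hgJ, mul_assoc,
        d.comm d.memJ hw, ← mul_assoc, ← hwt, mul_assoc]
  have hmm : (g * m * g⁻¹)⁻¹ * (g * m * g⁻¹)⁻¹ = 1 := by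
    rw [← _root_.mul_inv_rev, show g * m * g⁻¹ * (g * m * g⁻¹) = g * (m * m) * g⁻¹ by group, d.sq hm,
      mul_one, mul_inv_cancel, inv_one]
  have hwi : (g * m * g⁻¹)⁻¹ * w = w * (g * m * g⁻¹)⁻¹ := by
    rw [inv_mul_eq_iff_eq_mul, ← mul_assoc, hxw, mul_inv_cancel_right]
  refine ht1 ?_
  rw [← hyy, hyeq]
  calc w * (g * m * g⁻¹)⁻¹ * (w * (g * m * g⁻¹)⁻¹)
      = w * ((g * m * g⁻¹)⁻¹ * w) * (g * m * g⁻¹)⁻¹ := by group
    _ = w * w * ((g * m * g⁻¹)⁻¹ * (g * m * g⁻¹)⁻¹) := by rw [hwi]; group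
    _ = 1 := by rw [d.sq hw, hmm, one_mul]

/-- A normal subgroup of order `p` of the point stabiliser cannot avoid `C(J)`. -/
theorem no_small_normal (P : Subgroup (stabilizer G a)) [P.Normal] (hp : (Nat.card P).Prime)
    (h2 : Nat.card P ≠ 2)
    (hcent : ¬ Nat.card P ∣ Nat.card ↥(Subgroup.centralizer ({J} : Set G) ⊓ stabilizer G a)) : False := by
  haveI := Fact.mk hp
  haveI : IsCyclic P := isCyclic_of_prime_card (α := P) rfl
  have hcm : ∀ x ∈ P, ∀ y ∈ P, x * y = y * x := fun x hx y hy =>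
    congrArg Subtype.val ((IsCyclic.commGroup (α := P)).mul_comm ⟨x, hx⟩ ⟨y, hy⟩)
  obtain ⟨y, hy, hy1⟩ : ∃ y ∈ P, y ≠ 1 := by
    by_contra hno
    push Not at hno
    have hb : P = ⊥ := (Subgroup.eq_bot_iff_forall P).mpr hno
    rw [hb, Subgroup.card_bot] at hp
    exact Nat.not_prime_one hp
  have hnocent : ∀ x ∈ P, (x : G) * J = J * x → x = 1 := by
    intro x hx hxJ
    by_contra hx1
    refine hcent ?_
    have ho : orderOf x = Nat.card P := by
      have hd := Subgroup.orderOf_dvd_natCard P hx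
      rcases (Nat.dvd_prime hp).mp hd with e | e
      · exact absurd (orderOf_eq_one_iff.mp e) hx1
      · exact e
    rw [← ho, ← Subgroup.orderOf_coe]
    exact Subgroup.orderOf_dvd_natCard _ ⟨Subgroup.mem_centralizer_singleton_iff.mpr hxJ, x.2⟩
  have hinv : ∀ v ∈ V, v ≠ 1 → v * (y : G) * v⁻¹ = (y : G)⁻¹ := by
    intro v hv hv1
    let v' : stabilizer G a := ⟨v, d.a_fixed v hv⟩
    have hvy : v' * y * v'⁻¹ ∈ P := Subgroup.Normal.conj_mem inferInstance y hy v'
    set y' := y * (v' * y * v'⁻¹) with hy'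
    have hy'P : y' ∈ P := mul_mem hy hvy
    have hfix : v' * y' * v'⁻¹ = y' := by
      have hvv : v' * v' = 1 := Subtype.ext (d.sq hv)
      have hvi : v'⁻¹ = v' := inv_eq_of_mul_eq_one_right hvv
      calc v' * y' * v'⁻¹ = v' * y * v'⁻¹ * (v' * v' * y * (v' * v')⁻¹) := by rw [hy']; group
        _ = v' * y * v'⁻¹ * y := by rw [hvv]; group
        _ = y' := hcm _ hvy _ hy
    obtain ⟨k, hk, -, hke⟩ := d.rot_conj v hv hv1
    let k' : stabilizer G a := ⟨k, (mem_two.mp hk).1⟩
    have h0 : k'⁻¹ * y' * k' = 1 := by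
      refine hnocent _ ?_ ?_
      · simpa using Subgroup.Normal.conj_mem inferInstance y' hy'P k'⁻¹
      · have e : (y' : G) * v = v * y' := (mul_inv_eq_iff_eq_mul.mp (congrArg Subtype.val hfix :)).symm
        have hJ : J = k⁻¹ * v * k := by rw [← hke]; group
        show k⁻¹ * (y' : G) * k * J = J * (k⁻¹ * y' * k)
        rw [hJ]
        calc k⁻¹ * (y' : G) * k * (k⁻¹ * v * k) = k⁻¹ * ((y' : G) * v) * k := by group
          _ = k⁻¹ * v * k * (k⁻¹ * y' * k) := by rw [e]; group
    have h1 : y' = 1 := by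
      calc y' = k' * (k'⁻¹ * y' * k') * k'⁻¹ := by group
        _ = 1 := by rw [h0]; group
    have h2 : (y : G) * (v * (y : G) * v⁻¹) = 1 := congrArg Subtype.val h1
    exact (inv_eq_of_mul_eq_one_right h2).symm
  obtain ⟨w, hw, hw1, hwJ⟩ := d.exists_other
  have hwJ1 : w * J ≠ 1 := fun e => hwJ (by
    rw [mul_eq_one_iff_eq_inv] at e
    exact e.trans (inv_eq_of_mul_eq_one_right (d.sq d.memJ)))
  have h3 := hinv (w * J) (mul_mem hw d.memJ) hwJ1
  have h4 : w * J * (y : G) * (w * J)⁻¹ = y := by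
    calc w * J * (y : G) * (w * J)⁻¹ = w * (J * y * J⁻¹) * w⁻¹ := by group
      _ = (w * y * w⁻¹)⁻¹ := by rw [hinv J d.memJ d.neJ]; group
      _ = y := by rw [hinv w hw hw1, inv_inv]
  refine h2 ?_
  have hyy : y * y = 1 := Subtype.ext (mul_eq_one_iff_eq_inv.mpr (h4.symm.trans h3))
  rcases (Nat.dvd_prime hp).mp (Subgroup.orderOf_dvd_natCard P hy) with e | e
  · exact absurd (orderOf_eq_one_iff.mp e) hy1
  · rw [← e]
    exact orderOf_eq_prime (by rw [pow_two]; exact hyy) hy1

set_option maxHeartbeats 1000000 in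
/-- Two lines with all involutions good are impossible in odd degree. -/
theorem two_lines_false (hn : Odd (Nat.card Ω)) {z : G} (hzz : z * z = 1) (hza : z • a = b)
    (hzb : z • b = a) (hzc : ∀ h ∈ Zass.two (G := G) a b, z * h = h * z)
    (hr : rNum J a b = hh + 1) (hl : lNum V J a b = 4) : False := by
  haveI : Fact (Nat.Prime 2) := ⟨Nat.prime_two⟩
  have hline := d.line_eq
  rw [hl] at hline
  have hj2 := d.two_le_j
  have hi2 := d.two_le_i
  have hji := d.j_le_i
  have hi := d.odd_i hn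
  obtain ⟨j', hj'⟩ : ∃ j', fxS Ω V = j' + 1 := ⟨fxS Ω V - 1, by omega⟩
  have hij : fx1 Ω J = (j' + 1) + 2 * ((j' + 1) * j') := by
    rw [hj', Nat.add_sub_cancel] at hline
    omega
  have hjodd : Odd (fxS Ω V) := by
    rw [Nat.odd_iff] at hi ⊢
    rw [hij] at hi
    omega
  -- every involution of `C(J)` outside `⟨J⟩` is a line
  have hall : ∀ t : G, t * t = 1 → t ≠ 1 → t ≠ J → t * J = J * t → Line V J t := by
    intro t ht ht1 htJ htc
    rw [d.line_iff_four ht ht1 htJ htc]
    by_contra hnf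
    obtain ⟨p, hp⟩ := Set.ncard_eq_one.mp (d.one_fixed hi ht htc hnf)
    obtain ⟨hJp, htp⟩ := hp.ge (rfl : p = p)
    obtain ⟨q, hq, hne⟩ : ∃ q, J • q = q ∧ p ≠ q := by
      rcases eq_or_ne p a with e | e
      · exact ⟨b, d.b_fixed J d.memJ, e ▸ d.ne⟩
      · exact ⟨a, d.a_fixed J d.memJ, e⟩
    obtain ⟨k, hk, k1, -⟩ := d.wittJ hne hJp hq
    have hkJ := d.conj_J hk
    have hbad := d.bad_swappers hzz hza hzb hzc
    rw [← d.bad_point hi, hl] at hbad
    have hpos : 0 < Set.ncard {t : G | (t * t = 1 ∧ t ≠ 1 ∧ t * J = J * t ∧ ¬ Four Ω J t) ∧ t • a = a} := by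
      refine (Set.ncard_pos (Set.toFinite _)).mpr ⟨k⁻¹ * t * k, ⟨?_, fun e => ht1 ?_, ?_, fun e => hnf ?_⟩, ?_⟩
      · rw [show k⁻¹ * t * k * (k⁻¹ * t * k) = k⁻¹ * (t * t) * k by group, ht, mul_one, inv_mul_cancel]
      · calc t = k * (k⁻¹ * t * k) * k⁻¹ := by group
          _ = 1 := by rw [e]; group
      · calc k⁻¹ * t * k * J = k⁻¹ * (t * (k * J * k⁻¹)) * k := by group
          _ = k⁻¹ * ((k * J * k⁻¹) * t) * k := by rw [hkJ, htc]
          _ = J * (k⁻¹ * t * k) := by group
      · have := four_conj (g := k) e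
        rwa [hkJ, show k * (k⁻¹ * t * k) * k⁻¹ = t by group] at this
      · rw [mul_smul, mul_smul, k1, htp, inv_smul_eq_iff, k1]
    omega
  -- a conjugate `z'` of `z` at `a`
  have hzJ : z * J = J * z := hzc J d.J_mem
  have hzN : z ∈ Subgroup.normalizer (V : Set G) := d.swap_norm hza hzb hzJ
  obtain ⟨c, hcV, hzc'⟩ := d.exists_swap_fixed hjodd hzJ hzN (by rw [hzz]; exact V.one_mem)
  obtain ⟨c', hc', hne⟩ : ∃ c', (∀ v ∈ V, v • c' = c') ∧ c ≠ c' := by
    rcases eq_or_ne c a with e | e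
    · exact ⟨b, d.b_fixed, e ▸ d.ne⟩
    · exact ⟨a, d.a_fixed, e⟩
  obtain ⟨k, ⟨hk, hkN⟩, k1, -⟩ := d.wittV hne hcV hc'
  set z' := k⁻¹ * z * k with hz'def
  have hz'2 : z' * z' = 1 := by
    rw [hz'def, show k⁻¹ * z * k * (k⁻¹ * z * k) = k⁻¹ * (z * z) * k by group, hzz, mul_one, inv_mul_cancel]
  have hz'V : ∀ v ∈ V, z' * v = v * z' := by
    intro v hv
    have hm : k * v * k⁻¹ ∈ V := (Subgroup.mem_normalizer_iff.mp hkN v).mp hv
    calc z' * v = k⁻¹ * (z * (k * v * k⁻¹)) * k := by rw [hz'def]; group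
      _ = k⁻¹ * ((k * v * k⁻¹) * z) * k := by rw [hzc _ (d.le hm)]
      _ = v * z' := by rw [hz'def]; group
  have hz'a : z' • a = a := by rw [hz'def, mul_smul, mul_smul, k1, hzc', inv_smul_eq_iff, k1]
  have hz'nV : z' ∉ V := fun h => d.ne (by
    have hm : k * z' * k⁻¹ ∈ V := (Subgroup.mem_normalizer_iff.mp hkN z').mp h
    rw [hz'def, show k * (k⁻¹ * z * k) * k⁻¹ = z by group] at hm
    rw [d.a_fixed z hm] at hza
    exact hza)
  have hz'N : z' ∈ Subgroup.normalizer (V : Set G) :=
    Subgroup.centralizer_le_normalizer _ (Subgroup.mem_centralizer_iff.mpr fun v hv => (hz'V v hv).symm)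
  have hz'i : z'⁻¹ = z' := inv_eq_of_mul_eq_one_right hz'2
  -- the elementary group of order eight
  let E : Subgroup G :=
    { carrier := {y | y ∈ V ∨ z' * y ∈ V}
      one_mem' := Or.inl V.one_mem
      mul_mem' := by
        rintro x y (hx | hx) (hy | hy)
        · exact Or.inl (mul_mem hx hy)
        · right; rw [← mul_assoc, hz'V x hx, mul_assoc]; exact mul_mem hx hy
        · right; rw [← mul_assoc]; exact mul_mem hx hy
        · left
          have e : x * y = (z' * x) * (z' * y) := by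
            rw [show z' * x * (z' * y) = z' * x * z' * y by group]
            have h1 := hz'V _ hx
            rw [← mul_assoc, hz'2, one_mul] at h1
            rw [← h1]
          rw [e]; exact mul_mem hx hy
      inv_mem' := by
        rintro x (hx | hx)
        · exact Or.inl (inv_mem hx)
        · right
          have h1 := hz'V _ hx
          rw [← mul_assoc, hz'2, one_mul] at h1
          have h2 := inv_mem hx
          rw [_root_.mul_inv_rev, hz'i] at h2
          have : z' * x⁻¹ = x⁻¹ * z' := by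
            rw [← hz'i, ← _root_.mul_inv_rev, ← _root_.mul_inv_rev]
            congr 1
            calc x * z' = (z' * x * z') * z' := by rw [← h1]
              _ = z' * x := by rw [mul_assoc, hz'2, mul_one]
          rw [this]; exact h2 }
  have hmemE : ∀ y : G, y ∈ E ↔ y ∈ V ∨ z' * y ∈ V := fun _ => Iff.rfl
  have hE8 : Nat.card E = 8 := by
    have hset : (E : Set G) = (V : Set G) ∪ (z' * ·) '' (V : Set G) := by
      ext y
      constructor
      · rintro (h | h)
        · exact Or.inl h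
        · exact Or.inr ⟨z' * y, h, by show z' * (z' * y) = y; rw [← mul_assoc, hz'2, one_mul]⟩
      · rintro (h | ⟨v, hv, rfl⟩)
        · exact Or.inl h
        · exact Or.inr (by rw [← mul_assoc, hz'2, one_mul]; exact hv)
    have hdisj : Disjoint (V : Set G) ((z' * ·) '' (V : Set G)) := by
      rw [Set.disjoint_left]
      rintro y hy ⟨v, hv, rfl⟩
      have := mul_mem hy (inv_mem hv)
      rw [mul_inv_cancel_right] at this
      exact hz'nV this
    have hV4 : Set.ncard (V : Set G) = 4 := by rw [← Nat.card_coe_set_eq]; exact d.card_V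
    show Nat.card (E : Set G) = 8
    rw [Nat.card_coe_set_eq, hset, Set.ncard_union_eq hdisj,
      Set.ncard_image_of_injective _ (mul_right_injective z'), hV4]
  have hEJ : ∀ y ∈ E, y * J = J * y := by
    rintro y (h | h)
    · exact d.comm h d.memJ
    · rw [show y = z' * (z' * y) by rw [← mul_assoc, hz'2, one_mul], mul_assoc, d.comm h d.memJ,
        ← mul_assoc, hz'V J d.memJ, mul_assoc]
  have hEa : ∀ y ∈ E, y • a = a := by
    rintro y (h | h)
    · exact d.a_fixed y h
    · rw [show y = z' * (z' * y) by rw [← mul_assoc, hz'2, one_mul], mul_smul, d.a_fixed _ h, hz'a]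
  have hEsq : ∀ y ∈ E, y * y = 1 := by
    rintro y (h | h)
    · exact d.sq h
    · rw [show y = z' * (z' * y) by rw [← mul_assoc, hz'2, one_mul]]
      set v := z' * y
      calc z' * v * (z' * v) = z' * (v * z') * v := by group
        _ = z' * z' * (v * v) := by rw [← hz'V v h]; group
        _ = 1 := by rw [hz'2, d.sq h, one_mul]
  have hF2 : ∀ g : G, g * J = J * g → g ∈ Subgroup.normalizer (V : Set G) → g • a = a → g * g ∈ V →
      g ∈ E := by
    intro g hgJ hgN hga hg2
    by_cases hgV : g ∈ V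
    · exact Or.inl hgV
    · right
      have := d.sharp_facts.2.1 z' g (hz'V J d.memJ) hz'N hgJ hgN hz'nV hgV
        (by rw [hz'2]; exact V.one_mem) hg2 a d.a_fixed hz'a hga
      rwa [hz'i] at this
  obtain ⟨w, hw, hw1, hwJ⟩ := d.exists_other
  set M : Subgroup G := Subgroup.centralizer ({J} : Set G) ⊓ Subgroup.normalizer (V : Set G) ⊓ stabilizer G a
  have hEM : E ≤ M := fun y hy => ⟨⟨Subgroup.mem_centralizer_singleton_iff.mpr (hEJ y hy), by
    rcases hy with h | h
    · exact Subgroup.le_normalizer h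
    · have e : y = z' * (z' * y) := by rw [← mul_assoc, hz'2, one_mul]
      rw [e]; exact mul_mem hz'N (Subgroup.le_normalizer h)⟩, hEa y hy⟩
  have h2el : ∀ s : ℕ, ∀ y ∈ M, y ^ (2 ^ s) = 1 → y ∈ E := by
    intro s
    induction s with
    | zero => intro y _ h; rw [pow_zero, pow_one] at h; rw [h]; exact one_mem E
    | succ s ih =>
      intro y hy h
      have h2 : y * y ∈ E := ih (y * y) (mul_mem hy hy) (by rw [← pow_two, ← pow_mul, ← pow_succ']; exact h)
      have hyJ := Subgroup.mem_centralizer_singleton_iff.mp hy.1.1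
      by_cases hV : y * y ∈ V
      · exact hF2 y hyJ hy.1.2 hy.2 hV
      · exfalso
        set t := y * y with ht
        have hzt : z' * t ∈ V := h2.resolve_left hV
        have ht2 : t * t = 1 := hEsq t h2
        have hwt : w * t = t * w := by
          rw [show t = z' * (z' * t) by rw [← mul_assoc, hz'2, one_mul], ← mul_assoc, ← hz'V w hw,
            mul_assoc, d.comm hw hzt, ← mul_assoc]
        refine d.line_root (hall t ht2 (fun e => hV (e ▸ V.one_mem)) (fun e => hV (e ▸ d.memJ))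
          (hEJ t h2)) (hEa t h2) hyJ hy.2 ht.symm hw hw1 hwJ hwt (fun e => hV (e ▸ hw)) fun e => hV ?_
        have : t = w * J := by rw [e, mul_assoc, d.sq d.memJ, mul_one]
        rw [this]; exact mul_mem hw d.memJ
  have hMcard : Nat.card M = 4 * j' := by
    rw [d.card_cent_norm.2, hj', Nat.add_sub_cancel]
  have h8 : 8 ∣ Nat.card M := hE8 ▸ Subgroup.card_dvd_of_le hEM
  have h16 : ¬ 16 ∣ Nat.card M := by
    intro h
    obtain ⟨S, hS⟩ := Sylow.exists_subgroup_card_pow_prime (G := M) 2 (n := 4) (by norm_num; exact h)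
    have hle : S.map M.subtype ≤ E := by
      rintro _ ⟨y, hy, rfl⟩
      refine h2el 4 y y.2 ?_
      have h1 := pow_card_eq_one' (G := S) (x := ⟨y, hy⟩)
      rw [hS] at h1
      exact congrArg (fun x : S => ((x : M) : G)) h1
    have := Subgroup.card_le_of_le hle
    rw [Subgroup.card_map_of_injective M.subtype_injective, hS, hE8] at this
    norm_num at this
  -- the quotient of `C_a(J)` by `⟨J⟩`
  set Y : Subgroup G := Subgroup.centralizer ({J} : Set G) ⊓ stabilizer G a with hYdef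
  have hMY : M ≤ Y := fun y hy => ⟨hy.1.1, hy.2⟩
  have hJY : J ∈ Y := hMY (hEM (Or.inl d.memJ))
  set J₀ : Y := ⟨J, hJY⟩ with hJ₀
  set N : Subgroup Y := Subgroup.zpowers J₀ with hN
  haveI hNn : N.Normal := by
    refine ⟨fun x hx g => ?_⟩
    obtain ⟨m, rfl⟩ := Subgroup.mem_zpowers_iff.mp hx
    have : g * J₀ * g⁻¹ = J₀ := Subtype.ext (mul_inv_eq_iff_eq_mul.mpr
      (Subgroup.mem_centralizer_singleton_iff.mp g.2.1))
    rw [← _root_.conj_zpow, this]
    exact zpow_mem (Subgroup.mem_zpowers _) m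
  have hN2 : Nat.card N = 2 := by
    rw [hN, Nat.card_zpowers, hJ₀, Subgroup.orderOf_mk, d.orderJ]
  have hNmem : ∀ x : Y, x ∈ N → (x : G) = 1 ∨ (x : G) = J := by
    intro x hx
    have hsub : ({1, J₀} : Set Y) ⊆ (N : Set Y) := by
      simp [Set.insert_subset_iff, one_mem, hN, Subgroup.mem_zpowers]
    have := Set.eq_of_subset_of_ncard_le hsub (by
      rw [Set.ncard_pair (fun e => d.neJ (congrArg Subtype.val e :).symm), ← Nat.card_coe_set_eq]
      exact hN2.le) (Set.toFinite _)
    rcases this.ge hx with e | e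
    · exact Or.inl (congrArg Subtype.val e :)
    · exact Or.inr (congrArg Subtype.val e :)
  let π : Y →* Y ⧸ N := QuotientGroup.mk' N
  set D : Subgroup (Y ⧸ N) := (E.subgroupOf Y).map π with hD
  have hEY : E ≤ Y := hEM.trans hMY
  have hNE : N ≤ E.subgroupOf Y := by
    rw [hN, Subgroup.zpowers_le]
    exact Or.inl d.memJ
  have hD4 : Nat.card D = 4 := by
    have h := card_inf_mul_map N (E.subgroupOf Y)
    rw [inf_eq_left.mpr hNE, hN2, Nat.card_congr (Subgroup.subgroupOfEquivOfLe hEY).toEquiv, hE8] at h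
    rw [hD]
    exact Nat.eq_of_mul_eq_mul_left two_pos h
  have hDsq : ∀ x ∈ D, x * x = 1 := by
    rintro _ ⟨y, hy, rfl⟩
    rw [← map_mul, show y * y = 1 from Subtype.ext (hEsq _ hy), map_one]
  have hDK : IsKleinFour D := by
    refine ⟨hD4, ?_⟩
    haveI : Nontrivial D := Finite.one_lt_card_iff_nontrivial.mp (by omega)
    refine (Monoid.exponent_eq_prime_iff Nat.prime_two).mpr fun v hv => orderOf_eq_prime ?_ hv
    rw [pow_two]
    exact Subtype.ext (hDsq v v.2)
  obtain ⟨T, hT⟩ := (IsPGroup.of_card (p := 2) (n := 2) (G := D) hD4).exists_le_sylow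
  have hYcard : Nat.card Y = 4 * j' * (2 * (j' + 1) + 1) := by
    rw [d.card_cent.2, hij]
    rw [show j' + 1 + 2 * ((j' + 1) * j') - 1 = j' + 2 * ((j' + 1) * j') by omega]
    ring
  have hXcard : Nat.card (Y ⧸ N) * 2 = Nat.card Y := by
    rw [← hN2, mul_comm, ← Subgroup.index_eq_card]
    exact Subgroup.card_mul_index N
  have hT4 : Nat.card (T : Subgroup (Y ⧸ N)) = 4 := by
    obtain ⟨m, hm⟩ := IsPGroup.iff_card.mp T.isPGroup'
    have hdvd := Subgroup.card_subgroup_dvd_card (T : Subgroup (Y ⧸ N))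
    have hle := Subgroup.card_le_of_le hT
    rw [hm] at hdvd hle ⊢
    rw [hD4] at hle
    rcases Nat.lt_or_ge m 3 with hm3 | hm3
    · interval_cases m <;> simp_all
    · exfalso
      have h8' : 8 ∣ Nat.card (Y ⧸ N) := (pow_dvd_pow 2 hm3).trans hdvd
      have h16' : 16 ∣ Nat.card Y := by rw [← hXcard]; exact Nat.mul_dvd_mul h8' dvd_rfl
      apply h16
      rw [hMcard]
      rw [hYcard] at h16'
      exact (Nat.Coprime.dvd_of_dvd_mul_right (by
        rw [show (16 : ℕ) = 2 ^ 4 by norm_num]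
        exact Nat.Coprime.pow_left 4 (Nat.coprime_two_left.mpr ⟨j' + 1, rfl⟩)) h16')
  have hDT : D = (T : Subgroup (Y ⧸ N)) := Subgroup.eq_of_le_of_card_ge hT (by rw [hT4, hD4])
  have hdih : Nonempty ((T : Subgroup (Y ⧸ N)) ≃* DihedralGroup 2) := by
    haveI := hDK
    exact ⟨(MulEquiv.subgroupCongr hDT.symm).trans (Classical.choice IsKleinFour.nonempty_mulEquiv)⟩
  have hwY : w ∈ Y := hEY (Or.inl hw)
  set w' : Y := ⟨w, hwY⟩ with hw'
  have hwD : π w' ∈ D := ⟨w', Or.inl hw, rfl⟩
  have hw'1 : π w' ≠ 1 := fun e => (hNmem w' ((QuotientGroup.eq_one_iff w').mp e)).elim hw1 hwJ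
  -- fusion in `D`
  have hfus : ∀ v ∈ D, v ≠ 1 → ∃ g ∈ Subgroup.normalizer (D : Set (Y ⧸ N)), g * π w' * g⁻¹ = v := by
    rintro _ ⟨e, he, rfl⟩ hv1
    have heE : (e : G) ∈ E := he
    have he1 : (e : G) ≠ 1 := fun h => hv1 (by rw [show e = 1 from Subtype.ext h, map_one])
    have heJ : (e : G) ≠ J := fun h => hv1 ((QuotientGroup.eq_one_iff e).mpr (by
      rw [show e = J₀ from Subtype.ext h]; exact Subgroup.mem_zpowers _))
    have hln := hall _ (hEsq _ heE) he1 heJ (hEJ _ heE)
    obtain ⟨c₁, ⟨h11, h12⟩, hne1⟩ : ∃ c₁, (J • c₁ = c₁ ∧ (e : G) • c₁ = c₁) ∧ a ≠ c₁ := by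
      by_contra hno
      push Not at hno
      have hle : Set.ncard {p : Ω | J • p = p ∧ (e : G) • p = p} ≤ 1 := by
        rw [← Set.ncard_singleton a]
        exact Set.ncard_le_ncard (fun p hp => (hno p hp).symm) (Set.toFinite _)
      rw [d.line_fixed hln] at hle
      omega
    obtain ⟨g, hg, g1, g2⟩ := d.wittJ hne1 (d.a_fixed J d.memJ) h11
    have hgc := Subgroup.mem_centralizer_singleton_iff.mp hg
    have hgJ := d.conj_J hg
    have hm : g⁻¹ * e * g ∈ V := by
      refine d.cent _ (mem_two.mpr ⟨?_, ?_⟩) ?_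
      · rw [mul_smul, mul_smul, g1, hEa _ heE, inv_smul_eq_iff, g1]
      · rw [mul_smul, mul_smul, g2, h12, inv_smul_eq_iff, g2]
      · calc g⁻¹ * (e : G) * g * J = g⁻¹ * ((e : G) * (g * J * g⁻¹)) * g := by group
          _ = g⁻¹ * ((g * J * g⁻¹) * (e : G)) * g := by rw [hgJ, hEJ _ heE]
          _ = J * (g⁻¹ * (e : G) * g) := by group
    let g' : Y := ⟨g, hg, g1⟩
    have hconj : π g' * π w' * (π g')⁻¹ = π e := by
      have h4 : (e : G) = g * w * g⁻¹ ∨ (e : G) = g * (w * J) * g⁻¹ := by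
        rcases d.mem_V_cases hw hw1 hwJ hm with h | h | h | h
        · exact absurd (by calc (e : G) = g * (g⁻¹ * e * g) * g⁻¹ := by group
                                _ = 1 := by rw [h]; group) he1
        · exact absurd (by calc (e : G) = g * (g⁻¹ * e * g) * g⁻¹ := by group
                                _ = J := by rw [h, hgJ]) heJ
        · exact Or.inl (by rw [← h]; group)
        · exact Or.inr (by rw [← h]; group)
      rcases h4 with h4 | h4
      · rw [show e = g' * w' * g'⁻¹ from Subtype.ext h4, map_mul, map_mul, map_inv]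
      · have hJ1 : π J₀ = 1 := (QuotientGroup.eq_one_iff J₀).mpr (Subgroup.mem_zpowers _)
        rw [show e = g' * (w' * J₀) * g'⁻¹ from Subtype.ext h4, map_mul, map_mul, map_mul, map_inv, hJ1,
          mul_one]
    have hcomm : IsMulCommutative (T : Subgroup (Y ⧸ N)) := by
      rw [← hDT]
      exact GW.klein_comm hDK
    have hcen : ∀ x ∈ (T : Subgroup (Y ⧸ N)), x ∈ Subgroup.centralizer ((T : Subgroup (Y ⧸ N)) : Set (Y ⧸ N)) :=
      fun x hx => Subgroup.mem_centralizer_iff.mpr fun y hy =>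
        congrArg Subtype.val (hcomm.is_comm.comm (⟨y, hy⟩ : (T : Subgroup (Y ⧸ N))) ⟨x, hx⟩)
    obtain ⟨n, hn', he'⟩ := T.conj_eq_normalizer_conj_of_mem_centralizer (π w') (π g')⁻¹
      (hcen _ (hT hwD)) (hcen _ (by rw [inv_inv, hconj]; exact hT ⟨e, he, rfl⟩))
    refine ⟨n⁻¹, inv_mem ?_, ?_⟩
    · rw [hDT]; exact hn'
    · rw [← hconj, inv_inv]
      rw [inv_inv] at he'
      exact he'.symm
  -- the centraliser of the image of `w`
  have hcentw : Subgroup.centralizer ({π w'} : Set (Y ⧸ N)) = (M.subgroupOf Y).map π := by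
    ext y
    constructor
    · intro hy
      obtain ⟨g, rfl⟩ := QuotientGroup.mk'_surjective N y
      refine ⟨g, ?_, rfl⟩
      have h1 : g * w' * g⁻¹ * w'⁻¹ ∈ N := by
        rw [← QuotientGroup.eq_one_iff]
        show π (g * w' * g⁻¹ * w'⁻¹) = 1
        rw [map_mul, map_mul, map_mul, map_inv, map_inv, mul_inv_eq_one, mul_inv_eq_iff_eq_mul]
        exact Subgroup.mem_centralizer_singleton_iff.mp hy
      have h2 : (g : G) * w * (g : G)⁻¹ ∈ V := by
        have h3 : (g : G) * w * (g : G)⁻¹ * w⁻¹ ∈ V := by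
          rcases hNmem _ h1 with e | e <;> simp only [Subgroup.coe_mul, Subgroup.coe_inv, hw'] at e <;> rw [e]
          · exact V.one_mem
          · exact d.memJ
        have := mul_mem h3 hw
        rwa [inv_mul_cancel_right] at this
      refine ⟨⟨g.2.1, Subgroup.mem_normalizer_fintype fun v hv => ?_⟩, g.2.2⟩
      show (g : G) * v * (g : G)⁻¹ ∈ V
      rcases d.mem_V_cases hw hw1 hwJ hv with e | e | e | e <;> rw [e]
      · simp
      · rw [d.conj_J g.2.1]; exact d.memJ
      · exact h2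
      · rw [show (g : G) * (w * J) * (g : G)⁻¹ = (g : G) * w * (g : G)⁻¹ * ((g : G) * J * (g : G)⁻¹) by group,
          d.conj_J g.2.1]
        exact mul_mem h2 d.memJ
    · rintro ⟨g, hg, rfl⟩
      rw [Subgroup.mem_centralizer_singleton_iff, ← map_mul, ← map_mul]
      have hm : (g : G) * w * (g : G)⁻¹ ∈ V := (Subgroup.mem_normalizer_iff.mp hg.1.2 w).mp hw
      rcases d.mem_V_cases hw hw1 hwJ hm with e | e | e | e
      · exact absurd (conj_eq_one_iff.mp e) hw1
      · refine absurd ?_ hwJ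
        exact mul_left_cancel (mul_right_cancel (e.trans (d.conj_J g.2.1).symm))
      · congr 1
        exact Subtype.ext (mul_inv_eq_iff_eq_mul.mp e)
      · have hJ1 : π J₀ = 1 := (QuotientGroup.eq_one_iff J₀).mpr (Subgroup.mem_zpowers _)
        rw [show g * w' = w' * J₀ * g from Subtype.ext (mul_inv_eq_iff_eq_mul.mp e), map_mul, map_mul, hJ1,
          mul_one, map_mul]
  have hker : π.ker ≤ M.subgroupOf Y := by
    rw [QuotientGroup.ker_mk']
    exact hNE.trans (fun x hx => hEM hx)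
  have hindex : (Subgroup.centralizer ({π w'} : Set (Y ⧸ N))).index = 2 * (j' + 1) + 1 := by
    rw [hcentw, Subgroup.index_map_eq _ (QuotientGroup.mk'_surjective N) hker]
    have h := Subgroup.card_mul_index (M.subgroupOf Y)
    rw [Nat.card_congr (Subgroup.subgroupOfEquivOfLe hMY).toEquiv, hMcard, hYcard] at h
    exact Nat.eq_of_mul_eq_mul_left (by omega) h
  have hrel : (Subgroup.normalizer (D : Set (Y ⧸ N))).relIndex
      (Subgroup.centralizer ({π w'} : Set (Y ⧸ N))) = 1 := by
    rw [Subgroup.relIndex_eq_one, hcentw]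
    rintro _ ⟨g, hg, rfl⟩
    refine Subgroup.le_normalizer_map π (Subgroup.mem_map_of_mem π ?_)
    refine Subgroup.mem_normalizer_fintype fun e he => ?_
    show (g : G) * (e : G) * (g : G)⁻¹ ∈ E
    have heE : (e : G) ∈ E := he
    refine hF2 _ ?_ ?_ ?_ ?_
    · have := mul_mem (mul_mem hg (hEM heE)) (inv_mem hg)
      exact Subgroup.mem_centralizer_singleton_iff.mp this.1.1
    · exact (mul_mem (mul_mem hg (hEM heE)) (inv_mem hg)).1.2
    · exact (mul_mem (mul_mem hg (hEM heE)) (inv_mem hg)).2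
    · rw [show (g : G) * e * (g : G)⁻¹ * ((g : G) * e * (g : G)⁻¹) = g * (e * e : G) * (g : G)⁻¹ by group,
        hEsq _ heE, mul_one, mul_inv_cancel]
      exact V.one_mem
  obtain ⟨w₁, u, hw₁, hu, hnum⟩ := dih_numbers T 2 le_rfl hdih D hDK hwD hw'1 hfus
  rw [hindex, hrel] at hnum
  have hj7 : j' = 6 := by
    obtain ⟨t, ht⟩ := hjodd
    rw [hj'] at ht
    rcases hnum with ⟨q, -, hq, hq1, hq3, hu1, hu2⟩ | ⟨h105, hk⟩
    · rcases Nat.even_or_odd u with hue | huo
      · rcases hu2 hue with h | h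
        · obtain rfl : w₁ = 1 := by
            have h2 : w₁ ∣ 2 := ⟨u, by rw [← h]⟩
            rcases (Nat.dvd_prime Nat.prime_two).mp h2 with e | e
            · exact e
            · rw [e] at hw₁; exact absurd hw₁ (by decide)
          obtain rfl : u = 2 := by omega
          rcases hq with e | e
          · have := hq1 e
            rw [e] at this
            omega
          · have := hq3 e
            rw [show q = 7 by omega] at this
            omega
        · have := Nat.eq_one_of_mul_eq_one_left h.symm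
          rw [this] at hue
          exact absurd hue (by decide)
      · have h := (hu1 huo).symm
        obtain rfl : w₁ = 1 := Nat.eq_one_of_mul_eq_one_right h
        obtain rfl : u = 1 := by omega
        rcases hq with e | e
        · have := hq1 e
          rw [e] at this
          omega
        · have := hq3 e
          rw [show q = 3 by omega] at this
          omega
    · rcases hk with h | h
      · rw [← h] at h105
        omega
      · omega
  -- the prime `x`
  have hi91 : fx1 Ω J = 91 := by rw [hij, hj7]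
  have hY360 : Nat.card ↥(Subgroup.centralizer ({J} : Set G) ⊓ stabilizer G a) = 360 := by
    rw [d.card_cent.2, hi91]
  have hXc := d.x_mul_cent
  rw [hY360, d.x_eq, hr, hi91] at hXc
  rcases d.cardH with ⟨-, e⟩ | ⟨-, e⟩
  · rw [e] at hXc
    haveI : Fact (Nat.Prime 367) := ⟨by norm_num⟩
    obtain ⟨P, hPn, hPc⟩ := sylow_normal_of_small (p := 367) (m := 360) (hXc.trans (by norm_num))
      (by norm_num) (by norm_num)
    haveI := hPn
    exact d.no_small_normal P (hPc ▸ Fact.out) (by omega) (by rw [hPc, hY360]; norm_num)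
  · rw [e] at hXc
    haveI : Fact (Nat.Prime 1471) := ⟨by norm_num⟩
    obtain ⟨P, hPn, hPc⟩ := sylow_normal_of_small (p := 1471) (m := 360) (hXc.trans (by norm_num))
      (by norm_num) (by norm_num)
    haveI := hPn
    exact d.no_small_normal P (hPc ▸ Fact.out) (by omega) (by rw [hPc, hY360]; norm_num)

end Data

end Cfsg.Agent.TwoPtAlt
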