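import Cfsg.Agent.Lib.TwoPtAlt.Even
import Cfsg.Agent.Lib.TwoPtAlt.OddS
import Cfsg.Agent.Lib.TwoPtAlt.OddTwo
import Cfsg.Agent.Lib.TwoPtAlt.Ends
import Cfsg.Agent.Lib.TwoPtAlt.EndsSixteen
import Cfsg.Agent.Lib.TwoPtAlt.EndsTwentyEight
import Cfsg.Agent.Lib.OddChar.OddTheorem

/-!
# The two theorems: two-point stabiliser `A₄` or `A₅`
-/

set_option autoImplicit false
set_option linter.unusedSectionVars false
set_option linter.style.haveILetI false

namespace Cfsg.Agent.TwoPtAlt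

open MulAction

universe u v

variable {G : Type u} [Group G] [Finite G] {Ω : Type v} [MulAction G Ω] [Fintype Ω]

/-- A normal solvable subgroup forces a regular normal subgroup. -/
theorem solvable_normal_false [FaithfulSMul G Ω] (hp : IsPreprimitive G Ω)
    (hnr : ∀ N : Subgroup G, N.Normal → IsPretransitive ↥N Ω →
      (∀ x : Ω, stabilizer ↥N x = ⊥) → False)
    (S : Subgroup G) [S.Normal] (hs : Group.IsSolvable S) : S = ⊥ := by
  classical
  by_contra hne
  obtain ⟨n, hn⟩ := hs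
  have hex : ∃ n, derivedSeries S n = ⊥ := ⟨n, hn⟩
  set k := Nat.find hex with hk
  have hk0 : k ≠ 0 := by
    intro h0
    have h := Nat.find_spec hex
    rw [← hk, h0, derivedSeries_zero] at h
    exact hne (by rw [← Subgroup.range_subtype S, MonoidHom.range_eq_map, h, Subgroup.map_bot])
  set D := derivedSeries S (k - 1) with hD
  have hD1 : D ≠ ⊥ := Nat.find_min hex (show k - 1 < Nat.find hex by rw [← hk]; omega)
  have hDc : ⁅D, D⁆ = (⊥ : Subgroup S) := by
    rw [hD, ← derivedSeries_succ, show k - 1 + 1 = k by omega]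
    exact Nat.find_spec hex
  set N := D.map S.subtype with hN
  haveI hNn : N.Normal :=
    FittingCores.normal_map_of_characteristic inferInstance (derivedSeries_characteristic S (k - 1))
  have hN1 : N ≠ ⊥ := fun e => hD1 ((Subgroup.map_eq_bot_iff_of_injective _ S.subtype_injective).mp e)
  haveI hNt : IsPretransitive N Ω := PermNormal.transitive_of_normal hp N hN1
  have hcomm : ∀ x ∈ N, ∀ y ∈ N, x * y = y * x := by
    rintro x ⟨x', hx', rfl⟩ y ⟨y', hy', rfl⟩
    have h := Subgroup.mem_centralizer_iff.mp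
      (Subgroup.commutator_eq_bot_iff_le_centralizer.mp hDc hy') x' hx'
    rw [← map_mul, ← map_mul, h]
  refine hnr N hNn hNt fun x => (Subgroup.eq_bot_iff_forall _).mpr fun g hg => ?_
  refine Subtype.ext (eq_of_smul_eq_smul (α := Ω) fun p => ?_)
  obtain ⟨c, rfl⟩ := exists_smul_eq N x p
  show (g : G) • (c : G) • x = (1 : G) • (c : G) • x
  rw [one_smul, smul_smul, hcomm g g.2 c c.2, mul_smul]
  exact congrArg _ hg

namespace Data

variable {a b : Ω} {V : Subgroup G} {J : G} {hh : ℕ} (d : Data a b V J hh)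
include d

/-- The odd degrees. -/
theorem odd_degree {R : ℕ} (hR : (hh = 3 ∧ R = 6) ∨ (hh = 15 ∧ R = 10))
    (htype : ZType G a b ∨ SType a b V J R) (hn : Odd (Nat.card Ω)) :
    (∃ u : G, orderOf u = 2 ∧ Cfsg.IsIsolated u ∧ ∃ c : Ω, u • c = c) ∨
      (GW.DihSylow (stabilizer G a) ∧ ((hh = 3 ∧ Nat.card Ω = 15) ∨
        (hh = 3 ∧ Nat.card Ω = 91) ∨ (hh = 15 ∧ Nat.card Ω = 7))) := by
  rcases htype with hZ | hS
  · left
    obtain ⟨l, -, -, hr, -, -⟩ := d.zType_cases hZ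
    rcases hr with hr | hr | hr
    · exact absurd hr (d.r_ne_one hZ hn)
    · exact d.isolated_of_r_eq hZ hn hr
    · obtain ⟨z, hzz, hza, hzb, hzc⟩ := hZ
      exact (d.two_lines_false hn hzz hza hzb hzc hr
        (d.lines_eq_four hn hzz hza hzb hzc hr)).elim
  · exact Or.inr (d.sType_odd hR hS hn)

end Data

/-- Two-point stabiliser `A₄`. -/
theorem alt_four_cases [FaithfulSMul G Ω] (h2 : IsMultiplyPretransitive G Ω 2) (a b : Ω)
    (hab : a ≠ b) (e : ↥(stabilizer G a ⊓ stabilizer G b) ≃* ↥(alternatingGroup (Fin 4))) :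
    (Fintype.card Ω = 6 ∧ Nonempty (G ≃* ↥(alternatingGroup (Fin 6)))) ∨
      (Fintype.card Ω = 15 ∧ Nonempty (G ≃* ↥(alternatingGroup (Fin 7)))) ∨
      (Fintype.card Ω = 16 ∧ ∃ (F : Type) (_ : Field F) (_ : Fintype F), Fintype.card F = 4 ∧
        Nonempty (G ≃* ((Fin 2 → F) ≃ᵃ[F] (Fin 2 → F)))) ∨
      (∃ J : G, orderOf J = 2 ∧ Subgroup.centralizer ({J} : Set G) ⊔ Cfsg.oddCore G = ⊤) := by
  obtain ⟨V, J, d, htype⟩ := exists_data altFacts4 (Or.inl rfl) (by norm_num) (by norm_num) h2 a b hab e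
  have hG := d.card_G
  simp only [← Nat.card_eq_fintype_card]
  rcases Nat.even_or_odd (Nat.card Ω) with hn | hn
  · rcases d.even_degree (Or.inl ⟨rfl, rfl⟩) htype hn with
      ⟨-, h6⟩ | ⟨-, h28, hi, hS⟩ | ⟨-, h16, hi, -, -, -⟩ | ⟨h, -⟩
    · rw [h6] at hG
      exact Or.inl ⟨h6, end_six h6 hG⟩
    · exact (d.end_twenty_eight h28 fun s hs => by
        rw [d.good_fx (d.all_good hS.allGood hs), hi]).elim
    · exact Or.inr (Or.inr (Or.inl ⟨h16, by
        simpa only [Nat.card_eq_fintype_card] using d.end_sixteen h16 hi⟩))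
    · omega
  · rcases d.odd_degree (Or.inl ⟨rfl, rfl⟩) htype hn with
      ⟨u, hu, hiso, -⟩ | ⟨hd, ⟨-, h15⟩ | ⟨-, h91⟩ | ⟨h, -⟩⟩
    · exact Or.inr (Or.inr (Or.inr ⟨u, hu, zstar_split hu hiso⟩))
    · rw [h15] at hG
      exact Or.inr (Or.inl ⟨h15, end_fifteen h2 h15 hG a hd⟩)
    · rw [h91] at hG
      exact (end_ninety_one h2 h91 hG a hd).elim
    · omega

/-- Two-point stabiliser `A₅`. -/
theorem alt_five_cases [FaithfulSMul G Ω] (h2 : IsMultiplyPretransitive G Ω 2) (a b : Ω)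
    (hab : a ≠ b)
    (hnr : ∀ N : Subgroup G, N.Normal → IsPretransitive ↥N Ω →
      (∀ x : Ω, stabilizer ↥N x = ⊥) → False)
    (e : ↥(stabilizer G a ⊓ stabilizer G b) ≃* ↥(alternatingGroup (Fin 5))) :
    (Fintype.card Ω = 7 ∧ Nonempty (G ≃* ↥(alternatingGroup (Fin 7)))) ∨
      (Fintype.card Ω = 12 ∧ Cfsg.Spor.IsoM11 G) := by
  obtain ⟨V, J, d, htype⟩ := exists_data altFacts5 (Or.inr rfl) (by norm_num) (by norm_num) h2 a b hab e
  have hG := d.card_G
  simp only [← Nat.card_eq_fintype_card]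
  rcases Nat.even_or_odd (Nat.card Ω) with hn | hn
  · rcases d.even_degree (Or.inr ⟨rfl, rfl⟩) htype hn with
      ⟨h, -⟩ | ⟨h, -⟩ | ⟨h, -⟩ | ⟨-, h12⟩
    iterate 3 omega
    rw [h12] at hG
    exact Or.inr ⟨h12, end_twelve h2 h12 hG a b hab hnr e⟩
  · rcases d.odd_degree (Or.inr ⟨rfl, rfl⟩) htype hn with
      ⟨u, hu, hiso, c, hc⟩ | ⟨hd, ⟨h, -⟩ | ⟨h, -⟩ | ⟨-, h7⟩⟩
    · exfalso
      haveI : (Cfsg.oddCore G).Normal := FittingCores.pPrimeCore_normal 2
      have hO : Odd (Nat.card (Cfsg.oddCore G)) :=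
        Nat.coprime_two_right.1 (PBasic.pPrimeCore_coprime 2 G)
      have hbot := solvable_normal_false (isPreprimitive_of_two h2) hnr (Cfsg.oddCore G)
        (OddChar.oddSolvable _ hO)
      have hsplit := zstar_split hu hiso
      rw [hbot, sup_bot_eq] at hsplit
      haveI : IsPretransitive G Ω := isPretransitive_of_is_two_pretransitive
      have hu1 : u = 1 := eq_of_smul_eq_smul (α := Ω) fun p => by
        obtain ⟨g, rfl⟩ := exists_smul_eq G c p
        have hg : g ∈ Subgroup.centralizer ({u} : Set G) := hsplit ▸ Subgroup.mem_top g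
        rw [one_smul, smul_smul, ← Subgroup.mem_centralizer_singleton_iff.1 hg, mul_smul, hc]
      rw [hu1, orderOf_one] at hu
      omega
    · omega
    · omega
    · rw [h7] at hG
      exact Or.inl ⟨h7, end_seven h7 hG⟩

end Cfsg.Agent.TwoPtAlt
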