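import Cfsg.Agent.Lib.TwoPtAlt.Types

/-!
# Two-point stabilisers isomorphic to `A₄` or `A₅`: the point stabiliser as a group
-/

set_option autoImplicit false
set_option linter.unusedSectionVars false
set_option linter.style.haveILetI false

namespace Cfsg.Agent.TwoPtAlt

open MulAction Cfsg.Agent.Zass
open scoped Classical

universe u v

variable {G : Type u} [Group G] [Finite G] {Ω : Type v} [MulAction G Ω] [Fintype Ω]

/-- The centraliser in a subgroup. -/
theorem cent_map_subtype (X : Subgroup G) (s : X) :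
    (Subgroup.centralizer ({s} : Set X)).map X.subtype = Subgroup.centralizer ({(s : G)} : Set G) ⊓ X := by
  ext g
  constructor
  · rintro ⟨x, hx, rfl⟩
    exact ⟨Subgroup.mem_centralizer_singleton_iff.mpr
      (congrArg Subtype.val (Subgroup.mem_centralizer_singleton_iff.mp hx) :), x.2⟩
  · rintro ⟨hg, hgX⟩
    exact ⟨⟨g, hgX⟩, Subgroup.mem_centralizer_singleton_iff.mpr
      (Subtype.ext (Subgroup.mem_centralizer_singleton_iff.mp hg)), rfl⟩

/-- The normaliser in a subgroup. -/
theorem norm_subgroupOf_iff (X V : Subgroup G) (hV : V ≤ X) (g : X) :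
    g ∈ Subgroup.normalizer ((V.subgroupOf X : Subgroup X) : Set X) ↔
      (g : G) ∈ Subgroup.normalizer (V : Set G) := by
  constructor
  · intro h
    refine Subgroup.mem_normalizer_fintype fun v hv => ?_
    exact (Subgroup.mem_normalizer_iff.mp h (⟨v, hV hv⟩ : X)).mp hv
  · intro h
    rw [Subgroup.mem_normalizer_iff]
    intro y
    exact Subgroup.mem_normalizer_iff.mp h (y : G)

namespace Data

variable {a b : Ω} {V : Subgroup G} {J : G} {hh : ℕ} (d : Data a b V J hh)
include d

theorem V_le_stab : V ≤ stabilizer G a := fun v hv => d.a_fixed v hv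

/-- `J` as an element of the point stabiliser. -/
abbrev J' : stabilizer G a := ⟨J, d.V_le_stab d.memJ⟩

theorem klein' : IsKleinFour ↥(V.subgroupOf (stabilizer G a)) := by
  haveI := d.klein
  refine ⟨?_, ?_⟩
  · rw [Nat.card_congr (Subgroup.subgroupOfEquivOfLe d.V_le_stab).toEquiv]
    exact IsKleinFour.card_four
  · rw [Monoid.exponent_eq_of_mulEquiv (Subgroup.subgroupOfEquivOfLe d.V_le_stab)]
    exact IsKleinFour.exponent_two

theorem J'_ne : d.J' ≠ 1 := fun e => d.neJ (congrArg Subtype.val e :)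

theorem x_index : (Subgroup.centralizer ({d.J'} : Set (stabilizer G a))).index = xNum J a := by
  have h := d.x_mul_cent
  rw [← cent_map_subtype (stabilizer G a) d.J',
    Subgroup.card_map_of_injective (stabilizer G a).subtype_injective,
    ← Subgroup.index_mul_card (Subgroup.centralizer ({d.J'} : Set (stabilizer G a)))] at h
  exact Nat.eq_of_mul_eq_mul_right Nat.card_pos h

theorem k_mul' : (Subgroup.normalizer ((V.subgroupOf (stabilizer G a) : Subgroup (stabilizer G a)) :
      Set (stabilizer G a))).relIndex (Subgroup.centralizer ({d.J'} : Set (stabilizer G a))) *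
      (fxS Ω V - 1) = fx1 Ω J - 1 := by
  have h := d.k_mul
  rw [← cent_map_subtype (stabilizer G a) d.J'] at h
  have e : Subgroup.normalizer ((V.subgroupOf (stabilizer G a) : Subgroup (stabilizer G a)) :
      Set (stabilizer G a)) = (Subgroup.normalizer (V : Set G)).comap (stabilizer G a).subtype :=
    Subgroup.ext fun g => norm_subgroupOf_iff _ _ d.V_le_stab g
  rw [e, Subgroup.relIndex_comap]
  exact h

/-- The three involutions of `V` are conjugate in `N_H(V)`. -/
theorem rot_conj : ∀ v ∈ V, v ≠ 1 →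
    ∃ g ∈ Zass.two (G := G) a b, g ∈ Subgroup.normalizer (V : Set G) ∧ g * J * g⁻¹ = v := by
  intro v hv hv1
  obtain ⟨w, hw, hwV, hwJ⟩ := d.rot
  have hwN : w ∈ Subgroup.normalizer (V : Set G) := Subgroup.mem_normalizer_fintype hwV
  set v₁ := w * J * w⁻¹ with hv₁
  have hv₁V : v₁ ∈ V := hwV J d.memJ
  have hv₁1 : v₁ ≠ 1 := fun e => d.neJ (conj_eq_one_iff.mp e)
  set v₂ := w * v₁ * w⁻¹ with hv₂
  have hv₂V : v₂ ∈ V := hwV v₁ hv₁V
  have hv₂1 : v₂ ≠ 1 := fun e => hv₁1 (conj_eq_one_iff.mp e)
  have hv₂v₁ : v₂ ≠ v₁ := fun e => hwJ (mul_left_cancel (mul_right_cancel e))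
  have hv₂J : v₂ ≠ J := by
    intro e
    have hcomm : w * w * J = J * (w * w) := by
      calc w * w * J = w * (w * J * w⁻¹) * w⁻¹ * (w * w) := by group
        _ = J * (w * w) := by rw [← hv₁, ← hv₂, e]
    have h4 : w * w ∈ V := d.cent _ (mul_mem hw hw) hcomm
    set K : Subgroup G := Zass.two a b ⊓ Subgroup.normalizer (V : Set G)
    haveI : (V.subgroupOf K).Normal := ⟨fun x hx g => by
      rw [Subgroup.mem_subgroupOf] at hx ⊢
      exact (Subgroup.mem_normalizer_iff.mp g.2.2 _).mp hx⟩
    have hi : (V.subgroupOf K).index = 3 := by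
      have h := Subgroup.card_mul_index (V.subgroupOf K)
      rw [Nat.card_congr (Subgroup.subgroupOfEquivOfLe
        (le_inf d.le Subgroup.le_normalizer : V ≤ K)).toEquiv, d.card_V, d.normV] at h
      omega
    have h3 := Subgroup.pow_index_mem (V.subgroupOf K) (⟨w, hw, hwN⟩ : K)
    rw [hi] at h3
    have h3' : w ^ 3 ∈ V := h3
    have hwmem : w ∈ V := by
      have := mul_mem (inv_mem h4) h3'
      rwa [show (w * w)⁻¹ * w ^ 3 = w by rw [pow_succ, pow_two, inv_mul_cancel_left]] at this
    exact hwJ (by rw [hv₁, d.comm hwmem d.memJ, mul_inv_cancel_right])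
  have hcases := d.mem_V_cases hv₁V hv₁1 hwJ hv
  have hv₂' : v₂ = v₁ * J := by
    rcases d.mem_V_cases hv₁V hv₁1 hwJ hv₂V with e | e | e | e
    exacts [absurd e hv₂1, absurd e hv₂J, absurd e hv₂v₁, e]
  rcases hcases with e | e | e | e
  · exact absurd e hv1
  · exact ⟨1, one_mem _, one_mem _, by rw [e]; group⟩
  · exact ⟨w, hw, hwN, e.symm⟩
  · refine ⟨w * w, mul_mem hw hw, mul_mem hwN hwN, ?_⟩
    rw [e, ← hv₂', hv₂, hv₁]
    group

theorem hN' : ∀ v ∈ V.subgroupOf (stabilizer G a), v ≠ 1 →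
    ∃ g ∈ Subgroup.normalizer ((V.subgroupOf (stabilizer G a) : Subgroup (stabilizer G a)) :
      Set (stabilizer G a)), g * d.J' * g⁻¹ = v := by
  intro v hv hv1
  obtain ⟨g, hg, hgN, he⟩ := d.rot_conj v hv fun e => hv1 (Subtype.ext e)
  refine ⟨⟨g, (mem_two.mp hg).1⟩, (norm_subgroupOf_iff _ _ d.V_le_stab _).mpr hgN, Subtype.ext he⟩

end Data

end Cfsg.Agent.TwoPtAlt
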