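import Cfsg.Agent.Lib.TwoPtAlt.OddZ
import Cfsg.Agent.Lib.TwoPtAlt.Point

/-!
# Two-point stabilisers isomorphic to `A₄` or `A₅`: odd degree, all swappers good, the lines
-/

set_option autoImplicit false
set_option linter.unusedSectionVars false
set_option linter.style.haveILetI false

namespace Cfsg.Agent.TwoPtAlt

open MulAction Cfsg.Agent.Zass
open scoped Classical

universe u v

variable {G : Type u} [Group G] [Finite G] {Ω : Type v} [MulAction G Ω] [Fintype Ω]

namespace Data

variable {a b : Ω} {V : Subgroup G} {J : G} {hh : ℕ} (d : Data a b V J hh)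
include d

/-- If every involution moving `a` to `b` is good, every involution is good. -/
theorem all_good (hsw : ∀ s : G, s * s = 1 → s • a = b → IsConj J s) {s : G} (hs : orderOf s = 2) :
    IsConj J s := by
  obtain ⟨p, hp⟩ : ∃ p : Ω, s • p ≠ p := by
    by_contra hno
    push Not at hno
    have := d.faith.eq_of_smul_eq_smul (m₁ := s) (m₂ := (1 : G)) fun p => by rw [one_smul, hno p]
    rw [this, orderOf_one] at hs
    omega
  obtain ⟨g, g1, g2⟩ := d.move d.ne (Ne.symm hp)
  have hss : s * s = 1 := by rw [← pow_two, ← hs, pow_orderOf_eq_one]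
  have h := hsw (g⁻¹ * s * g) (by
    rw [show g⁻¹ * s * g * (g⁻¹ * s * g) = g⁻¹ * (s * s) * g by group, hss, mul_one, inv_mul_cancel])
    (by rw [mul_smul, mul_smul, g1, inv_smul_eq_iff, g2])
  exact h.trans (isConj_iff.mpr ⟨g, by group⟩)

theorem z_allgood {z : G} (hzz : z * z = 1) (hza : z • a = b) (hzb : z • b = a)
    (hzc : ∀ h ∈ Zass.two (G := G) a b, z * h = h * z) (hr : rNum J a b = hh + 1) :
    ∀ s : G, s * s = 1 → s • a = b → IsConj J s := by
  intro s hs hsa
  have hsub : {s : G | IsConj J s ∧ s • a = b} ⊆ {s : G | s * s = 1 ∧ s • a = b} := fun t ht =>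
    ⟨by rw [← pow_two, ← d.good_order ht.1, pow_orderOf_eq_one], ht.2⟩
  have heq := Set.eq_of_subset_of_ncard_le hsub (by
    rw [d.z_swappers hzz hza hzb hzc]; exact hr.ge) (Set.toFinite _)
  exact (heq.ge (show s ∈ {s : G | s * s = 1 ∧ s • a = b} from ⟨hs, hsa⟩)).1

/-- Conjugating an involution by an element of `C(J)`. -/
theorem conj_J {k : G} (hk : k ∈ Subgroup.centralizer ({J} : Set G)) : k * J * k⁻¹ = J :=
  mul_inv_eq_iff_eq_mul.mpr (Subgroup.mem_centralizer_singleton_iff.mp hk)

/-- The involutions off the lines fixing `a` are as many as those moving `a` to `b`. -/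
theorem bad_point (hi : Odd (fx1 Ω J)) :
    Set.ncard {t : G | (t * t = 1 ∧ t ≠ 1 ∧ t * J = J * t ∧ ¬ Four Ω J t) ∧ t • a = a} =
      Set.ncard {t : G | (t * t = 1 ∧ t ≠ 1 ∧ t * J = J * t ∧ ¬ Four Ω J t) ∧ t • a = b} := by
  refine per_point (Subgroup.centralizer ({J} : Set G)) {p : Ω | J • p = p} (d.a_fixed J d.memJ)
    (d.b_fixed J d.memJ) d.ne (fun k hk p hp => d.cent_maps hk hp)
    (fun c hc c' hc' hne => d.wittJ hne hc hc')
    {t : G | t * t = 1 ∧ t ≠ 1 ∧ t * J = J * t ∧ ¬ Four Ω J t} ?_
    (fun t ht p hp => d.cent_inv_maps ht.2.2.1 hp) fun t ht => d.one_fixed hi ht.1 ht.2.2.1 ht.2.2.2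
  rintro k hk t ⟨h1, h2, h3, h4⟩
  have hkJ := d.conj_J hk
  refine ⟨?_, fun e => h2 (conj_eq_one_iff.mp e), ?_, fun e => h4 ?_⟩
  · rw [show k * t * k⁻¹ * (k * t * k⁻¹) = k * (t * t) * k⁻¹ by group, h1, mul_one, mul_inv_cancel]
  · calc k * t * k⁻¹ * J = k * t * k⁻¹ * (k * J * k⁻¹) := by rw [hkJ]
      _ = k * (t * J) * k⁻¹ := by group
      _ = k * J * k⁻¹ * (k * t * k⁻¹) := by rw [h3]; group
      _ = J * (k * t * k⁻¹) := by rw [hkJ]
  · have := four_conj (g := k⁻¹) e
    rw [show k⁻¹ * J * k⁻¹⁻¹ = J by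
      conv_lhs => rw [← hkJ]
      group, show k⁻¹ * (k * t * k⁻¹) * k⁻¹⁻¹ = t by group] at this
    exact this

/-- In the central type the off-line swappers are the four of them less the lines. -/
theorem bad_swappers {z : G} (hzz : z * z = 1) (hza : z • a = b) (hzb : z • b = a)
    (hzc : ∀ h ∈ Zass.two (G := G) a b, z * h = h * z) :
    Set.ncard {t : G | (t * t = 1 ∧ t ≠ 1 ∧ t * J = J * t ∧ ¬ Four Ω J t) ∧ t • a = b} + lNum V J a b = 4 := by
  set S : Set G := {t : G | t * t = 1 ∧ t • a = b ∧ t * J = J * t} with hS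
  have hSeq : S = (z * ·) '' (V : Set G) := by
    ext t
    constructor
    · rintro ⟨ht, hta, htJ⟩
      rcases d.swapper_decomp hzz hza hzb hzc ht hta with e | ⟨h, hh', -, e⟩
      · exact ⟨1, V.one_mem, by show z * 1 = t; rw [mul_one, e]⟩
      · subst e
        refine ⟨h, d.cent h hh' ?_, rfl⟩
        rw [mul_assoc, ← mul_assoc J z h, ← hzc J d.J_mem, mul_assoc] at htJ
        exact mul_left_cancel htJ
    · rintro ⟨v, hv, rfl⟩
      refine ⟨?_, ?_, ?_⟩
      · show z * v * (z * v) = 1
        calc z * v * (z * v) = z * (v * z) * v := by group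
          _ = z * z * (v * v) := by rw [← hzc v (d.le hv)]; group
          _ = 1 := by rw [hzz, d.sq hv, one_mul]
      · show (z * v) • a = b
        rw [mul_smul, d.a_fixed v hv, hza]
      · show z * v * J = J * (z * v)
        rw [mul_assoc, d.comm hv d.memJ, ← mul_assoc, hzc J d.J_mem, mul_assoc]
  have hS4 : S.ncard = 4 := by
    rw [hSeq, Set.ncard_image_of_injective _ (mul_right_injective z), ← Nat.card_coe_set_eq]
    exact d.card_V
  have hne : ∀ t ∈ S, t ≠ 1 ∧ t ≠ J := fun t ht => ⟨fun e => d.ne (by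
    have := ht.2.1; rwa [e, one_smul] at this), fun e => d.ne (by
    have := ht.2.1; rwa [e, d.a_fixed J d.memJ] at this)⟩
  have hline : {s : G | Line V J s ∧ s • a = b} = {t ∈ S | Four Ω J t} := by
    ext t
    constructor
    · rintro ⟨h, hta⟩
      have htS : t ∈ S := ⟨by rw [← pow_two, ← d.line_order h, pow_orderOf_eq_one], hta, Line.comm d h⟩
      exact ⟨htS, (d.line_iff_four htS.1 (hne t htS).1 (hne t htS).2 htS.2.2).mp h⟩
    · rintro ⟨htS, h⟩
      exact ⟨(d.line_iff_four htS.1 (hne t htS).1 (hne t htS).2 htS.2.2).mpr h, htS.2.1⟩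
  have hbad : {t : G | (t * t = 1 ∧ t ≠ 1 ∧ t * J = J * t ∧ ¬ Four Ω J t) ∧ t • a = b} =
      S \ {t ∈ S | Four Ω J t} := by
    ext t
    constructor
    · rintro ⟨⟨h1, h2, h3, h4⟩, h5⟩
      exact ⟨⟨h1, h5, h3⟩, fun h => h4 h.2⟩
    · rintro ⟨htS, h⟩
      exact ⟨⟨htS.1, (hne t htS).1, htS.2.2, fun h' => h ⟨htS, h'⟩⟩, htS.2.1⟩
  rw [lNum, hline, hbad, Set.ncard_sdiff (fun t ht => ht.1) (Set.toFinite _), hS4]
  have := Set.ncard_le_ncard (show {t ∈ S | Four Ω J t} ⊆ S from fun t ht => ht.1) (Set.toFinite _)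
  rw [hS4] at this
  omega

/-- Three off-line partners of one good involution at a common point. -/
theorem bad_three {s : G} (hs : IsConj J s) {c : Ω} (hsc : s • c = c) {t₁ t₂ t₃ : G}
    (h12 : t₁ ≠ t₂) (h13 : t₁ ≠ t₃) (h23 : t₂ ≠ t₃)
    (ht : ∀ t ∈ ({t₁, t₂, t₃} : Set G), (t * t = 1 ∧ t ≠ 1 ∧ t * s = s * t ∧ ¬ Four Ω s t) ∧ t • c = c) :
    3 ≤ Set.ncard {t : G | (t * t = 1 ∧ t ≠ 1 ∧ t * J = J * t ∧ ¬ Four Ω J t) ∧ t • a = a} := by
  obtain ⟨g, g1, g2⟩ := d.good_conj_stab hs hsc
  have h3 : Set.ncard ({t₁, t₂, t₃} : Set G) = 3 := by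
    rw [Set.ncard_insert_of_notMem (by simp [h12, h13]), Set.ncard_pair h23]
  rw [← h3]
  refine Set.ncard_le_ncard_of_injOn (fun t => g⁻¹ * t * g) ?_ ?_ (Set.toFinite _)
  · intro t htm
    obtain ⟨⟨h1, h2, h4, h5⟩, h6⟩ := ht t htm
    refine ⟨⟨?_, fun e => h2 ?_, ?_, fun e => h5 ?_⟩, ?_⟩
    · show g⁻¹ * t * g * (g⁻¹ * t * g) = 1
      rw [show g⁻¹ * t * g * (g⁻¹ * t * g) = g⁻¹ * (t * t) * g by group, h1, mul_one, inv_mul_cancel]
    · calc t = g * (g⁻¹ * t * g) * g⁻¹ := by group
        _ = 1 := by rw [show g⁻¹ * t * g = 1 from e]; group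
    · show g⁻¹ * t * g * J = J * (g⁻¹ * t * g)
      calc g⁻¹ * t * g * J = g⁻¹ * (t * (g * J * g⁻¹)) * g := by group
        _ = g⁻¹ * ((g * J * g⁻¹) * t) * g := by rw [g2, h4]
        _ = J * (g⁻¹ * t * g) := by group
    · have := four_conj (g := g) e
      rwa [g2, show g * (g⁻¹ * t * g) * g⁻¹ = t by group] at this
    · show (g⁻¹ * t * g) • a = a
      rw [mul_smul, mul_smul, g1, h6, inv_smul_eq_iff, g1]
  · intro x _ y _ e
    exact mul_left_cancel (mul_right_cancel e)

/-- A swapper in `C(J) ∩ N(V)` fixes one fixed point of `V`. -/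
theorem exists_swap_fixed {g : G} (hn : Odd (fxS Ω V)) (_hgJ : g * J = J * g)
    (hgN : g ∈ Subgroup.normalizer (V : Set G)) (hg2 : g * g ∈ V) :
    ∃ c : Ω, (∀ v ∈ V, v • c = c) ∧ g • c = c := by
  by_contra hno
  push Not at hno
  let F := {p : Ω // ∀ v ∈ V, v • p = p}
  have hmap : ∀ p : F, ∀ v ∈ V, v • (g • p.1) = g • p.1 := fun p => d.norm_maps hgN p.2
  have hsq : ∀ p : F, g • (g • p.1) = p.1 := fun p => by rw [← mul_smul]; exact p.2 _ hg2
  let σ : Equiv.Perm F :=
    { toFun := fun p => ⟨g • p.1, hmap p⟩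
      invFun := fun p => ⟨g • p.1, hmap p⟩
      left_inv := fun p => Subtype.ext (hsq p)
      right_inv := fun p => Subtype.ext (hsq p) }
  have h1 : σ.support = Finset.univ := Finset.eq_univ_of_forall fun p =>
    Equiv.Perm.mem_support.mpr fun e => hno p.1 p.2 (congrArg Subtype.val e)
  have h2 : σ ^ 2 = 1 := by
    ext p
    exact hsq p
  have h3 : 2 ∣ σ.support.card := Equiv.Perm.two_dvd_card_support (σ := σ) h2
  rw [h1, Finset.card_univ, ← Nat.card_eq_fintype_card,
    show Nat.card F = fxS Ω V from Nat.card_coe_set_eq _] at h3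
  exact Nat.not_even_iff_odd.mpr hn (even_iff_two_dvd.mpr h3)

/-- When every involution is good and the degree is odd, there are two lines through `a`, `b`. -/
theorem lines_eq_four (hn : Odd (Nat.card Ω)) {z : G} (hzz : z * z = 1) (hza : z • a = b)
    (hzb : z • b = a) (hzc : ∀ h ∈ Zass.two (G := G) a b, z * h = h * z)
    (hr : rNum J a b = hh + 1) : lNum V J a b = 4 := by
  have hgood : ∀ s : G, orderOf s = 2 → IsConj J s := fun s =>
    d.all_good (d.z_allgood hzz hza hzb hzc hr)
  obtain ⟨l, hl, hl2, -, -, -⟩ := d.zType_cases ⟨z, hzz, hza, hzb, hzc⟩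
  have hi := d.odd_i hn
  have hline := d.line_eq
  rw [hl] at hline
  have hij : fx1 Ω J = fxS Ω V + l * (fxS Ω V * (fxS Ω V - 1)) := by
    have : 2 * (fx1 Ω J - fxS Ω V) = 2 * (l * (fxS Ω V * (fxS Ω V - 1))) := by rw [hline]; ring
    have := d.j_le_i
    omega
  have hj : Odd (fxS Ω V) := by
    obtain ⟨t, ht⟩ := Nat.even_mul_succ_self (fxS Ω V - 1)
    have := d.two_le_j
    rw [show fxS Ω V - 1 + 1 = fxS Ω V by omega, mul_comm] at ht
    rw [ht, show l * (t + t) = 2 * (l * t) by ring] at hij
    rw [Nat.odd_iff] at hi ⊢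
    omega
  have hzJ : z * J = J * z := hzc J d.J_mem
  have hzN : z ∈ Subgroup.normalizer (V : Set G) := d.swap_norm hza hzb hzJ
  have hz1 : z ≠ 1 := fun e => d.ne (by rwa [e, one_smul] at hza)
  have hznV : z ∉ V := fun h => d.ne (by rw [d.a_fixed z h] at hza; exact hza)
  obtain ⟨c, hcV, hzc'⟩ := d.exists_swap_fixed hj hzJ hzN (by rw [hzz]; exact V.one_mem)
  have hzgood := hgood z (orderOf_eq_prime (by rw [pow_two]; exact hzz) hz1)
  have hJc := hcV J d.memJ
  obtain ⟨w, hw, hw1, hwJ⟩ := d.exists_other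
  have hwJ1 : w * J ≠ 1 := fun e => hwJ (by
    rw [mul_eq_one_iff_eq_inv] at e
    exact e.trans (inv_eq_of_mul_eq_one_right (d.sq d.memJ)))
  have hbad := d.bad_swappers hzz hza hzb hzc
  rw [← d.bad_point hi, hl] at hbad
  -- moving the line relation to another involution of `V`
  have hshift : ∀ v ∈ V, v ≠ 1 → Four Ω v z → Four Ω J z := by
    intro v hv hv1 h
    obtain ⟨k, hk, -, hke⟩ := d.rot_conj v hv hv1
    have := four_conj (g := k⁻¹) h
    rwa [← hke, show k⁻¹ * (k * J * k⁻¹) * k⁻¹⁻¹ = J by group,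
      show k⁻¹ * z * k⁻¹⁻¹ = z by rw [inv_inv, mul_assoc, hzc k hk, inv_mul_cancel_left]] at this
  rcases Nat.lt_or_ge l 2 with hl' | hl'
  · exfalso
    rcases Nat.eq_zero_or_pos l with hl0 | hl0
    · -- no line: `J` and `V` have the same fixed points
      have hfixeq : ∀ p : Ω, J • p = p → ∀ v ∈ V, v • p = p := by
        rw [hl0, zero_mul, add_zero] at hij
        have := Set.eq_of_subset_of_ncard_le
          (show {p : Ω | ∀ v ∈ V, v • p = p} ⊆ {p : Ω | J • p = p} from fun p hp => hp J d.memJ)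
          (by rw [← fx1, ← fxS, hij]) (Set.toFinite _)
        intro p hp
        exact this.ge hp
      have hN : ∀ g : G, g * J = J * g → g ∈ Subgroup.normalizer (V : Set G) := by
        intro g hg
        have hfix : ∀ v ∈ V, ∀ p : Ω, J • p = p → (g * v * g⁻¹) • p = p := by
          intro v hv p hp
          have hgi : g⁻¹ * J = J * g⁻¹ := by
            rw [inv_mul_eq_iff_eq_mul, ← mul_assoc, hg, mul_inv_cancel_right]
          have hp' : J • (g⁻¹ • p) = g⁻¹ • p := d.cent_inv_maps hgi hp
          rw [mul_smul, mul_smul, hfixeq _ hp' v hv, smul_inv_smul]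
        refine d.conj_V_eq (fun v hv => mem_two.mpr
          ⟨hfix v hv a (d.a_fixed J d.memJ), hfix v hv b (d.b_fixed J d.memJ)⟩) fun v hv => ?_
        have hgJ : g * J * g⁻¹ = J := mul_inv_eq_iff_eq_mul.mpr hg
        calc g * v * g⁻¹ * J = g * v * g⁻¹ * (g * J * g⁻¹) := by rw [hgJ]
          _ = g * (v * J) * g⁻¹ := by group
          _ = g * J * g⁻¹ * (g * v * g⁻¹) := by rw [d.comm hv d.memJ]; group
          _ = J * (g * v * g⁻¹) := by rw [hgJ]
      obtain ⟨g, g1, g2⟩ := d.good_conj_stab hzgood hzc'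
      set φ : G → G := fun v => g⁻¹ * v * g
      have hφ : ∀ v ∈ V, φ v * φ v = 1 ∧ φ v * J = J * φ v ∧ φ v • a = a := by
        intro v hv
        refine ⟨?_, ?_, ?_⟩
        · show g⁻¹ * v * g * (g⁻¹ * v * g) = 1
          rw [show g⁻¹ * v * g * (g⁻¹ * v * g) = g⁻¹ * (v * v) * g by group, d.sq hv, mul_one,
            inv_mul_cancel]
        · show g⁻¹ * v * g * J = J * (g⁻¹ * v * g)
          calc g⁻¹ * v * g * J = g⁻¹ * (v * (g * J * g⁻¹)) * g := by group
            _ = g⁻¹ * ((g * J * g⁻¹) * v) * g := by rw [g2, hzc v (d.le hv)]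
            _ = J * (g⁻¹ * v * g) := by group
        · show (g⁻¹ * v * g) • a = a
          rw [mul_smul, mul_smul, g1, hcV v hv, inv_smul_eq_iff, g1]
      have hprod : φ J * φ w = φ (J * w) := by simp only [φ]; group
      have hJw : J * w ∈ V := mul_mem d.memJ hw
      have hJw1 : J * w ≠ 1 := fun e => hwJ (by
        rw [mul_eq_one_iff_inv_eq] at e
        exact e.symm.trans (inv_eq_of_mul_eq_one_right (d.sq d.memJ)))
      obtain ⟨v, hv, hv1, hφv⟩ : ∃ v ∈ V, v ≠ 1 ∧ φ v ∈ V := by
        by_contra hno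
        push Not at hno
        have hm := d.sharp_facts.2.1 (φ J) (φ w) (hφ J d.memJ).2.1 (hN _ (hφ J d.memJ).2.1)
          (hφ w hw).2.1 (hN _ (hφ w hw).2.1) (hno J d.memJ d.neJ) (hno w hw hw1)
          (by rw [(hφ J d.memJ).1]; exact V.one_mem) (by rw [(hφ w hw).1]; exact V.one_mem) a d.a_fixed
          (hφ J d.memJ).2.2 (hφ w hw).2.2
        rw [inv_eq_of_mul_eq_one_right (hφ J d.memJ).1, hprod] at hm
        exact hno _ hJw hJw1 hm
      have hF : Four Ω v z := by
        refine four_symm ⟨g • a, g • b, fun e => d.ne ((smul_left_cancel_iff g).mp e), ⟨?_, ?_⟩, ?_, ?_⟩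
        · rw [← g2, mul_smul, mul_smul, inv_smul_smul, d.a_fixed J d.memJ]
        · have := d.a_fixed _ hφv
          simp only [φ, mul_smul, inv_smul_eq_iff] at this
          exact this
        · rw [← g2, mul_smul, mul_smul, inv_smul_smul, d.b_fixed J d.memJ]
        · have := d.b_fixed _ hφv
          simp only [φ, mul_smul, inv_smul_eq_iff] at this
          exact this
      have hzl : Line V J z := (d.line_iff_four hzz hz1 (fun e => hznV (e ▸ d.memJ)) hzJ).mpr
        (hshift v hv hv1 hF)
      have : 0 < lNum V J a b := (Set.ncard_pos (Set.toFinite _)).mpr ⟨z, hzl, hza⟩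
      omega
    · -- one line
      have h3 : 3 ≤ Set.ncard {t : G | (t * t = 1 ∧ t ≠ 1 ∧ t * J = J * t ∧ ¬ Four Ω J t) ∧ t • a = a} := by
        by_cases hF : Four Ω J z
        · -- the element `z w`
          have hzw2 : (z * w) * (z * w) = 1 := by
            calc z * w * (z * w) = z * (w * z) * w := by group
              _ = z * z * (w * w) := by rw [← hzc w (d.le hw)]; group
              _ = 1 := by rw [hzz, d.sq hw, one_mul]
          have hzw1 : z * w ≠ 1 := fun e => hznV (by
            rw [mul_eq_one_iff_eq_inv] at e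
            rw [e]; exact inv_mem hw)
          have hzwgood := hgood _ (orderOf_eq_prime (by rw [pow_two]; exact hzw2) hzw1)
          have hzwJ : z * w * J = J * (z * w) := by
            rw [mul_assoc, d.comm hw d.memJ, ← mul_assoc, hzJ, mul_assoc]
          have hzwa : (z * w) • a = b := by rw [mul_smul, d.a_fixed w hw, hza]
          have hnline : ∀ v ∈ V, v ≠ 1 → v ≠ J → ¬ Four Ω J (z * v) := by
            intro v hv hv1 hvJ hFv
            have hzv1 : z * v ≠ 1 := fun e => hznV (by
              rw [mul_eq_one_iff_eq_inv] at e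
              rw [e]; exact inv_mem hv)
            have hzvJ : z * v * J = J * (z * v) := by
              rw [mul_assoc, d.comm hv d.memJ, ← mul_assoc, hzJ, mul_assoc]
            have hzv2 : (z * v) * (z * v) = 1 := by
              calc z * v * (z * v) = z * (v * z) * v := by group
                _ = z * z * (v * v) := by rw [← hzc v (d.le hv)]; group
                _ = 1 := by rw [hzz, d.sq hv, one_mul]
            have hl1 : Line V J z :=
              (d.line_iff_four hzz hz1 (fun e => hznV (e ▸ d.memJ)) hzJ).mpr hF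
            have hzvnJ : z * v ≠ J := fun e => hznV (by
              have := mul_mem (e ▸ d.memJ : z * v ∈ V) (inv_mem hv)
              rwa [mul_inv_cancel_right] at this)
            have hl2' : Line V J (z * v) := (d.line_iff_four hzv2 hzv1 hzvnJ hzvJ).mpr hFv
            have hsub : ({z, z * J, z * v} : Set G) ⊆ {s : G | Line V J s ∧ s • a = b} := by
              intro t ht
              simp only [Set.mem_insert_iff, Set.mem_singleton_iff] at ht
              rcases ht with e | e | e <;> rw [e]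
              · exact ⟨hl1, hza⟩
              · exact ⟨d.line_mulJ hl1, by rw [mul_smul, d.a_fixed J d.memJ, hza]⟩
              · exact ⟨hl2', by rw [mul_smul, d.a_fixed v hv, hza]⟩
            have := Set.ncard_le_ncard hsub (Set.toFinite _)
            rw [Set.ncard_insert_of_notMem, Set.ncard_pair (fun e => hvJ (mul_left_cancel e).symm)] at this
            · rw [lNum] at hl
              omega
            · simp only [Set.mem_insert_iff, Set.mem_singleton_iff]
              rintro (e | e)
              · exact d.neJ (mul_eq_left.mp e.symm)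
              · exact hv1 (mul_eq_left.mp e.symm)
          have hzwc : (z * w) • c = c := by rw [mul_smul, hcV w hw, hzc']
          have hwJne : w * J ≠ J := fun e => hw1 (mul_eq_right.mp e)
          have hJw' : J ≠ z * w * J := fun e => hzw1 (mul_eq_right.mp e.symm)
          refine d.bad_three hzwgood hzwc (t₁ := J) (t₂ := z * w * J) (t₃ := w * J) hJw' (Ne.symm hwJne)
            (fun e => hznV ?_) ?_
          · have e' := mul_right_cancel e
            have := mul_eq_right.mp e'
            rw [this]; exact V.one_mem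
          intro t ht
          simp only [Set.mem_insert_iff, Set.mem_singleton_iff] at ht
          rcases ht with e | e | e <;> rw [e]
          · exact ⟨⟨d.sq d.memJ, d.neJ, hzwJ.symm, fun h => hnline w hw hw1 hwJ (four_symm h)⟩, hJc⟩
          · refine ⟨⟨?_, ?_, ?_, fun h => ?_⟩, by rw [mul_smul, hJc, hzwc]⟩
            · calc z * w * J * (z * w * J) = z * w * (J * (z * w)) * J := by group
                _ = z * w * (z * w) * (J * J) := by rw [← hzwJ]; group
                _ = 1 := by rw [hzw2, d.sq d.memJ, one_mul]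
            · intro e
              apply hznV
              have := mul_eq_one_iff_eq_inv.mp (show z * (w * J) = 1 by rw [← mul_assoc, e])
              rw [this]; exact inv_mem (mul_mem hw d.memJ)
            · rw [mul_assoc (z * w) J (z * w), ← hzwJ]
            · obtain ⟨p, q, hne, ⟨h1, h2⟩, h3', h4⟩ := h
              refine hnline w hw hw1 hwJ ⟨p, q, hne, ⟨?_, h1⟩, ?_, h3'⟩
              · rw [hzwJ, mul_smul, h1] at h2
                exact h2
              · rw [hzwJ, mul_smul, h3'] at h4
                exact h4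
          · refine ⟨⟨d.sq (mul_mem hw d.memJ), hwJ1, ?_, fun h => ?_⟩,
              by rw [mul_smul, hJc, hcV w hw]⟩
            · calc w * J * (z * w) = w * (J * z) * w := by group
                _ = w * z * (J * w) := by rw [← hzJ]; group
                _ = z * w * (w * J) := by rw [← hzc w (d.le hw), d.comm d.memJ hw]
            · obtain ⟨k, hk, hkN, hke⟩ := d.rot_conj (w * J) (mul_mem hw d.memJ) hwJ1
              have h' := four_conj (g := k⁻¹) (four_symm h)
              rw [show k⁻¹ * (z * w) * k⁻¹⁻¹ = z * (k⁻¹ * w * k) by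
                rw [inv_inv, ← mul_assoc, ← hzc k⁻¹ (inv_mem hk)]; group,
                show k⁻¹ * (w * J) * k⁻¹⁻¹ = J by rw [← hke]; group] at h'
              refine hnline _ ((Subgroup.mem_normalizer_iff''.mp hkN w).mp hw) ?_ ?_ h'
              · intro e
                refine hw1 ?_
                calc w = k * (k⁻¹ * w * k) * k⁻¹ := by group
                  _ = 1 := by rw [e]; group
              · intro e
                refine d.neJ (mul_eq_left.mp (show w * J = w from ?_))
                rw [← hke, ← e]; group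
        · refine d.bad_three hzgood hzc' (t₁ := J) (t₂ := w) (t₃ := w * J) (Ne.symm hwJ)
            (fun e => hw1 (mul_eq_right.mp e.symm)) (fun e => d.neJ (mul_eq_left.mp e.symm)) ?_
          intro t ht
          simp only [Set.mem_insert_iff, Set.mem_singleton_iff] at ht
          rcases ht with e | e | e <;> rw [e]
          · exact ⟨⟨d.sq d.memJ, d.neJ, hzJ.symm, fun h => hF (four_symm h)⟩, hJc⟩
          · exact ⟨⟨d.sq hw, hw1, (hzc w (d.le hw)).symm, fun h => hF (hshift w hw hw1 (four_symm h))⟩,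
              hcV w hw⟩
          · exact ⟨⟨d.sq (mul_mem hw d.memJ), hwJ1, (hzc _ (d.le (mul_mem hw d.memJ))).symm,
              fun h => hF (hshift _ (mul_mem hw d.memJ) hwJ1 (four_symm h))⟩,
              by rw [mul_smul, hJc, hcV w hw]⟩
      omega
  · omega

end Data

end Cfsg.Agent.TwoPtAlt
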