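import Cfsg.Agent.Lib.GW.Consequences
import Cfsg.Agent.Lib.GW.AlmostTarget
import Cfsg.Agent.Lib.GW.OddInvariant
import Cfsg.Agent.Lib.SelfCentNC.PSL
import Cfsg.Agent.Lib.Classical.PSL2Subgroups
import Cfsg.Agent.Lib.JanThom.PSL2Tori
import Cfsg.Agent.Lib.AbPPrime.Core
import Cfsg.Agent.Lib.SubThree.PSLFacts

/-!
# Fours and involutions in the almost simple groups with dihedral Sylow 2-subgroups
-/

set_option autoImplicit false
set_option linter.unusedSectionVars false
set_option linter.style.haveILetI false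

namespace Cfsg.Agent.TwoPtAlt

open scoped Classical

universe u

section Basics

variable {Y : Type u} [Group Y] [Finite Y]

theorem card_inf_mul_relIndex' (N C : Subgroup Y) :
    Nat.card ↥(N ⊓ C) * N.relIndex C = Nat.card C := by
  rw [Subgroup.relIndex, ← Subgroup.card_mul_index (N.subgroupOf C), ← Subgroup.inf_subgroupOf_right,
    Nat.card_congr (Subgroup.subgroupOfEquivOfLe (inf_le_right : N ⊓ C ≤ C)).toEquiv]

/-- The conjugates of `V` under `C` inject into any set of subgroups containing them. -/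
theorem relIndex_normalizer_le (V C : Subgroup Y) (T : Set (Subgroup Y))
    (hT : ∀ c ∈ C, V.map (MulAut.conj c).toMonoidHom ∈ T) :
    (Subgroup.normalizer (V : Set Y)).relIndex C ≤ T.ncard := by
  rw [Subgroup.relIndex, Subgroup.index_eq_card, ← Nat.card_coe_set_eq]
  refine Nat.card_le_card_of_injective
    (fun q : C ⧸ (Subgroup.normalizer (V : Set Y)).subgroupOf C =>
      (⟨V.map (MulAut.conj ((q.out : C) : Y)).toMonoidHom, hT _ (q.out).2⟩ : T)) ?_
  intro q q' e
  have e' := congrArg Subtype.val e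
  rw [← q.out_eq', ← q'.out_eq', QuotientGroup.eq, Subgroup.mem_subgroupOf]
  refine FourGroup.mem_normalizer_of_map ?_
  have e2 := congrArg (Subgroup.map (MulAut.conj (((q.out : C) : Y)⁻¹)).toMonoidHom) e'
  dsimp only at e2
  rw [Subgroup.map_map, Subgroup.map_map] at e2
  have h1 : ∀ x y : Y, ((MulAut.conj x).toMonoidHom.comp (MulAut.conj y).toMonoidHom) =
      (MulAut.conj (x * y)).toMonoidHom := fun x y => by ext z; simp [mul_assoc]
  rw [h1, h1, inv_mul_cancel] at e2
  have h2 : (MulAut.conj (1 : Y)).toMonoidHom = MonoidHom.id Y := by ext z; simp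
  rw [h2, Subgroup.map_id] at e2
  rw [Subgroup.coe_mul, Subgroup.coe_inv]
  exact e2.symm

/-- A nontrivial `2`-group in which `s` has at most two conjugates. -/
theorem card_le_eight {V M : Subgroup Y} (hV : Nat.card V = 4) {b c : Y}
    (hfix : ∀ g ∈ M, g * b = b * g → g ∈ V) (him : ∀ g ∈ M, g * b * g⁻¹ = b ∨ g * b * g⁻¹ = c) :
    Nat.card M ≤ 8 := by
  have key : ∀ d : Y, Set.ncard {g : Y | g ∈ M ∧ g * b * g⁻¹ = d} ≤ 4 := by
    intro d
    rcases Set.eq_empty_or_nonempty {g : Y | g ∈ M ∧ g * b * g⁻¹ = d} with h | ⟨g0, hg0, hd0⟩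
    · rw [h, Set.ncard_empty]; norm_num
    · rw [← hV, ← Nat.card_coe_set_eq]
      refine Nat.card_le_card_of_injective (fun g => ⟨g0⁻¹ * g.1, hfix _
        (mul_mem (inv_mem hg0) g.2.1) ?_⟩) fun g g' e => Subtype.ext
          (mul_left_cancel (congrArg Subtype.val e :))
      calc g0⁻¹ * g.1 * b = g0⁻¹ * (g.1 * b * g.1⁻¹) * g.1 := by group
        _ = g0⁻¹ * (g0 * b * g0⁻¹) * g.1 := by rw [g.2.2, hd0]
        _ = b * (g0⁻¹ * g.1) := by group
  have hsub : (M : Set Y) ⊆ {g : Y | g ∈ M ∧ g * b * g⁻¹ = b} ∪ {g : Y | g ∈ M ∧ g * b * g⁻¹ = c} :=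
    fun g hg => (him g hg).imp (fun e => ⟨hg, e⟩) fun e => ⟨hg, e⟩
  have h := (Set.ncard_le_ncard hsub (Set.toFinite _)).trans (Set.ncard_union_le _ _)
  rw [← Nat.card_coe_set_eq] at h
  have h1 := key b
  have h2 := key c
  simp only [SetLike.coe_sort_coe] at h
  omega

end Basics

section PSL

variable {F : Type} [Field F] [Fintype F]

local notation "P" => Matrix.ProjectiveSpecialLinearGroup (Fin 2) F

open PSL2Inv in
/-- An involution `t` of a four-group in `PSL₂(q)`, `q` odd. -/
theorem psl_local (hodd : Odd (Fintype.card F)) (V : Subgroup P) (hV : IsKleinFour V) {t : P}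
    (ht : t ∈ V) (ht1 : t ≠ 1) :
    ∃ u, 0 < u ∧ (Fintype.card F = 4 * u + 1 ∨ Fintype.card F + 1 = 4 * u) ∧
      (Fintype.card F = 4 * u + 1 →
        (Subgroup.centralizer ({t} : Set P)).index = Fintype.card F * (2 * u + 1)) ∧
      (Fintype.card F + 1 = 4 * u →
        (Subgroup.centralizer ({t} : Set P)).index = Fintype.card F * (2 * u - 1)) ∧
      Nat.card (Subgroup.centralizer ({t} : Set P)) = 4 * u ∧
      Set.ncard {W : Subgroup P | IsKleinFour W ∧ t ∈ W} = u ∧
      Subgroup.centralizer (V : Set P) ≤ V ∧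
      (Even u → ∃ x : P, x * t = t * x ∧ x ∉ V ∧ ∀ v ∈ V, x * v * x⁻¹ ∈ V) := by
  have hodd' : Odd (Nat.card F) := by rwa [Nat.card_eq_fintype_card]
  have h2 : (2 : F) ≠ 0 := PSL2Sub.two_ne_zero_of_odd hodd'
  have htt := FourGroup.mul_self_of_mem hV ht
  obtain ⟨hd4, hcard⟩ := SubThree.card_cent_invol hodd htt ht1
  obtain ⟨u, hu⟩ := hd4
  obtain ⟨c, hc⟩ := isConj_iff.1 (isConj_pr_w h2 htt ht1)
  have hC : Nat.card (SL2Inv.C : Subgroup (Matrix.SpecialLinearGroup (Fin 2) F)) = 4 * u := by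
    rw [← hu, ← card_centralizer h2, ← hc]
    exact (BSW.card_Cz_conj _ c).symm
  have hu0 : 0 < u := by
    have := Nat.card_pos (α := Subgroup.centralizer ({t} : Set P))
    omega
  have hidx : Nat.card (Subgroup.centralizer ({t} : Set P)) *
      (Subgroup.centralizer ({t} : Set P)).index = Nat.card P := Subgroup.card_mul_index _
  have h2P := JanThom.two_mul_card_L (F := F) hodd'
  rw [Nat.card_eq_fintype_card (α := F)] at h2P
  rw [hu] at hidx
  refine ⟨u, hu0, ?_, fun hq => ?_, fun hq => ?_, hu, ?_, ?_, ?_⟩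
  · rcases hcard with e | e <;> omega
  · rw [← hidx, hq, show 4 * u + 1 - 1 = 4 * u by omega, show 4 * u + 1 + 1 = 2 * (2 * u + 1) by omega]
      at h2P
    rw [hq]
    refine Nat.eq_of_mul_eq_mul_left (show 0 < 2 * (4 * u) by omega) ?_
    rw [mul_assoc, h2P]
    ring
  · rw [← hidx, hq, show Fintype.card F - 1 = 2 * (2 * u - 1) by omega] at h2P
    refine Nat.eq_of_mul_eq_mul_left (show 0 < 2 * (4 * u) by omega) ?_
    rw [mul_assoc, h2P]
    ring
  · have h4 := card_fours_through (F := F) h2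
    rw [hC] at h4
    rw [← Nat.card_coe_set_eq]
    have e : Nat.card {W : Subgroup P // IsKleinFour W ∧ pr SL2Inv.w ∈ W} = u := by omega
    rw [← e]
    refine (Nat.card_congr ((MulAut.conj c).mapSubgroup.toEquiv.subtypeEquiv fun W => ?_)).symm
    show IsKleinFour W ∧ pr SL2Inv.w ∈ W ↔ IsKleinFour (W.map (MulAut.conj c).toMonoidHom) ∧
      t ∈ W.map (MulAut.conj c).toMonoidHom
    constructor
    · rintro ⟨hW, hw⟩
      exact ⟨FourGroup.isKleinFour_map _ hW, _, hw, by simpa using hc⟩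
    · rintro ⟨hW, hw⟩
      constructor
      · have h := FourGroup.isKleinFour_map (MulAut.conj c).symm hW
        rwa [Subgroup.map_map, show (MulAut.conj c).symm.toMonoidHom.comp (MulAut.conj c).toMonoidHom =
          MonoidHom.id P by ext x; simp, Subgroup.map_id] at h
      · rw [Subgroup.mem_map_equiv, ← hc] at hw
        simpa [mul_assoc] using hw
  · intro x hx
    have hV' := FourGroup.isKleinFour_map (MulAut.conj c⁻¹) hV
    obtain ⟨g, hg, he⟩ := exists_eq_W h2 hV'
      ⟨t, ht, by show c⁻¹ * t * c⁻¹⁻¹ = _; rw [← hc]; group⟩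
    have hm : c⁻¹ * x * c ∈ Subgroup.centralizer (W g hg : Set P) := by
      rw [← he]
      refine Subgroup.mem_centralizer_iff.2 ?_
      rintro _ ⟨v, hv, rfl⟩
      show c⁻¹ * v * c⁻¹⁻¹ * (c⁻¹ * x * c) = c⁻¹ * x * c * (c⁻¹ * v * c⁻¹⁻¹)
      calc c⁻¹ * v * c⁻¹⁻¹ * (c⁻¹ * x * c) = c⁻¹ * (v * x) * c := by group
        _ = c⁻¹ * (x * v) * c := by rw [Subgroup.mem_centralizer_iff.1 hx v hv]
        _ = _ := by group
    have hm' := PSL2Sub.centralizer_W_le h2 hg hm
    rw [← he] at hm'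
    obtain ⟨v, hv, hvx⟩ := hm'
    have : c⁻¹ * v * c⁻¹⁻¹ = c⁻¹ * x * c := hvx
    rw [inv_inv] at this
    rwa [← mul_left_cancel (mul_right_cancel this)]
  · rintro ⟨r, hr⟩
    obtain ⟨g, hg, he⟩ := exists_eq_W h2 (FourGroup.isKleinFour_map (MulAut.conj c⁻¹) hV)
      ⟨t, ht, by show c⁻¹ * t * c⁻¹⁻¹ = _; rw [← hc]; group⟩
    obtain ⟨d, hd, hdd⟩ := PSL2Sub.exists_sqrt_w h2 ⟨r, by rw [hC, hr]; ring⟩
    have hdw : pr d * pr SL2Inv.w * (pr d)⁻¹ = pr SL2Inv.w := by
      rw [← map_inv, ← map_mul, ← map_mul, SL2Inv.mem_C.1 hd, mul_inv_cancel_right]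
    have hdj : pr d * pr g * (pr d)⁻¹ = pr SL2Inv.w * pr g := by
      have h := hg.conj_C (inv_mem hd)
      rw [inv_inv, mul_inv_eq_iff_eq_mul] at h
      rw [← map_inv, ← map_mul, ← map_mul, ← h, mul_assoc g, ← _root_.mul_inv_rev, hdd,
        SL2Inv.inv_eq_of_trace SL2Inv.w SL2Inv.trace_w, ← mul_assoc, ← SL2Inv.negOne_comm g,
        mul_assoc, hg.2, ← mul_assoc, SL2Inv.negOne_mul_self, one_mul, map_mul]
    have hmemW : ∀ v ∈ V, c⁻¹ * v * c ∈ W g hg := fun v hv => by
      rw [← he]; exact ⟨v, hv, by simp⟩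
    have hWmem : ∀ z ∈ W g hg, c * z * c⁻¹ ∈ V := fun z hz => by
      rw [← he] at hz
      obtain ⟨v, hv, rfl⟩ := hz
      simpa [mul_assoc] using hv
    refine ⟨c * pr d * c⁻¹, ?_, fun hx => ?_, fun v hv => ?_⟩
    · have h' : pr d * pr SL2Inv.w = pr SL2Inv.w * pr d := mul_inv_eq_iff_eq_mul.1 hdw
      rw [← hc]
      calc c * pr d * c⁻¹ * (c * pr SL2Inv.w * c⁻¹) = c * (pr d * pr SL2Inv.w) * c⁻¹ := by group
        _ = c * (pr SL2Inv.w * pr d) * c⁻¹ := by rw [h']
        _ = _ := by group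
    · have hx' : pr d ∈ W g hg := by simpa [mul_assoc] using hmemW _ hx
      have hcm := FourGroup.comm_of_mem (isKleinFour_W h2 hg) hx' (pr_mem_W hg)
      rw [hcm, mul_inv_cancel_right] at hdj
      exact pr_ne_one h2 SL2Inv.trace_w (mul_eq_right.1 hdj.symm)
    · have hz := hmemW v hv
      have hin : pr d * (c⁻¹ * v * c) * (pr d)⁻¹ ∈ W g hg := by
        rcases FourGroup.mem_four.1 hz with e | e | e | e <;> rw [e]
        · simp
        · rw [hdw]; exact pr_w_mem_W hg
        · rw [hdj]; exact mul_mem (pr_w_mem_W hg) (pr_mem_W hg)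
        · rw [← conj_mul, hdw, hdj, ← mul_assoc]
          exact mul_mem (mul_mem (pr_w_mem_W hg) (pr_w_mem_W hg)) (pr_mem_W hg)
      simpa [mul_assoc] using hWmem _ hin

end PSL

section Almost

variable {Y : Type u} [Group Y] [Finite Y]

/-- The numbers for a normal subgroup isomorphic to `PSL₂(q)`. -/
theorem socle_numbers {F : Type} [Field F] [Fintype F] (hodd : Odd (Fintype.card F))
    (L : Subgroup Y) [L.Normal] (e : L ≃* Matrix.ProjectiveSpecialLinearGroup (Fin 2) F)
    (V : Subgroup Y) (hV : IsKleinFour V) (hVL : V ≤ L) {t : Y} (ht : t ∈ V) (ht1 : t ≠ 1) :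
    ∃ u, 0 < u ∧ (Fintype.card F = 4 * u + 1 ∨ Fintype.card F + 1 = 4 * u) ∧
      (Fintype.card F = 4 * u + 1 →
        (Subgroup.centralizer ({t} : Set Y)).index = Fintype.card F * (2 * u + 1)) ∧
      (Fintype.card F + 1 = 4 * u →
        (Subgroup.centralizer ({t} : Set Y)).index = Fintype.card F * (2 * u - 1)) ∧
      (Odd u → (Subgroup.normalizer (V : Set Y)).relIndex (Subgroup.centralizer ({t} : Set Y)) = u) ∧
      (Even u →
        2 * (Subgroup.normalizer (V : Set Y)).relIndex (Subgroup.centralizer ({t} : Set Y)) = u ∨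
          (Subgroup.normalizer (V : Set Y)).relIndex (Subgroup.centralizer ({t} : Set Y)) = u) ∧
      4 * u ∣ Nat.card (Subgroup.centralizer ({t} : Set Y)) ∧
      (Odd L.index → Even u →
        2 * (Subgroup.normalizer (V : Set Y)).relIndex (Subgroup.centralizer ({t} : Set Y)) = u) := by
  set P := Matrix.ProjectiveSpecialLinearGroup (Fin 2) F
  let ψ : P →* Y := L.subtype.comp e.symm.toMonoidHom
  have hψ : Function.Injective ψ := Subtype.val_injective.comp e.symm.injective
  have hψL : ∀ x ∈ L, ∃ p : P, ψ p = x := fun x hx => ⟨e ⟨x, hx⟩, by simp [ψ]⟩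
  have hψm : ∀ p : P, ψ p ∈ L := fun p => (e.symm p).2
  have hV' : IsKleinFour ↥(V.comap ψ) := by
    refine FourGroup.subgroupOf_isKleinFour (V := V) hV hVL |> fun h => ?_
    have h2 := FourGroup.isKleinFour_map e h
    have he : (V.subgroupOf L).map e.toMonoidHom = V.comap ψ := by
      ext p
      rw [Subgroup.mem_map_equiv, Subgroup.mem_subgroupOf, Subgroup.mem_comap]
      rfl
    rwa [he] at h2
  obtain ⟨t', ht'⟩ := hψL t (hVL ht)
  have ht'V : t' ∈ V.comap ψ := by rw [Subgroup.mem_comap, ht']; exact ht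
  have ht'1 : t' ≠ 1 := fun h => ht1 (by rw [← ht', h, map_one])
  obtain ⟨u, hu0, hq, h1, h3, hc, hf, hcV, hx⟩ := psl_local hodd _ hV' ht'V ht'1
  have htt : t * t = 1 := FourGroup.mul_self_of_mem hV ht
  have ht'2 : t' * t' = 1 := hψ (by rw [map_mul, ht', htt, map_one])
  have hclass : Nat.card {y : Y // IsConj t y} = Nat.card {p : P // IsConj t' p} := by
    refine (Nat.card_congr (Equiv.ofBijective
      (fun p : {p : P // IsConj t' p} => (⟨ψ p.1, ?_⟩ : {y : Y // IsConj t y})) ⟨?_, ?_⟩)).symm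
    · obtain ⟨g, hg⟩ := isConj_iff.1 p.2
      exact isConj_iff.2 ⟨ψ g, by rw [← hg, map_mul, map_mul, map_inv, ht']⟩
    · intro p p' h
      exact Subtype.ext (hψ (congrArg Subtype.val h :))
    · rintro ⟨y, hy⟩
      obtain ⟨g, rfl⟩ := isConj_iff.1 hy
      obtain ⟨p, hp⟩ := hψL (g * t * g⁻¹) ((inferInstance : L.Normal).conj_mem t (hVL ht) g)
      have h2' : (2 : F) ≠ 0 := PSL2Sub.two_ne_zero_of_odd (by rwa [Nat.card_eq_fintype_card])
      have hp2 : p * p = 1 := hψ (by
        rw [map_mul, hp, map_one, show g * t * g⁻¹ * (g * t * g⁻¹) = g * (t * t) * g⁻¹ by group, htt]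
        group)
      have hp1 : p ≠ 1 := fun h => ht1 (by
        rw [h, map_one] at hp
        exact conj_eq_one_iff.1 hp.symm)
      exact ⟨⟨p, ((PSL2Inv.isConj_pr_w h2' ht'2 ht'1).symm).trans (PSL2Inv.isConj_pr_w h2' hp2 hp1)⟩,
        Subtype.ext hp⟩
  have hindex : (Subgroup.centralizer ({t} : Set Y)).index =
      (Subgroup.centralizer ({t'} : Set P)).index := by
    have a1 := FourGroup.card_class_mul_centralizer t
    have a2 := Subgroup.card_mul_index (Subgroup.centralizer ({t} : Set Y))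
    have b1 := FourGroup.card_class_mul_centralizer t'
    have b2 := Subgroup.card_mul_index (Subgroup.centralizer ({t'} : Set P))
    rw [hclass] at a1
    rw [← a1, mul_comm] at a2
    rw [← b1, mul_comm] at b2
    exact (Nat.eq_of_mul_eq_mul_right Nat.card_pos a2).trans
      (Nat.eq_of_mul_eq_mul_right Nat.card_pos b2).symm
  set N := Subgroup.normalizer (V : Set Y) with hN
  set C := Subgroup.centralizer ({t} : Set Y) with hCdef
  set k := N.relIndex C with hk
  have hcmem : ∀ {g : Y}, g ∈ C ↔ g * t = t * g := Subgroup.mem_centralizer_singleton_iff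
  have hkle : k ≤ u := by
    refine (relIndex_normalizer_le V C ((Subgroup.map ψ) '' {W | IsKleinFour W ∧ t' ∈ W}) ?_).trans
      ((Set.ncard_image_le (Set.toFinite _)).trans hf.le)
    intro c hcC
    have hW : IsKleinFour ↥((V.map (MulAut.conj c).toMonoidHom).comap ψ) := by
      have hWL : V.map (MulAut.conj c).toMonoidHom ≤ L := by
        rintro _ ⟨v, hv, rfl⟩
        exact (inferInstance : L.Normal).conj_mem v (hVL hv) c
      have h2 := FourGroup.isKleinFour_map e
        (FourGroup.subgroupOf_isKleinFour (FourGroup.isKleinFour_map (MulAut.conj c) hV) hWL)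
      have he : ((V.map (MulAut.conj c).toMonoidHom).subgroupOf L).map e.toMonoidHom =
          (V.map (MulAut.conj c).toMonoidHom).comap ψ := by
        ext p
        rw [Subgroup.mem_map_equiv, Subgroup.mem_subgroupOf, Subgroup.mem_comap]
        rfl
      rwa [he] at h2
    refine ⟨_, ⟨hW, ⟨t, ht, ?_⟩⟩, Subgroup.map_comap_eq_self ?_⟩
    · show c * t * c⁻¹ = ψ t'
      rw [hcmem.1 hcC, mul_inv_cancel_right, ht']
    · rintro _ ⟨v, hv, rfl⟩
      exact hψL _ ((inferInstance : L.Normal).conj_mem v (hVL hv) c)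
  have hLC : Nat.card ↥(L ⊓ C) = 4 * u := by
    rw [← hc, ← Subgroup.card_map_of_injective hψ (K := Subgroup.centralizer ({t'} : Set P))]
    refine Nat.card_congr (Equiv.setCongr ?_)
    ext y
    constructor
    · rintro ⟨hyL, hyC⟩
      obtain ⟨p, rfl⟩ := hψL y hyL
      exact ⟨p, Subgroup.mem_centralizer_singleton_iff.2 (hψ (by
        rw [map_mul, map_mul, ht']; exact hcmem.1 hyC)), rfl⟩
    · rintro ⟨p, hp, rfl⟩
      refine ⟨hψm p, hcmem.2 ?_⟩
      rw [← ht', ← map_mul, ← map_mul, Subgroup.mem_centralizer_singleton_iff.1 hp]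
  set M := L ⊓ C ⊓ N with hM
  obtain ⟨b, hb, hb1, hbt⟩ := FourGroup.exists_two hV (a := t)
  have hM8 : Nat.card M ≤ 8 := by
    refine card_le_eight (b := b) (c := t * b) (V := V) hV.card_four (fun g hg hgb => ?_) fun g hg => ?_
    · obtain ⟨p, hp⟩ := hψL g hg.1.1
      have hpc : p ∈ Subgroup.centralizer ((V.comap ψ : Subgroup P) : Set P) := by
        refine Subgroup.mem_centralizer_iff.2 fun v hv => hψ ?_
        rw [map_mul, map_mul, hp]
        rw [SetLike.mem_coe, Subgroup.mem_comap, FourGroup.eq_four hV ht hb ht1 hb1 hbt.symm,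
          FourGroup.mem_four] at hv
        have hgt := hcmem.1 hg.1.2
        rcases hv with e1 | e1 | e1 | e1 <;> rw [e1]
        · rw [one_mul, mul_one]
        · exact hgt.symm
        · exact hgb.symm
        · rw [mul_assoc, ← hgb, ← mul_assoc, ← hgt, mul_assoc]
      have := hcV hpc
      rw [Subgroup.mem_comap, hp] at this
      exact this
    · have hv : g * b * g⁻¹ ∈ V := (Subgroup.mem_normalizer_iff.1 hg.2 b).1 hb
      rw [FourGroup.eq_four hV ht hb ht1 hb1 hbt.symm, FourGroup.mem_four] at hv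
      have hgt := hcmem.1 hg.1.2
      rcases hv with e1 | e1 | e1 | e1
      · exact absurd (conj_eq_one_iff.1 e1) hb1
      · refine absurd ?_ hbt
        calc b = g⁻¹ * (g * b * g⁻¹) * g := by group
          _ = g⁻¹ * (t * g) := by rw [e1, mul_assoc]
          _ = t := by rw [← hgt, inv_mul_cancel_left]
      · exact Or.inl e1
      · exact Or.inr e1
  have hVM : V ≤ M := fun v hv => ⟨⟨hVL hv, hcmem.2 (FourGroup.comm_of_mem hV hv ht)⟩,
    Subgroup.le_normalizer hv⟩
  have hMd : 4 ∣ Nat.card M := hV.card_four ▸ Subgroup.card_dvd_of_le hVM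
  have hkL : Nat.card M * N.relIndex (L ⊓ C) = 4 * u := by
    have h := card_inf_mul_relIndex' N (L ⊓ C)
    rw [hLC, inf_comm N] at h
    exact h
  have hr : L.relIndex (N ⊓ C) ∣ L.relIndex C := by
    rw [← Subgroup.relIndex_subgroupOf (inf_le_right : N ⊓ C ≤ C)]
    exact Subgroup.relIndex_dvd_index_of_normal _ _
  obtain ⟨m, hm⟩ := hr
  have hkm : k = N.relIndex (L ⊓ C) * m := by
    have a1 := card_inf_mul_relIndex' N C
    have a2 := card_inf_mul_relIndex' L C
    have a3 := card_inf_mul_relIndex' L (N ⊓ C)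
    rw [show L ⊓ (N ⊓ C) = M by rw [hM, inf_comm N C, inf_assoc]] at a3
    rw [hm, hLC, ← hkL] at a2
    have hrpos : 0 < L.relIndex (N ⊓ C) := Nat.pos_of_ne_zero Subgroup.index_ne_zero_of_finite
    refine Nat.eq_of_mul_eq_mul_left (Nat.mul_pos (Nat.card_pos (α := M)) hrpos) ?_
    rw [a3, a1, ← a2, ← a3]
    ring
  refine ⟨u, hu0, hq, fun h => hindex.trans (h1 h), fun h => hindex.trans (h3 h), fun hodd' => ?_,
    fun hev => ?_, hLC ▸ Subgroup.card_dvd_of_le inf_le_right, fun hLodd hev => ?_⟩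
  all_goals
    have hm0 : 0 < m := Nat.pos_of_ne_zero fun h => by
      rw [h, mul_zero] at hm
      exact absurd hm Subgroup.index_ne_zero_of_finite
    obtain ⟨r, hr4⟩ := hMd
    have hr2 : r = 1 ∨ r = 2 := by
      have := Nat.card_pos (α := M)
      omega
  · rcases hr2 with rfl | rfl <;> rw [hr4] at hkL
    · have e1 : N.relIndex (L ⊓ C) = u := by omega
      rw [e1] at hkm
      rcases Nat.lt_or_ge m 2 with hlt | hge
      · rw [show m = 1 by omega, mul_one] at hkm; exact hkm
      · exfalso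
        have := Nat.mul_le_mul_left u hge
        omega
    · exfalso
      obtain ⟨s, rfl⟩ := hodd'
      omega
  · rcases hr2 with rfl | rfl <;> rw [hr4] at hkL
    · have e1 : N.relIndex (L ⊓ C) = u := by omega
      rw [e1] at hkm
      rcases Nat.lt_or_ge m 2 with hlt | hge
      · rw [show m = 1 by omega, mul_one] at hkm; exact Or.inr hkm
      · exfalso
        have := Nat.mul_le_mul_left u hge
        omega
    · have e1 : 2 * N.relIndex (L ⊓ C) = u := by omega
      rcases Nat.lt_or_ge m 3 with hlt | hge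
      · interval_cases m
        · left; omega
        · right; omega
      · exfalso
        have := Nat.mul_le_mul_left (N.relIndex (L ⊓ C)) hge
        omega
  · obtain ⟨x, hxt, hxV, hxN⟩ := hx hev
    have hxM : ψ x ∈ M := by
      refine ⟨⟨hψm x, hcmem.2 (by rw [← ht', ← map_mul, ← map_mul, hxt])⟩, ?_⟩
      refine Subgroup.mem_normalizer_fintype fun v hv => ?_
      obtain ⟨p, hp⟩ := hψL v (hVL hv)
      rw [SetLike.mem_coe, ← hp] at hv ⊢
      have := hxN p (Subgroup.mem_comap.2 hv)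
      rw [Subgroup.mem_comap, map_mul, map_mul, map_inv] at this
      exact this
    have hr : r = 2 := by
      rcases hr2 with rfl | rfl
      · exfalso
        refine hxV (Subgroup.mem_comap.2 ?_)
        rw [Subgroup.eq_of_le_of_card_ge hVM (by rw [hr4, hV.card_four])]
        exact hxM
      · rfl
    subst hr
    rw [hr4] at hkL
    have e1 : 2 * N.relIndex (L ⊓ C) = u := by omega
    have hmodd : Odd m := by
      refine (hLodd.of_dvd_nat (Subgroup.relIndex_dvd_index_of_normal L C)).of_dvd_nat ?_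
      rw [hm]; exact dvd_mul_left m _
    rcases Nat.lt_or_ge m 3 with hlt | hge
    · interval_cases m
      · rw [hkm, mul_one]; exact e1
      · exact absurd hmodd (by decide)
    · exfalso
      have := Nat.mul_le_mul_left (N.relIndex (L ⊓ C)) hge
      omega

end Almost

end Cfsg.Agent.TwoPtAlt
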